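import Cfsg.Agent.Lib.MinIndexOrth.Types

/-!
Numbers of vectors of a given value in the complements of singular vectors, and counting invariant
families of totally singular subspaces through transitivity on singular points.
-/

set_option autoImplicit false
set_option linter.unusedSectionVars false

namespace CfsgLib.MinIndexOrth

open Matrix QuadraticMap CfsgLib.Orth CfsgLib.KnownSimple.ModulePerm

variable {ι : Type} [Fintype ι] [DecidableEq ι] {F : Type*} [Field F] [Fintype F]

namespace Space

variable (S : Space ι F)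

/-- number of vectors of value `c` -/
noncomputable def zc (c : F) : ℕ := Nat.card {v : ι → F // S.Q v = c}

/-- number of singular vectors orthogonal to a singular vector (including its multiples) -/
noncomputable def y0 : ℕ := S.zc 0 + Fintype.card F ^ (Fintype.card ι - 2) - Fintype.card F ^ (Fintype.card ι - 1)

/-- number of singular vectors orthogonal to a totally singular line (including its members) -/
noncomputable def y2 : ℕ := S.y0 + Fintype.card F ^ (Fintype.card ι - 3) - Fintype.card F ^ (Fintype.card ι - 2)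

/-- Splitting the vectors of value `c` of a subspace along a singular vector of it. -/
theorem card_value_split (W : Submodule F (ι → F)) {u : ι → F} (hu : u ∈ W) (hQu : S.Q u = 0) (c : F) :
    Fintype.card F * Nat.card {v : ι → F // v ∈ W ∧ S.Q v = c} + Nat.card (W ⊓ S.pp u : Submodule F (ι → F)) =
      Fintype.card F * Nat.card {v : ι → F // (v ∈ W ∧ polar S.Q u v = 0) ∧ S.Q v = c} + Nat.card W := by
  classical
  have hval : ∀ (v : ι → F) (t : F), S.Q (v + t • u) = S.Q v + t * polar S.Q u v := fun v t => by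
    rw [QuadraticMap.map_add ⇑S.Q, QuadraticMap.map_smul, hQu, polar_smul_right,
      polar_comm (f := ⇑S.Q) v u]
    simp
  have hpu : ∀ (v : ι → F) (t : F), polar S.Q u (v + t • u) = polar S.Q u v := fun v t => by
    rw [polar_add_right, polar_smul_right, S.polar_self_zero hQu, smul_zero, add_zero]
  let e : {v : ι → F // (v ∈ W ∧ polar S.Q u v ≠ 0) ∧ S.Q v = c} × F ≃
      {v : ι → F // v ∈ W ∧ polar S.Q u v ≠ 0} :=
    { toFun := fun x => ⟨x.1.1 + x.2 • u, W.add_mem x.1.2.1.1 (W.smul_mem _ hu),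
        by rw [hpu]; exact x.1.2.1.2⟩
      invFun := fun w => (⟨w.1 + (-((S.Q w.1 - c) / polar S.Q u w.1)) • u,
        ⟨W.add_mem w.2.1 (W.smul_mem _ hu), by rw [hpu]; exact w.2.2⟩, by
          rw [hval]
          have := w.2.2
          field_simp
          ring⟩, (S.Q w.1 - c) / polar S.Q u w.1)
      left_inv := fun x => by
        obtain ⟨⟨v, ⟨hv, hne⟩, hc⟩, t⟩ := x
        have ht : (S.Q (v + t • u) - c) / polar S.Q u (v + t • u) = t := by
          rw [hval, hpu, hc]; field_simp; ring
        refine Prod.ext (Subtype.ext ?_) ht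
        show v + t • u + (-((S.Q (v + t • u) - c) / polar S.Q u (v + t • u))) • u = v
        rw [ht]; module
      right_inv := fun w => Subtype.ext (by
        show w.1 + (-((S.Q w.1 - c) / polar S.Q u w.1)) • u + ((S.Q w.1 - c) / polar S.Q u w.1) • u = w.1
        module) }
  have h1 := Nat.card_congr e
  rw [Nat.card_prod, Nat.card_eq_fintype_card (α := F), mul_comm] at h1
  have hsplit : ∀ (P R : (ι → F) → Prop), Nat.card {v // P v} =
      Nat.card {v // P v ∧ R v} + Nat.card {v // P v ∧ ¬ R v} := fun P R => by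
    rw [← Nat.card_sum]
    exact Nat.card_congr (((Equiv.sumCompl fun v : {v // P v} => R v.1).symm).trans
      (Equiv.sumCongr (Equiv.subtypeSubtypeEquivSubtypeInter P R)
        (Equiv.subtypeSubtypeEquivSubtypeInter P fun v => ¬ R v)))
  have h2 := hsplit (fun v => v ∈ W ∧ S.Q v = c) (fun v => polar S.Q u v = 0)
  have h3 := hsplit (fun v => v ∈ W) (fun v => polar S.Q u v = 0)
  have a1 : Nat.card {v : ι → F // (v ∈ W ∧ S.Q v = c) ∧ polar S.Q u v = 0} =
      Nat.card {v : ι → F // (v ∈ W ∧ polar S.Q u v = 0) ∧ S.Q v = c} :=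
    Nat.card_congr (Equiv.subtypeEquivRight fun v => and_right_comm)
  have a2 : Nat.card {v : ι → F // (v ∈ W ∧ S.Q v = c) ∧ ¬ polar S.Q u v = 0} =
      Nat.card {v : ι → F // (v ∈ W ∧ polar S.Q u v ≠ 0) ∧ S.Q v = c} :=
    Nat.card_congr (Equiv.subtypeEquivRight fun v => and_right_comm)
  have a3 : Nat.card {v : ι → F // v ∈ W ∧ polar S.Q u v = 0} =
      Nat.card (W ⊓ S.pp u : Submodule F (ι → F)) :=
    Nat.card_congr (Equiv.subtypeEquivRight fun v => by rw [Submodule.mem_inf, S.mem_pp])
  rw [a1, a2] at h2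
  rw [a3] at h3
  change Nat.card W = _ at h3
  rw [h2, h3, mul_add, h1]
  simp only [ne_eq]
  omega

theorem cnt_add {p : ι → F} (hp : S.Q p = 0) (hp0 : p ≠ 0) (c : F) :
    S.cnt p c + Fintype.card F ^ (Fintype.card ι - 1) = S.zc c + Fintype.card F ^ (Fintype.card ι - 2) := by
  have h := S.card_value_split ⊤ (Submodule.mem_top (x := p)) hp c
  have e1 : Nat.card {v : ι → F // v ∈ (⊤ : Submodule F (ι → F)) ∧ S.Q v = c} = S.zc c :=
    Nat.card_congr (Equiv.subtypeEquivRight fun v => by simp)
  have e2 : Nat.card {v : ι → F // (v ∈ (⊤ : Submodule F (ι → F)) ∧ polar S.Q p v = 0) ∧ S.Q v = c} =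
      S.cnt p c := Nat.card_congr (Equiv.subtypeEquivRight fun v => by simp)
  rw [e1, e2, top_inf_eq, card_sub, card_sub, S.finrank_pp hp0, finrank_top,
    Module.finrank_fintype_fun_eq_card] at h
  have hn := S.seven
  rw [show Fintype.card ι - 1 = (Fintype.card ι - 2) + 1 by omega, pow_succ'] at h ⊢
  have e3 : Fintype.card F ^ Fintype.card ι =
      Fintype.card F * (Fintype.card F * Fintype.card F ^ (Fintype.card ι - 2)) := by
    rw [← pow_succ', ← pow_succ']
    congr 1
    omega
  rw [e3] at h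
  refine Nat.eq_of_mul_eq_mul_left (Fintype.card_pos (α := F)) ?_
  rw [mul_add, mul_add]
  omega

theorem cnt_zero {p : ι → F} (hp : S.Q p = 0) (hp0 : p ≠ 0) : S.cnt p 0 = S.y0 := by
  have := S.cnt_add hp hp0 0
  rw [y0]
  omega

theorem cnt_two {p u : ι → F} (hp : S.Q p = 0) (hp0 : p ≠ 0) (hu : S.Q u = 0)
    (hpu : polar S.Q p u = 0) (hus : u ∉ Submodule.span F {p}) :
    Nat.card {v : ι → F // (v ∈ S.pp p ∧ polar S.Q u v = 0) ∧ S.Q v = 0} = S.y2 := by
  have h := S.card_value_split (S.pp p) (S.mem_pp.2 hpu) hu 0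
  have e1 : Nat.card {v : ι → F // v ∈ S.pp p ∧ S.Q v = 0} = S.y0 := by
    rw [← S.cnt_zero hp hp0]
    exact Nat.card_congr (Equiv.subtypeEquivRight fun v => by rw [S.mem_pp])
  have e2 : S.pp p ⊓ S.pp u = S.orth (Submodule.span F {p, u}) := by
    ext v; simp [S.mem_pp, S.mem_orth_span]
  have e3 : Module.finrank F (Submodule.span F ({p, u} : Set (ι → F))) = 2 := by
    have hli := AutPOmega.independent_pair hp0 hus
    have := finrank_span_eq_card hli
    rw [show ({p, u} : Set (ι → F)) = Set.range ![p, u] by simp [Set.pair_comm]]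
    simpa using this
  rw [e1, e2, card_sub, card_sub, S.finrank_pp hp0, S.finrank_orth, e3] at h
  have hn := S.seven
  rw [show Fintype.card ι - 1 = (Fintype.card ι - 2) + 1 by omega, pow_succ',
    show Fintype.card ι - 2 = (Fintype.card ι - 3) + 1 by omega, pow_succ'] at h
  rw [y2, show Fintype.card ι - 2 = (Fintype.card ι - 3) + 1 by omega, pow_succ']
  set q := Fintype.card F
  set a := q ^ (Fintype.card ι - 3)
  set z := Nat.card {v : ι → F // (v ∈ S.pp p ∧ polar S.Q u v = 0) ∧ S.Q v = 0}
  have h2 : S.y0 + a = z + q * a := by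
    refine Nat.eq_of_mul_eq_mul_left (Fintype.card_pos (α := F)) ?_
    rw [mul_add, mul_add]
    exact h
  omega

/-! ### Families of totally singular subspaces -/

variable {S}

/-- totally singular -/
def TS (S : Space ι F) (W : Submodule F (ι → F)) : Prop := ∀ v ∈ W, S.Q v = 0

theorem TS.polar_eq {W : Submodule F (ι → F)} (h : S.TS W) {v w : ι → F} (hv : v ∈ W) (hw : w ∈ W) :
    polar S.Q v w = 0 := by
  rw [QuadraticMap.polar, h _ (add_mem hv hw), h v hv, h w hw]; simp

/-- the image of a subspace -/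
noncomputable def mapW (S : Space ι F) (g : S.G) (W : Submodule F (ι → F)) : Submodule F (ι → F) :=
  W.map (S.ap g)

theorem finrank_mapW (g : S.G) (W : Submodule F (ι → F)) :
    Module.finrank F (S.mapW g W) = Module.finrank F W :=
  (Submodule.equivMapOfInjective _ (S.ap_injective g) W).finrank_eq.symm

theorem TS.map {W : Submodule F (ι → F)} (h : S.TS W) (g : S.G) : S.TS (S.mapW g W) := by
  rintro _ ⟨v, hv, rfl⟩
  rw [S.Q_ap]; exact h v hv

theorem mapW_mul (g h : S.G) (W : Submodule F (ι → F)) : S.mapW (g * h) W = S.mapW g (S.mapW h W) := by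
  rw [mapW, mapW, mapW, ← Submodule.map_comp]
  congr 1
  exact LinearMap.ext fun x => S.ap_mul g h x

theorem mapW_one (W : Submodule F (ι → F)) : S.mapW 1 W = W := by
  rw [mapW, show S.ap 1 = LinearMap.id from LinearMap.ext S.ap_one, Submodule.map_id]

/-- the subspaces through `k` given vectors, given that each vector of a set lies in `b` of them -/
theorem cover_count (𝒲 : Finset (Submodule F (ι → F))) {j k b : ℕ}
    (U : Submodule F (ι → F)) (hU : Module.finrank F U = j)
    (hk : ∀ W ∈ 𝒲, Module.finrank F W = k ∧ U ≤ W) (P : Finset (ι → F)) (hP : ∀ v ∈ P, v ∉ U)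
    (hb : ∀ v ∈ P, b ≤ Nat.card {W // W ∈ 𝒲 ∧ v ∈ W}) :
    b * P.card ≤ 𝒲.card * (Fintype.card F ^ k - Fintype.card F ^ j) := by
  classical
  rw [mul_comm b, mul_comm 𝒲.card]
  refine le_trans ?_ (Finset.sum_le_card_nsmul 𝒲 (fun W => (P.filter fun v => v ∈ W).card)
    (Fintype.card F ^ k - Fintype.card F ^ j) ?_ |>.trans (le_of_eq (by rw [smul_eq_mul, mul_comm])))
  · calc P.card * b = ∑ _v ∈ P, b := by rw [Finset.sum_const, smul_eq_mul]
      _ ≤ ∑ v ∈ P, (𝒲.filter fun W => v ∈ W).card := Finset.sum_le_sum fun v hv => (hb v hv).trans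
          (le_of_eq (by
            rw [← Nat.card_eq_finsetCard]
            exact Nat.card_congr (Equiv.subtypeEquivRight fun W => (Finset.mem_filter (p := fun W => v ∈ W)).symm)))
      _ = ∑ W ∈ 𝒲, (P.filter fun v => v ∈ W).card := by
          simp only [Finset.card_filter]; exact Finset.sum_comm
  · intro W hW
    obtain ⟨hWk, hUW⟩ := hk W hW
    have h1 : (Finset.univ.filter fun v => v ∈ W).card = Fintype.card F ^ k := by
      rw [← Fintype.card_subtype, ← Nat.card_eq_fintype_card, ← hWk, ← card_sub]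
    have h2 : (Finset.univ.filter fun v => v ∈ U).card = Fintype.card F ^ j := by
      rw [← Fintype.card_subtype, ← Nat.card_eq_fintype_card, ← hU, ← card_sub]
    have hsub : (Finset.univ.filter fun v => v ∈ U) ⊆ Finset.univ.filter fun v => v ∈ W :=
      Finset.monotone_filter_right _ fun v _ h => hUW h
    rw [← h1, ← h2, ← Finset.card_sdiff_of_subset hsub]
    refine Finset.card_le_card fun v hv => ?_
    obtain ⟨h, h'⟩ := Finset.mem_filter.1 hv
    simp [h', hP v h]

variable (S)

/-- moving a member along the singular points of a complement -/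
theorem family_extend (𝒲 : Finset (Submodule F (ι → F))) {j : ℕ} (x : Fin j → ι → F)
    (hj : 2 * j + 2 < Fintype.card ι) (hinv : ∀ g ∈ S.gamma x, ∀ W ∈ 𝒲, S.mapW g W ∈ 𝒲)
    {W : Submodule F (ι → F)} (hW : W ∈ 𝒲) (hts : S.TS W) (hxW : ∀ i, x i ∈ W) {v : ι → F} (hv : v ∈ W)
    (hv' : v ∉ Submodule.span F (Set.range x)) {v' : ι → F} (hQ : S.Q v' = 0)
    (hp : ∀ i, polar S.Q (x i) v' = 0) (hs : v' ∉ Submodule.span F (Set.range x)) :
    ∃ W' ∈ 𝒲, (∀ i, x i ∈ W') ∧ v' ∈ W' := by
  obtain ⟨g, hg, c, hc, hgv⟩ := S.conn hj (hts v hv) hQ (fun i => hts.polar_eq (hxW i) hv) hp hv' hs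
  refine ⟨S.mapW g W, hinv g hg W hW, fun i => ⟨x i, hxW i, S.gamma_fix hg i⟩, ?_⟩
  refine ⟨c⁻¹ • v, W.smul_mem _ hv, ?_⟩
  rw [map_smul, hgv, smul_smul, inv_mul_cancel₀ hc, one_smul]

/-- singular vectors orthogonal to `p` outside its span -/
noncomputable def singP (p : ι → F) : Finset (ι → F) := by
  classical exact Finset.univ.filter fun v => (polar S.Q p v = 0 ∧ S.Q v = 0) ∧ v ∉ Submodule.span F {p}

theorem card_singP {p : ι → F} (hp : S.Q p = 0) (hp0 : p ≠ 0) :
    (S.singP p).card = S.y0 - Fintype.card F := by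
  classical
  rw [← S.cnt_zero hp hp0, singP, ← Finset.filter_filter, Finset.filter_not, cnt,
    Nat.card_eq_fintype_card, Fintype.card_subtype, Finset.card_sdiff_of_subset (by
      intro v hv; exact (Finset.mem_filter.1 hv).1)]
  congr 1
  rw [Finset.filter_filter]
  trans (Finset.univ.image fun t : F => t • p).card
  · congr 1
    ext v
    simp only [Finset.mem_filter, Finset.mem_univ, true_and, Finset.mem_image,
      Submodule.mem_span_singleton]
    refine ⟨fun h => h.2, ?_⟩
    rintro ⟨t, rfl⟩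
    exact ⟨⟨by rw [polar_smul_right, S.polar_self_zero hp, smul_zero],
      by rw [QuadraticMap.map_smul, hp, smul_zero]⟩, t, rfl⟩
  · rw [Finset.card_image_of_injective _ (smul_left_injective F hp0), Finset.card_univ]

/-- invariant families through a point -/
theorem point_family_count {p : ι → F} (hp : S.Q p = 0) (hp0 : p ≠ 0)
    (𝒲 : Finset (Submodule F (ι → F))) {k : ℕ} (hk : ∀ W ∈ 𝒲, Module.finrank F W = k ∧ S.TS W ∧ p ∈ W)
    (hinv : ∀ g : S.G, S.ap g p = p → ∀ W ∈ 𝒲, S.mapW g W ∈ 𝒲) (hne : 𝒲.Nonempty) :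
    (2 ≤ k → S.y0 - Fintype.card F ≤ 𝒲.card * (Fintype.card F ^ k - Fintype.card F)) ∧
    (3 ≤ k → (S.y0 - Fintype.card F) * (S.y2 - Fintype.card F ^ 2) ≤
      𝒲.card * (Fintype.card F ^ k - Fintype.card F) * (Fintype.card F ^ k - Fintype.card F ^ 2)) := by
  classical
  have hn := S.seven
  obtain ⟨W₀, hW₀⟩ := hne
  have hrange1 : Submodule.span F (Set.range ![p]) = Submodule.span F {p} := by
    rw [Matrix.range_cons, Matrix.range_empty, Set.union_empty]
  have hgam : ∀ {j : ℕ} (x : Fin j → ι → F) (i : Fin j), x i = p →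
      ∀ g ∈ S.gamma x, ∀ W ∈ 𝒲, S.mapW g W ∈ 𝒲 := fun x i hi g hg W hW =>
    hinv g (by rw [← hi]; exact S.gamma_fix hg i) W hW
  have hout : ∀ {W : Submodule F (ι → F)} {U : Submodule F (ι → F)}, W ∈ 𝒲 →
      Module.finrank F U < k → ∃ v ∈ W, v ∉ U := fun {W U} hW hU => by
    by_contra hc
    push Not at hc
    have := Submodule.finrank_mono hc
    rw [(hk W hW).1] at this
    omega
  have cov1 : 2 ≤ k → ∀ u ∈ S.singP p, (𝒲.filter fun W => u ∈ W).Nonempty := by
    intro hk2 u hu
    simp only [singP, Finset.mem_filter, Finset.mem_univ, true_and] at hu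
    obtain ⟨⟨hpu, hQu⟩, hus⟩ := hu
    obtain ⟨v, hv, hv'⟩ := hout (U := Submodule.span F {p}) hW₀ (by rw [finrank_span_singleton hp0]; omega)
    obtain ⟨W', hW', -, hu'⟩ := S.family_extend 𝒲 ![p] (by omega) (hgam _ 0 rfl) hW₀ (hk W₀ hW₀).2.1
      (fun i => by fin_cases i; exact (hk W₀ hW₀).2.2) hv (by rwa [hrange1]) hQu
      (fun i => by fin_cases i; exact hpu) (by rwa [hrange1])
    exact ⟨W', Finset.mem_filter.2 ⟨hW', hu'⟩⟩
  refine ⟨fun hk2 => ?_, fun hk3 => ?_⟩
  · have h := cover_count 𝒲 (b := 1) (Submodule.span F {p}) (finrank_span_singleton hp0)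
      (fun W hW => ⟨(hk W hW).1, (Submodule.span_singleton_le_iff_mem _ _).2 (hk W hW).2.2⟩)
      (S.singP p) (fun v hv => by
        simp only [singP, Finset.mem_filter] at hv; exact hv.2.2)
      (fun v hv => by
        obtain ⟨W, hW⟩ := cov1 hk2 v hv
        have : Nonempty {W // W ∈ 𝒲 ∧ v ∈ W} := ⟨⟨W, Finset.mem_filter.1 hW⟩⟩
        exact Nat.card_pos)
    rwa [one_mul, pow_one, S.card_singP hp hp0] at h
  · have key : ∀ u ∈ S.singP p, S.y2 - Fintype.card F ^ 2 ≤
        (𝒲.filter fun W => u ∈ W).card * (Fintype.card F ^ k - Fintype.card F ^ 2) := by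
      intro u hu
      obtain ⟨W₁, hW₁⟩ := cov1 (by omega) u hu
      obtain ⟨hW₁m, huW₁⟩ := Finset.mem_filter.1 hW₁
      simp only [singP, Finset.mem_filter, Finset.mem_univ, true_and] at hu
      obtain ⟨⟨hpu, hQu⟩, hus⟩ := hu
      set U := Submodule.span F (Set.range ![p, u]) with hUdef
      have hU : Module.finrank F U = 2 := by
        have := finrank_span_eq_card (AutPOmega.independent_pair hp0 hus)
        simpa [hUdef] using this
      let P := Finset.univ.filter fun v => ((v ∈ S.pp p ∧ polar S.Q u v = 0) ∧ S.Q v = 0) ∧ v ∉ U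
      have hPc : P.card = S.y2 - Fintype.card F ^ 2 := by
        rw [show P = (Finset.univ.filter fun v => (v ∈ S.pp p ∧ polar S.Q u v = 0) ∧ S.Q v = 0) \
            (Finset.univ.filter fun v => v ∈ U) by ext v; simp [P], Finset.card_sdiff_of_subset,
          ← Fintype.card_subtype, ← Fintype.card_subtype, ← Nat.card_eq_fintype_card,
          ← Nat.card_eq_fintype_card, S.cnt_two hp hp0 hQu hpu hus, ← hU, ← card_sub]
        intro v hv
        have hvU : v ∈ U := (Finset.mem_filter.1 hv).2
        have hle : U ≤ W₁ := Submodule.span_le.2 (by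
          rintro _ ⟨i, rfl⟩
          fin_cases i
          · exact (hk W₁ hW₁m).2.2
          · exact huW₁)
        have hts := (hk W₁ hW₁m).2.1
        exact Finset.mem_filter.2 ⟨Finset.mem_univ _, ⟨S.mem_pp.2 (hts.polar_eq (hk W₁ hW₁m).2.2 (hle hvU)),
          hts.polar_eq huW₁ (hle hvU)⟩, hts v (hle hvU)⟩
      have hle : ∀ W ∈ 𝒲.filter (fun W => u ∈ W), Module.finrank F W = k ∧ U ≤ W := by
        intro W hW
        obtain ⟨hW, huW⟩ := Finset.mem_filter.1 hW
        refine ⟨(hk W hW).1, Submodule.span_le.2 ?_⟩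
        rintro _ ⟨i, rfl⟩
        fin_cases i
        · exact (hk W hW).2.2
        · exact huW
      have h := cover_count (𝒲.filter fun W => u ∈ W) (b := 1) U hU hle P
        (fun v hv => (Finset.mem_filter.1 hv).2.2) (fun v hv => by
          simp only [P, Finset.mem_filter, Finset.mem_univ, true_and] at hv
          obtain ⟨⟨⟨hpv, huv⟩, hQv⟩, hvU⟩ := hv
          obtain ⟨z, hz, hz'⟩ := hout (U := U) hW₁m (by rw [hU]; omega)
          obtain ⟨W', hW', hx', hv'⟩ := S.family_extend 𝒲 ![p, u] (by omega) (hgam _ 0 rfl) hW₁m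
            (hk W₁ hW₁m).2.1 (fun i => by
              fin_cases i
              · exact (hk W₁ hW₁m).2.2
              · exact huW₁) hz hz' hQv (fun i => by
              fin_cases i
              · exact S.mem_pp.1 hpv
              · exact huv) hvU
          have : Nonempty {W // W ∈ (𝒲.filter fun W => u ∈ W) ∧ v ∈ W} :=
            ⟨⟨W', Finset.mem_filter.2 ⟨hW', hx' 1⟩, hv'⟩⟩
          exact Nat.card_pos)
      rwa [one_mul, hPc] at h
    have h1 : (S.singP p).card * (S.y2 - Fintype.card F ^ 2) ≤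
        (∑ u ∈ S.singP p, (𝒲.filter fun W => u ∈ W).card) * (Fintype.card F ^ k - Fintype.card F ^ 2) := by
      rw [Finset.sum_mul, ← smul_eq_mul, ← Finset.sum_const]
      exact Finset.sum_le_sum key
    rw [S.card_singP hp hp0] at h1
    refine h1.trans (Nat.mul_le_mul_right _ ?_)
    calc ∑ u ∈ S.singP p, (𝒲.filter fun W => u ∈ W).card
        = ∑ W ∈ 𝒲, ((S.singP p).filter fun u => u ∈ W).card := by
          simp only [Finset.card_filter]; exact Finset.sum_comm
      _ ≤ 𝒲.card * (Fintype.card F ^ k - Fintype.card F) := by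
          refine (Finset.sum_le_card_nsmul _ _ _ fun W hW => ?_).trans (le_of_eq (smul_eq_mul _ _))
          have h1 : (Finset.univ.filter fun v => v ∈ W).card = Fintype.card F ^ k := by
            rw [← Fintype.card_subtype, ← Nat.card_eq_fintype_card, ← (hk W hW).1, ← card_sub]
          have h2 : (Finset.univ.image fun t : F => t • p).card = Fintype.card F := by
            rw [Finset.card_image_of_injective _ (smul_left_injective F hp0), Finset.card_univ]
          rw [← h1, ← h2, ← Finset.card_sdiff_of_subset]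
          · refine Finset.card_le_card fun v hv => ?_
            simp only [singP, Finset.mem_filter, Finset.mem_univ, true_and] at hv
            simp only [Finset.mem_sdiff, Finset.mem_filter, Finset.mem_univ, true_and, Finset.mem_image,
              not_exists]
            exact ⟨hv.2, fun t ht => hv.1.2 (Submodule.mem_span_singleton.2 ⟨t, ht⟩)⟩
          · intro v hv
            obtain ⟨t, -, rfl⟩ := Finset.mem_image.1 hv
            exact Finset.mem_filter.2 ⟨Finset.mem_univ _, W.smul_mem t (hk W hW).2.2⟩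

end Space

end CfsgLib.MinIndexOrth
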