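import Cfsg.Agent.Lib.MinIndexOrth.Count

/-!
The two endgames: a point fixed by a whole radical leads to an orbit of totally singular subspaces,
a point fixed by the Eichler transformations of a non-singular complement to an orbit of points.
-/

set_option autoImplicit false
set_option linter.unusedSectionVars false

namespace CfsgLib.MinIndexOrth

open Matrix QuadraticMap CfsgLib.Orth CfsgLib.KnownSimple.ModulePerm

variable {ι : Type} [Fintype ι] [DecidableEq ι] {F : Type*} [Field F] [Fintype F]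

namespace Space

variable (S : Space ι F)

/-- The numerical conditions on a proposed bound `N`, `w` bounding the Witt index. -/
structure Bounds (N w : ℕ) : Prop where
  two_le : 2 ≤ w
  half : 2 * w ≤ Fintype.card ι
  witt : ∀ W : Submodule F (ι → F), S.TS W → Module.finrank F W ≤ w
  pts : (Fintype.card F - 1) * N + 1 ≤ S.zc 0
  duo : (Fintype.card F + 1) * (Fintype.card F ^ 2 - Fintype.card F) ≤ S.y0 - Fintype.card F
  tri : (Fintype.card F ^ w - 1) * (Fintype.card F ^ w - Fintype.card F) *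
      (Fintype.card F ^ w - Fintype.card F ^ 2) ≤
    (Fintype.card F - 1) * ((S.y0 - Fintype.card F) * (S.y2 - Fintype.card F ^ 2))
  pos : 0 < (S.y0 - Fintype.card F) * (S.y2 - Fintype.card F ^ 2)
  ns : ∀ c : F, c ≠ 0 → Nat.card {t : F // t * t = 1} * N ≤ S.zc c
  reg : N ≤ 2 * Fintype.card F ^ (Fintype.card ι - 2)
  lag : 2 * w = Fintype.card ι → N * ((Fintype.card F ^ w - Fintype.card F) *
      (Fintype.card F ^ w - Fintype.card F ^ 2)) ≤
    2 * Fintype.card F ^ (w - 1) * ((S.y0 - Fintype.card F) * (S.y2 - Fintype.card F ^ 2))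

variable {X : Type*} [MulAction S.G X]

theorem fixed_smul {ω : X} {p : ι → F} (hp : S.Q p = 0) {c : F} (hc : c ≠ 0) (h : S.Fixed ω p) :
    S.Fixed ω (c • p) := by
  intro v hv
  rw [polar_smul_left, smul_eq_zero, or_iff_right hc] at hv
  rw [S.el_smul_left hp hv]
  exact h _ (by rw [polar_smul_right, hv, smul_zero])

theorem fixed_ap (g : S.G) {ω : X} {p : ι → F} (hp : S.Q p = 0) (h : S.Fixed ω p) :
    S.Fixed (g • ω) (S.ap g p) := by
  intro v hv
  rw [← S.ap_ap_inv g v, S.polar_ap] at hv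
  conv_lhs => rw [← S.ap_ap_inv g v, ← S.el_conj hp hv g, ← mul_smul, inv_mul_cancel_right, mul_smul, h _ hv]

theorem fix_all_of_pair {ω : X} {p p' : ι → F} (hp : S.Q p = 0) (hp' : S.Q p' = 0)
    (hpp : polar S.Q p p' ≠ 0) (h : S.Fixed ω p) (h' : S.Fixed ω p') (g : S.G) : g • ω = ω := by
  -- every singular vector not orthogonal to one of a fixed pair is fixed
  have step : ∀ {p p' w : ι → F}, S.Q p = 0 → S.Q p' = 0 → polar S.Q p p' ≠ 0 → S.Fixed ω p →
      S.Fixed ω p' → S.Q w = 0 → polar S.Q w p' ≠ 0 → S.Fixed ω w := by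
    intro p p' w hp hp' hpp h h' hw hwp
    set v := (polar S.Q p p')⁻¹ • p
    set w₁ := (polar S.Q w p')⁻¹ • w
    have h1 : polar S.Q v p' = 1 := by rw [polar_smul_left, smul_eq_mul, inv_mul_cancel₀ hpp]
    have h2 : polar S.Q w₁ p' = 1 := by rw [polar_smul_left, smul_eq_mul, inv_mul_cancel₀ hwp]
    have hQ : S.Q v = S.Q w₁ := by simp [v, w₁, QuadraticMap.map_smul, hp, hw]
    have hm := S.ap_el_move hp' h1 h2 hQ
    have hfix : S.el p' (w₁ - v) • ω = ω :=
      h' _ (by rw [polar_sub_right, polar_comm, h2, polar_comm, h1, sub_self])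
    have hv : S.Fixed ω v := S.fixed_smul hp (inv_ne_zero hpp) h
    have := S.fixed_ap (S.el p' (w₁ - v)) (by simp [v, QuadraticMap.map_smul, hp]) hv
    rw [hm, hfix] at this
    have h3 := S.fixed_smul (p := w₁) (by simp [w₁, QuadraticMap.map_smul, hw]) hwp this
    rwa [smul_smul, mul_inv_cancel₀ hwp, one_smul] at h3
  have hall : ∀ r, S.Q r = 0 → S.Fixed ω r := by
    intro r hr
    by_cases h1 : polar S.Q r p' = 0
    swap
    · exact step hp hp' hpp h h' hr h1
    by_cases hr0 : r = 0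
    · subst hr0
      intro v _
      have : S.el (0 : ι → F) v = 1 := Subtype.ext eich_zero_left
      rw [this, one_smul]
    by_cases h2 : polar S.Q r p = 0
    swap
    · exact step hp' hp (by rwa [polar_comm]) h' h hr h2
    obtain ⟨r₁, hr₁, hrr₁, hQr₁⟩ := POmega.exists_pair S.nondeg ![p, p'] hr
      (fun i => by fin_cases i <;> simpa [polar_comm (f := ⇑S.Q) _ r] using by assumption) (by
        rw [Matrix.range_cons, Matrix.range_cons, Matrix.range_empty, Set.union_empty,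
          Set.singleton_union, Submodule.mem_span_pair]
        rintro ⟨α, β, rfl⟩
        simp only [polar_add_left, polar_smul_left, S.polar_self_zero hp', smul_eq_mul, mul_zero,
          add_zero, mul_eq_zero, hpp, or_false] at h1
        simp only [polar_add_left, polar_smul_left, S.polar_self_zero hp, smul_eq_mul, mul_zero,
          zero_add, mul_eq_zero, polar_comm (f := ⇑S.Q) p' p, hpp, or_false] at h2
        exact hr0 (by rw [h1, h2]; simp))
    have hpr₁ : polar S.Q p r₁ = 0 := hr₁ 0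
    have hp'r₁ : polar S.Q p' r₁ = 0 := hr₁ 1
    set s := p + r₁
    have hs : S.Q s = 0 := by
      rw [QuadraticMap.map_add ⇑S.Q, hp, hQr₁, hpr₁]; simp
    have hsp : polar S.Q s p' = polar S.Q p p' := by
      rw [polar_add_left, polar_comm (f := ⇑S.Q) r₁ p', hp'r₁, add_zero]
    have hsf : S.Fixed ω s := step hp hp' hpp h h' hs (by rwa [hsp])
    refine step (p := p') (p' := s) hp' hs (by rw [polar_comm, hsp]; exact hpp) h' hsf hr ?_
    rw [polar_add_right, h2, hrr₁, zero_add]; exact one_ne_zero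
  have hg := g.2
  have hgen := POmega.commutator_eq_eichGroup S.nondeg (by have := S.seven; omega)
  suffices ∀ g₀ : O S.Q, g₀ ∈ POmega.eichGroup S.Q → ∀ hm : g₀ ∈ commutator (O S.Q),
      (⟨g₀, hm⟩ : S.G) • ω = ω from this g.1 (hgen ▸ hg) hg
  intro g₀ hg₀
  induction hg₀ using Subgroup.closure_induction with
  | mem y hy =>
    obtain ⟨u, a, hu, ha, rfl⟩ := hy
    exact fun hm => hall u hu a ha
  | one => exact fun hm => one_smul _ _
  | mul y z hy hz ihy ihz =>
    intro hm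
    have hym : y ∈ commutator (O S.Q) := hgen.symm ▸ hy
    have hzm : z ∈ commutator (O S.Q) := hgen.symm ▸ hz
    rw [show (⟨y * z, hm⟩ : S.G) = ⟨y, hym⟩ * ⟨z, hzm⟩ from rfl, mul_smul, ihz, ihy]
  | inv y hy ih =>
    intro hm
    have hym : y ∈ commutator (O S.Q) := hgen.symm ▸ hy
    rw [show (⟨y⁻¹, hm⟩ : S.G) = (⟨y, hym⟩ : S.G)⁻¹ from rfl, inv_smul_eq_iff, ih]

theorem exists_ap_eq {p p' : ι → F} (hp0 : p ≠ 0) (hp0' : p' ≠ 0) (h : S.Q p = S.Q p') :
    ∃ g : S.G, S.ap g p = p' := by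
  obtain ⟨g, hg⟩ := S.exists_map (fun _ : Fin 1 => p) (fun _ => p') (LinearIndependent.of_subsingleton 0 hp0)
    (LinearIndependent.of_subsingleton 0 hp0') (by have := S.seven; omega) (fun _ => h)
    (fun _ _ => by rw [polar_self', polar_self', h])
  exact ⟨g, hg 0⟩

/-- An equivariant assignment of pairwise orthogonal singular vectors. -/
theorem le_card_of_assign [Fintype X] {N w : ℕ} (hB : S.Bounds N w) (Sf : X → Set (ι → F))
    (hsing : ∀ ω, ∀ r ∈ Sf ω, S.Q r = 0) (hperp : ∀ ω, ∀ r ∈ Sf ω, ∀ r' ∈ Sf ω, polar S.Q r r' = 0)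
    (hsub : ∀ (g : S.G) ω, ∀ r ∈ Sf ω, S.ap g r ∈ Sf (g • ω))
    {ω : X} {p : ι → F} (hp0 : p ≠ 0) (h : p ∈ Sf ω) : N ≤ Fintype.card X := by
  classical
  have : Finite S.G := inferInstance
  have : Fintype S.G := Fintype.ofFinite _
  have hn := S.seven
  have hp : S.Q p = 0 := hsing ω p h
  set q := Fintype.card F
  let Wf : X → Submodule F (ι → F) := fun ω => Submodule.span F (Sf ω)
  have hts : ∀ ω, S.TS (Wf ω) := by
    intro ω v hv
    suffices S.Q v = 0 ∧ v ∈ S.orth (Wf ω) from this.1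
    induction hv using Submodule.span_induction with
    | mem x hx =>
      refine ⟨hsing ω x hx, S.mem_orth_span.2 fun r hr => hperp ω r hr x hx⟩
    | zero => exact ⟨QuadraticMap.map_zero _, zero_mem _⟩
    | add x z hx hz hx' hz' =>
      refine ⟨?_, add_mem hx'.2 hz'.2⟩
      rw [QuadraticMap.map_add ⇑S.Q, hx'.1, hz'.1, S.mem_orth.1 hz'.2 x hx]; simp
    | smul t x _ hx' =>
      exact ⟨by rw [QuadraticMap.map_smul, hx'.1, smul_zero], Submodule.smul_mem _ _ hx'.2⟩
  have hmap : ∀ (g : S.G) ω, S.mapW g (Wf ω) = Wf (g • ω) := by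
    intro g ω
    have hle : ∀ (g : S.G) ω, S.mapW g (Wf ω) ≤ Wf (g • ω) := fun g ω => by
      rw [mapW, Submodule.map_span]
      exact Submodule.span_mono (Set.image_subset_iff.2 fun r hr => hsub g ω r hr)
    refine le_antisymm (hle g ω) ?_
    have h1 := Submodule.map_mono (f := S.ap g) (hle g⁻¹ (g • ω))
    rw [inv_smul_smul] at h1
    change S.mapW g (S.mapW g⁻¹ (Wf (g • ω))) ≤ _ at h1
    rwa [← mapW_mul, mul_inv_cancel, mapW_one] at h1
  set W₀ := Wf ω
  set k := Module.finrank F W₀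
  let 𝒲 : Finset (Submodule F (ι → F)) := (Finset.univ : Finset S.G).image fun g => S.mapW g W₀
  have hcard : 𝒲.card ≤ Fintype.card X := by
    refine (Finset.card_le_card ?_).trans (Finset.card_image_le (s := Finset.univ) (f := Wf))
    intro W hW
    obtain ⟨g, -, rfl⟩ := Finset.mem_image.1 hW
    exact Finset.mem_image.2 ⟨g • ω, Finset.mem_univ _, (hmap g ω).symm⟩
  have hmem : ∀ W ∈ 𝒲, Module.finrank F W = k ∧ S.TS W := by
    intro W hW
    obtain ⟨g, -, rfl⟩ := Finset.mem_image.1 hW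
    exact ⟨finrank_mapW g _, (hts ω).map g⟩
  have hinvW : ∀ g : S.G, ∀ W ∈ 𝒲, S.mapW g W ∈ 𝒲 := by
    intro g W hW
    obtain ⟨g', -, rfl⟩ := Finset.mem_image.1 hW
    exact Finset.mem_image.2 ⟨g * g', Finset.mem_univ _, mapW_mul g g' _⟩
  have hpW : p ∈ W₀ := Submodule.subset_span h
  let P := Finset.univ.filter fun v : ι → F => v ≠ 0 ∧ S.Q v = 0
  have hPc : P.card + 1 = S.zc 0 := by
    rw [zc, Nat.card_eq_fintype_card, Fintype.card_subtype, show P =
      (Finset.univ.filter fun v => S.Q v = 0).erase 0 by ext v; simp [P],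
      Finset.card_erase_add_one (by simp)]
  have hne : ∀ v ∈ P, (𝒲.filter fun W => v ∈ W).Nonempty := by
    intro v hv
    simp only [P, Finset.mem_filter, Finset.mem_univ, true_and] at hv
    obtain ⟨g, hg⟩ := S.exists_ap_eq hp0 hv.1 (by rw [hp, hv.2])
    exact ⟨_, Finset.mem_filter.2 ⟨Finset.mem_image.2 ⟨g, Finset.mem_univ _, rfl⟩, p, hpW, hg⟩⟩
  have hdc : ∀ b : ℕ, (∀ v ∈ P, b ≤ (𝒲.filter fun W => v ∈ W).card) →
      b * P.card ≤ 𝒲.card * (q ^ k - 1) := by
    intro b hb
    have h1 := cover_count 𝒲 (b := b) (⊥ : Submodule F (ι → F)) (finrank_bot F (ι → F))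
      (fun W hW => ⟨(hmem W hW).1, bot_le⟩) P (fun v hv => by
        simp only [P, Finset.mem_filter] at hv; simpa using hv.2.1)
      (fun v hv => (hb v hv).trans (le_of_eq (by
        rw [← Nat.card_eq_finsetCard]
        exact Nat.card_congr (Equiv.subtypeEquivRight fun W => Finset.mem_filter (p := fun W => v ∈ W)))))
    simpa using h1
  have hpt : ∀ v ∈ P,
      (2 ≤ k → S.y0 - q ≤ (𝒲.filter fun W => v ∈ W).card * (q ^ k - q)) ∧
      (3 ≤ k → (S.y0 - q) * (S.y2 - q ^ 2) ≤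
        (𝒲.filter fun W => v ∈ W).card * (q ^ k - q) * (q ^ k - q ^ 2)) := by
    intro v hv
    obtain ⟨hv0, hQv⟩ : v ≠ 0 ∧ S.Q v = 0 := by simpa [P] using hv
    exact S.point_family_count hQv hv0 (𝒲.filter fun W => v ∈ W) (fun W hW => by
        obtain ⟨hW, hvW⟩ := Finset.mem_filter.1 hW
        exact ⟨(hmem W hW).1, (hmem W hW).2, hvW⟩)
      (fun g hg W hW => by
        obtain ⟨hW, hvW⟩ := Finset.mem_filter.1 hW
        exact Finset.mem_filter.2 ⟨hinvW g W hW, v, hvW, hg⟩) (hne v hv)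
  have hkw : k ≤ w := hB.witt _ (hts ω)
  have hk1 : 1 ≤ k := Submodule.one_le_finrank_iff.2 fun h0 => hp0 (by simpa [h0] using hpW)
  have hq1 : 1 ≤ q := Fintype.card_pos
  have hq2 : 2 ≤ q := Fintype.one_lt_card
  suffices P.card ≤ 𝒲.card * (q - 1) by
    have h1 := hB.pts
    change (q - 1) * N + 1 ≤ _ at h1
    have h2 := Nat.mul_le_mul_right (q - 1) hcard
    have h3 : (q - 1) * N ≤ (q - 1) * Fintype.card X := by
      rw [mul_comm (q - 1) (Fintype.card X)]
      omega
    exact Nat.le_of_mul_le_mul_left h3 (by omega)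
  rcases Nat.lt_or_ge k 2 with hk2 | hk2
  · have := hdc 1 fun v hv => Finset.card_pos.2 (hne v hv)
    rwa [one_mul, show k = 1 by omega, pow_one] at this
  rcases Nat.lt_or_ge k 3 with hk3 | hk3
  · have hk : k = 2 := by omega
    have h1 : (S.y0 - q) * P.card ≤ 𝒲.card * (q ^ k - 1) * (q ^ k - q) := by
      obtain ⟨b, hb, hbmin⟩ : ∃ b, (∀ v ∈ P, b ≤ (𝒲.filter fun W => v ∈ W).card) ∧
          S.y0 - q ≤ b * (q ^ k - q) := by
        obtain ⟨v, hv, hmin⟩ := P.exists_min_image (fun v => (𝒲.filter fun W => v ∈ W).card)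
          ⟨p, by simp [P, hp, hp0]⟩
        exact ⟨_, hmin, (hpt v hv).1 hk2⟩
      calc _ ≤ b * (q ^ k - q) * P.card := Nat.mul_le_mul_right _ hbmin
        _ = b * P.card * (q ^ k - q) := by ring
        _ ≤ _ := Nat.mul_le_mul_right _ (hdc b hb)
    have hd := hB.duo
    have hy : 0 < S.y0 - q := Nat.pos_of_mul_pos_right hB.pos
    refine Nat.le_of_mul_le_mul_left (h1.trans ?_) hy
    rw [hk, show q ^ 2 - 1 = (q + 1) * (q - 1) by rw [← Nat.sq_sub_sq, one_pow]]
    calc 𝒲.card * ((q + 1) * (q - 1)) * (q ^ 2 - q)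
        = (q + 1) * (q ^ 2 - q) * (𝒲.card * (q - 1)) := by ring
      _ ≤ _ := Nat.mul_le_mul_right _ hd
  · obtain ⟨b, hb, hbmin⟩ : ∃ b, (∀ v ∈ P, b ≤ (𝒲.filter fun W => v ∈ W).card) ∧
        (S.y0 - q) * (S.y2 - q ^ 2) ≤ b * (q ^ k - q) * (q ^ k - q ^ 2) := by
      obtain ⟨v, hv, hmin⟩ := P.exists_min_image (fun v => (𝒲.filter fun W => v ∈ W).card)
        ⟨p, by simp [P, hp, hp0]⟩
      exact ⟨_, hmin, (hpt v hv).2 hk3⟩
    refine Nat.le_of_mul_le_mul_left ?_ hB.pos
    have hpw : q ^ k ≤ q ^ w := Nat.pow_le_pow_right (by omega) hkw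
    calc (S.y0 - q) * (S.y2 - q ^ 2) * P.card
        ≤ b * (q ^ k - q) * (q ^ k - q ^ 2) * P.card := Nat.mul_le_mul_right _ hbmin
      _ = b * P.card * ((q ^ k - q) * (q ^ k - q ^ 2)) := by ring
      _ ≤ 𝒲.card * (q ^ k - 1) * ((q ^ k - q) * (q ^ k - q ^ 2)) := Nat.mul_le_mul_right _ (hdc b hb)
      _ ≤ 𝒲.card * (q ^ w - 1) * ((q ^ w - q) * (q ^ w - q ^ 2)) := by
          gcongr
      _ = 𝒲.card * ((q ^ w - 1) * (q ^ w - q) * (q ^ w - q ^ 2)) := by ring
      _ ≤ 𝒲.card * ((q - 1) * ((S.y0 - q) * (S.y2 - q ^ 2))) := Nat.mul_le_mul_left _ hB.tri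
      _ = _ := by ring

/-- A point fixed by a radical. -/
theorem le_card_of_fixed [Fintype X] {N w : ℕ} (hB : S.Bounds N w) (hfree : ∀ ω : X, ∃ g : S.G, g • ω ≠ ω)
    {ω : X} {p : ι → F} (hp : S.Q p = 0) (hp0 : p ≠ 0) (h : S.Fixed ω p) : N ≤ Fintype.card X := by
  refine S.le_card_of_assign hB (fun ω => {r | S.Q r = 0 ∧ S.Fixed ω r}) (fun ω r hr => hr.1) ?_
    (fun g ω r hr => ⟨by rw [S.Q_ap, hr.1], S.fixed_ap g hr.1 hr.2⟩) hp0 ⟨hp, h⟩
  intro ω r hr r' hr'
  by_contra hne
  obtain ⟨g, hg⟩ := hfree ω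
  exact hg (S.fix_all_of_pair hr.1 hr'.1 hne hr.2 hr'.2 g)

/-- The Eichler transformations of the complement of `y` fix `ω`. -/
def NSFix (ω : X) (y : ι → F) : Prop :=
  ∀ u a, S.Q u = 0 → polar S.Q u a = 0 → polar S.Q y u = 0 → polar S.Q y a = 0 → S.el u a • ω = ω

theorem nsfix_ap (g : S.G) {ω : X} {y : ι → F} (h : S.NSFix ω y) : S.NSFix (g • ω) (S.ap g y) := by
  intro u a hu hua hyu hya
  rw [← S.ap_ap_inv g u, ← S.ap_ap_inv g a] at hua ⊢
  rw [← S.ap_ap_inv g u, S.polar_ap] at hyu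
  rw [← S.ap_ap_inv g a, S.polar_ap] at hya
  rw [← S.ap_ap_inv g u, S.Q_ap] at hu
  rw [S.polar_ap] at hua
  rw [← S.el_conj hu hua g, ← mul_smul, inv_mul_cancel_right, mul_smul, h _ _ hu hua hyu hya]

theorem nsfix_fixed {ω : X} {y y' : ι → F} (hy : S.Q y ≠ 0) (h : S.NSFix ω y) (h' : S.NSFix ω y')
    (hne : y' ∉ Submodule.span F {y}) : ∃ u, S.Q u = 0 ∧ u ≠ 0 ∧ S.Fixed ω u := by
  obtain ⟨u₁, hu₁, hu₁0, hQu₁⟩ := S.exists_sing ![y, y'] (by have := S.seven; omega)
  have hy0 : y ≠ 0 := fun h => hy (by rw [h, QuadraticMap.map_zero])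
  -- a singular vector outside the span
  obtain ⟨u, hu, hu0, hQu, huy⟩ : ∃ u, (∀ i, polar S.Q (![y, y'] i) u = 0) ∧ u ≠ 0 ∧ S.Q u = 0 ∧
      y' ∉ Submodule.span F {y, u} := by
    by_cases hu₁y : y' ∈ Submodule.span F {y, u₁}
    swap
    · exact ⟨u₁, hu₁, hu₁0, hQu₁, hu₁y⟩
    obtain ⟨r, hur, hQr⟩ := S.exists_partner hQu₁ hu₁0
    obtain ⟨u, hu, hu0, hQu⟩ := S.exists_sing ![y, y', r] (by have := S.seven; omega)
    refine ⟨u, fun i => by fin_cases i <;> [exact hu 0; exact hu 1], hu0, hQu, fun hc => ?_⟩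
    obtain ⟨α, β, rfl⟩ := Submodule.mem_span_pair.1 hu₁y
    obtain ⟨γ, δ, hγ⟩ := Submodule.mem_span_pair.1 hc
    have e1 := congrArg (fun v => polar S.Q y v) hγ
    have hyu : polar S.Q y u = 0 := hu 0
    have hyu₁ : polar S.Q y u₁ = 0 := hu₁ 0
    have hru : polar S.Q r u = 0 := hu 2
    simp only [polar_add_right, polar_smul_right, hyu, hyu₁, smul_zero, add_zero, smul_eq_mul] at e1
    have e2 : (γ - α) • y = β • u₁ - δ • u := by linear_combination (norm := module) hγ
    have e3 := congrArg (fun v => polar S.Q r v) e2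
    simp only [polar_sub_right, polar_smul_right, hru, smul_zero, sub_zero,
      polar_comm (f := ⇑S.Q) r u₁, hur, smul_eq_mul, mul_one] at e3
    rcases eq_or_ne γ α with rfl | hγα
    · rw [sub_self, zero_mul] at e3
      rw [mul_zero, sub_zero] at e3
      exact hne (Submodule.mem_span_singleton.2 ⟨γ, by rw [← e3]; simp⟩)
    · have e4 := congrArg S.Q e2
      rw [QuadraticMap.map_smul, sub_eq_add_neg (β • u₁), QuadraticMap.map_add ⇑S.Q,
        QuadraticMap.map_neg, QuadraticMap.map_smul, QuadraticMap.map_smul, hQu, hQu₁, smul_eq_mul] at e4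
      have hαu : polar S.Q u (α • y + β • u₁) = 0 := by rw [polar_comm]; exact hu 1
      rw [polar_add_right, polar_smul_right, polar_comm (f := ⇑S.Q) u y, hyu, smul_zero, zero_add,
        polar_smul_right, smul_eq_mul] at hαu
      have : polar S.Q (β • u₁) (-(δ • u)) = 0 := by
        rw [polar_neg_right, polar_smul_left, polar_smul_right, polar_comm (f := ⇑S.Q) u₁ u]
        simp only [smul_eq_mul]
        linear_combination (-δ) * hαu
      rw [this] at e4
      simp only [smul_eq_mul, mul_zero, neg_zero, add_zero, mul_eq_zero, hy, or_false, or_self,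
        sub_eq_zero] at e4
      exact hγα e4
  refine ⟨u, hQu, hu0, fun v hv => ?_⟩
  have hyu : polar S.Q y u = 0 := hu 0
  have hy'u : polar S.Q y' u = 0 := hu 1
  have hli : LinearIndependent F ![y, u] := LinearIndependent.pair_iff' hy0 |>.2 fun t ht =>
    (by
      have := congrArg S.Q ht
      rw [QuadraticMap.map_smul, hQu, smul_eq_mul, mul_eq_zero, or_iff_left hy, mul_self_eq_zero] at this
      rw [this, zero_smul] at ht
      exact hu0 ht.symm)
  have hli3 : LinearIndependent F ![y', y, u] := by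
    refine linearIndependent_fin_cons.2 ⟨hli, ?_⟩
    simpa [Matrix.range_cons, Matrix.range_empty, Set.pair_comm] using huy
  obtain ⟨z, hz⟩ := AutPOmega.exists_polar S.nondeg hli3 ![polar S.Q y' v, 0, 0]
  have hz1 : polar S.Q y' z = polar S.Q y' v := by rw [polar_comm]; exact hz 0
  have hz2 : polar S.Q y z = 0 := by rw [polar_comm]; exact hz 1
  have hz3 : polar S.Q u z = 0 := by rw [polar_comm]; exact hz 2
  have huv : polar S.Q u (v - z) = 0 := by rw [polar_sub_right, hv, hz3, sub_zero]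
  rw [← sub_add_cancel v z, ← S.el_add hQu huv hz3, mul_smul, h u z hQu hz3 hyu hz2,
    h' u (v - z) hQu huv hy'u (by rw [polar_sub_right, hz1, sub_self])]

/-- A point fixed by the Eichler transformations of a non-singular complement. -/
theorem le_card_of_nsfix [Fintype X] {N w : ℕ} (hB : S.Bounds N w)
    (hfree : ∀ ω : X, ∃ g : S.G, g • ω ≠ ω) {ω : X} {y : ι → F} (hy : S.Q y ≠ 0) (h : S.NSFix ω y) :
    N ≤ Fintype.card X := by
  classical
  by_contra hlt
  have hnf : ∀ (ω : X) u, S.Q u = 0 → u ≠ 0 → ¬ S.Fixed ω u := fun ω u hu hu0 hf =>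
    hlt (S.le_card_of_fixed hB hfree hu hu0 hf)
  set c := S.Q y
  have hy0 : y ≠ 0 := fun h => hy (by simp [c, h])
  let V := {v : ι → F // S.Q v = c}
  have hg : ∀ v : V, ∃ g : S.G, S.ap g y = v.1 := fun v =>
    S.exists_ap_eq hy0 (fun h0 => hy (by rw [← v.2, h0, QuadraticMap.map_zero])) v.2.symm
  choose g hg using hg
  let f : V → X := fun v => g v • ω
  have hfib : ∀ x : X, (Finset.univ.filter fun v => f v = x).card ≤ Nat.card {t : F // t * t = 1} := by
    intro x
    rcases (Finset.univ.filter fun v => f v = x).eq_empty_or_nonempty with he | ⟨v₀, hv₀⟩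
    · simp [he]
    rw [Finset.mem_filter] at hv₀
    have hmul : ∀ v ∈ Finset.univ.filter (fun v => f v = x), ∃ t : F, t * t = 1 ∧ v.1 = t • v₀.1 := by
      intro v hv
      rw [Finset.mem_filter] at hv
      have h1 := S.nsfix_ap (g v₀) h
      have h2 := S.nsfix_ap (g v) h
      rw [hg] at h1 h2
      change S.NSFix (f v₀) _ at h1
      change S.NSFix (f v) _ at h2
      rw [hv₀.2] at h1
      rw [hv.2] at h2
      by_cases hm : v.1 ∈ Submodule.span F {v₀.1}
      · obtain ⟨t, ht⟩ := Submodule.mem_span_singleton.1 hm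
        refine ⟨t, ?_, ht.symm⟩
        have := congrArg S.Q ht
        rw [QuadraticMap.map_smul, v.2, v₀.2, smul_eq_mul] at this
        exact mul_left_eq_self₀.1 this |>.resolve_right hy
      · obtain ⟨u, hu, hu0, hf⟩ := S.nsfix_fixed (v₀.2.symm ▸ hy) h1 h2 hm
        exact absurd hf (hnf _ u hu hu0)
    rw [Nat.card_eq_fintype_card, ← Finset.card_univ]
    choose t ht htv using hmul
    refine Finset.card_le_card_of_injOn (fun v => if hv : v ∈ Finset.univ.filter (fun v => f v = x) then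
      ⟨t v hv, ht v hv⟩ else ⟨1, one_mul 1⟩) (fun _ _ => Finset.mem_univ _) ?_
    intro v hv v' hv' he
    simp only [Finset.mem_coe] at hv hv'
    simp only [dif_pos hv, dif_pos hv', Subtype.mk.injEq] at he
    exact Subtype.ext (by rw [htv v hv, htv v' hv', he])
  have h1 : S.zc c ≤ Nat.card {t : F // t * t = 1} * Fintype.card X := by
    rw [zc, Nat.card_eq_fintype_card, ← Finset.card_univ]
    refine (Finset.card_le_mul_card_image (f := f) _ _ fun x _ => hfib x).trans
      (Nat.mul_le_mul_left _ (Finset.card_le_univ _))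
  have h2 := (hB.ns c hy).trans h1
  have hpos : 0 < Nat.card {t : F // t * t = 1} := by
    have : Nonempty {t : F // t * t = 1} := ⟨⟨1, one_mul 1⟩⟩
    exact Nat.card_pos
  exact hlt (Nat.le_of_mul_le_mul_left h2 hpos)

end Space

end CfsgLib.MinIndexOrth
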