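import Mathlib

/-!
Arithmetic of the counts for the minimal index of orthogonal groups (`A = q ^ j` throughout).
-/

set_option autoImplicit false

namespace CfsgLib.MinIndexOrth.Numeric

theorem ge_four {q A : ℕ} (hq : 2 ≤ q) (hA : 1 ≤ A) : 2 ≤ q * A ∧ 4 ≤ q ^ 2 * A ∧ 8 ≤ q ^ 3 * A := by
  refine ⟨?_, ?_, ?_⟩
  · nlinarith
  · have : 2 ^ 2 ≤ q ^ 2 := Nat.pow_le_pow_left hq 2
    nlinarith
  · have : 2 ^ 3 ≤ q ^ 3 := Nat.pow_le_pow_left hq 3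
    nlinarith

theorem one_le_sq {q : ℕ} (hq : 2 ≤ q) : 4 ≤ q ^ 2 ∧ 8 ≤ q ^ 3 :=
  ⟨(Nat.pow_le_pow_left hq 2), (Nat.pow_le_pow_left hq 3)⟩

/-! ### plus type, `m = j + 3` -/

theorem plus_sub (q A y0 y2 : ℕ) (hq : 2 ≤ q) (hA : 1 ≤ A) (h0 : y0 + q ^ 2 * A = q ^ 4 * A ^ 2 + q ^ 3 * A)
    (h2 : y2 + q ^ 2 * A = q ^ 3 * A ^ 2 + q ^ 3 * A) :
    y0 - q = q * ((q ^ 2 * A - 1) * (q * A + 1)) ∧ y2 - q ^ 2 = q ^ 2 * ((q * A - 1) * (A + 1)) := by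
  obtain ⟨g1, g2, -⟩ := ge_four hq hA
  obtain ⟨a, ha⟩ : ∃ a, q * A = a + 1 := ⟨q * A - 1, by omega⟩
  obtain ⟨b, hb⟩ : ∃ b, q ^ 2 * A = b + 1 := ⟨q ^ 2 * A - 1, by omega⟩
  have e0 : y0 = q * (b * (a + 2)) + q := by
    have hb' : (q : ℤ) ^ 2 * A = b + 1 := by exact_mod_cast hb
    have ha' : (q : ℤ) * A = a + 1 := by exact_mod_cast ha
    have h0' : (y0 : ℤ) + q ^ 2 * A = q ^ 4 * A ^ 2 + q ^ 3 * A := by exact_mod_cast h0
    have : (y0 : ℤ) = q * (b * (a + 2)) + q := by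
      have eb : (b : ℤ) = q ^ 2 * A - 1 := by linarith
      have ea : (a : ℤ) = q * A - 1 := by linarith
      rw [eb, ea]; linear_combination h0'
    exact_mod_cast this
  have e2 : y2 = q ^ 2 * (a * (A + 1)) + q ^ 2 := by
    have ha' : (q : ℤ) * A = a + 1 := by exact_mod_cast ha
    have h2' : (y2 : ℤ) + q ^ 2 * A = q ^ 3 * A ^ 2 + q ^ 3 * A := by exact_mod_cast h2
    have : (y2 : ℤ) = q ^ 2 * (a * (A + 1)) + q ^ 2 := by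
      have ea : (a : ℤ) = q * A - 1 := by linarith
      rw [ea]; linear_combination h2'
    exact_mod_cast this
  rw [hb, ha, e0, e2, Nat.add_sub_cancel, Nat.add_sub_cancel, Nat.add_sub_cancel, Nat.add_sub_cancel]
  exact ⟨rfl, rfl⟩

theorem plus_w (q A : ℕ) (hq : 2 ≤ q) (hA : 1 ≤ A) :
    q ^ 3 * A - q = q * (q ^ 2 * A - 1) ∧ q ^ 3 * A - q ^ 2 = q ^ 2 * (q * A - 1) := by
  constructor <;> rw [Nat.mul_sub, mul_one]
  · congr 1; ring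
  · congr 1; ring

theorem plus_theta (q A : ℕ) (hq : 2 ≤ q) (hA : q ≤ A) :
    q ^ 3 * A - 1 ≤ (q - 1) * ((q * A + 1) * (A + 1)) := by
  obtain ⟨r, rfl⟩ : ∃ r, q = r + 1 := ⟨q - 1, by omega⟩
  rw [Nat.add_sub_cancel, Nat.sub_le_iff_le_add]
  obtain ⟨B, rfl⟩ : ∃ B, A = r + 1 + B := ⟨A - (r + 1), by omega⟩
  zify
  have hr : (1 : ℤ) ≤ r := by exact_mod_cast (show 1 ≤ r by omega)
  have hB : (0 : ℤ) ≤ B := Int.natCast_nonneg _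
  have h1 : (0 : ℤ) ≤ ((r : ℤ) * (r + 1) * B + r * (r + 1) * (r + 1) - r ^ 2 - 2 * r) := by
    nlinarith [mul_nonneg (mul_nonneg (by linarith : (0:ℤ) ≤ r) (by linarith : (0:ℤ) ≤ r + 1)) hB]
  nlinarith [mul_nonneg h1 hB, h1]

theorem plus_duo (q A : ℕ) (hq : 2 ≤ q) (hA : 1 ≤ A) :
    (q + 1) * (q ^ 2 - q) ≤ q * ((q ^ 2 * A - 1) * (q * A + 1)) := by
  rw [show q ^ 2 - q = q * (q - 1) by rw [Nat.mul_sub, mul_one, sq], Nat.mul_left_comm]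
  refine Nat.mul_le_mul_left _ ?_
  rw [mul_comm]
  refine Nat.mul_le_mul ?_ ?_
  · have : q ≤ q ^ 2 * A := by
      calc q = q * 1 := (mul_one q).symm
        _ ≤ q * (q * A) := Nat.mul_le_mul_left _ (by nlinarith)
        _ = q ^ 2 * A := by ring
    omega
  · nlinarith

/-! ### odd dimension, `m = j + 2` -/

theorem odd_sub (q A : ℕ) (hq : 2 ≤ q) (hA : 1 ≤ A) :
    q ^ 3 * A ^ 2 - q = q * ((q * A - 1) * (q * A + 1)) ∧
      q ^ 2 * A ^ 2 - q ^ 2 = q ^ 2 * ((A - 1) * (A + 1)) := by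
  obtain ⟨a, rfl⟩ : ∃ a, A = a + 1 := ⟨A - 1, by omega⟩
  obtain ⟨b, hb⟩ : ∃ b, q * (a + 1) = b + 1 := ⟨q * (a + 1) - 1, by have := ge_four hq hA; omega⟩
  constructor
  · rw [hb, Nat.add_sub_cancel, show q ^ 3 * (a + 1) ^ 2 = q * (b * (b + 1 + 1)) + q by
      have : q ^ 3 * (a + 1) ^ 2 = q * ((q * (a + 1)) * (q * (a + 1))) := by ring
      rw [this, hb]; ring, Nat.add_sub_cancel]
  · rw [Nat.add_sub_cancel, show q ^ 2 * (a + 1) ^ 2 = q ^ 2 * (a * (a + 1 + 1)) + q ^ 2 by ring,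
      Nat.add_sub_cancel]

theorem odd_theta (q A : ℕ) (hq : 2 ≤ q) (hA : q ≤ A) :
    q ^ 2 * A - 1 ≤ (q - 1) * ((q * A + 1) * (A + 1)) := by
  refine le_trans ?_ (Nat.mul_le_mul_right _ (show 1 ≤ q - 1 by omega))
  rw [one_mul, Nat.sub_le_iff_le_add]
  nlinarith [Nat.mul_le_mul_left (q * A) hA]

/-! ### minus type, `m = j + 3` -/

theorem minus_sub (q A y0 y2 : ℕ) (hq : 2 ≤ q) (hA : 1 ≤ A) (h0 : y0 + q ^ 3 * A = q ^ 4 * A ^ 2 + q ^ 2 * A)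
    (h2 : y2 + q ^ 3 * A = q ^ 3 * A ^ 2 + q ^ 2 * A) :
    y0 - q = q * ((q ^ 2 * A + 1) * (q * A - 1)) ∧ y2 - q ^ 2 = q ^ 2 * ((q * A + 1) * (A - 1)) := by
  obtain ⟨g1, g2, -⟩ := ge_four hq hA
  obtain ⟨a, ha⟩ : ∃ a, q * A = a + 1 := ⟨q * A - 1, by omega⟩
  obtain ⟨c, hc⟩ : ∃ c, A = c + 1 := ⟨A - 1, by omega⟩
  have ha' : (q : ℤ) * A = a + 1 := by exact_mod_cast ha
  have ea : (a : ℤ) = q * A - 1 := by linarith
  have hc' : (A : ℤ) = c + 1 := by exact_mod_cast hc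
  have ec : (c : ℤ) = A - 1 := by linarith
  have e0 : y0 = q * ((q ^ 2 * A + 1) * a) + q := by
    have h0' : (y0 : ℤ) + q ^ 3 * A = q ^ 4 * A ^ 2 + q ^ 2 * A := by exact_mod_cast h0
    have : (y0 : ℤ) = q * ((q ^ 2 * A + 1) * a) + q := by rw [ea]; linear_combination h0'
    exact_mod_cast this
  have e2 : y2 = q ^ 2 * ((q * A + 1) * c) + q ^ 2 := by
    have h2' : (y2 : ℤ) + q ^ 3 * A = q ^ 3 * A ^ 2 + q ^ 2 * A := by exact_mod_cast h2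
    have : (y2 : ℤ) = q ^ 2 * ((q * A + 1) * c) + q ^ 2 := by rw [ec]; linear_combination h2'
    exact_mod_cast this
  rw [e0, e2, Nat.add_sub_cancel, Nat.add_sub_cancel]
  constructor
  · rw [ha, Nat.add_sub_cancel]
  · conv_rhs => rw [show A - 1 = c by omega]

theorem minus_theta (q A : ℕ) (hq : 2 ≤ q) (hA : q ≤ A) :
    q ^ 2 * A - 1 ≤ (q - 1) * ((q ^ 2 * A + 1) * (q * A + 1)) := by
  refine le_trans ?_ (Nat.mul_le_mul_right _ (show 1 ≤ q - 1 by omega))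
  rw [one_mul, Nat.sub_le_iff_le_add]
  have : (q ^ 2 * A + 1) * (q * A + 1) = q ^ 2 * A * (q * A) + q ^ 2 * A + q * A + 1 := by ring
  omega

/-! ### the quotient `N` -/

theorem div_mul_theta (q k X : ℕ) :
    (q - 1) * ((q ^ k - 1) * X / (q - 1)) = (q ^ k - 1) * X :=
  Nat.mul_div_cancel' (Dvd.dvd.mul_right (by simpa using Nat.sub_dvd_pow_sub_pow q 1 k) X)

end CfsgLib.MinIndexOrth.Numeric
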