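import Cfsg.Agent.Lib.MinIndexOrth.Index
import Cfsg.Agent.Lib.MinIndexOrth.Numeric
import Cfsg.Agent.Lib.POmega.Forms
import Cfsg.Agent.Lib.ClassicalGroups.OrthCard

/-!
The three standard forms: numbers of vectors of a given value, Witt indices, the numerical conditions,
and the minimal index for fields with at least four elements.
-/

set_option autoImplicit false
set_option linter.unusedSectionVars false

namespace CfsgLib.MinIndexOrth

open Matrix QuadraticMap CfsgLib.Orth CfsgLib.ClassicalGroups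

universe u

variable {F : Type u} [Field F] [Fintype F]

/-! ### Numbers of vectors of a value -/

section step
variable {V W : Type*} [AddCommGroup V] [Module F V] [AddCommGroup W] [Module F W]

theorem value_step [Finite V] {Q : V → F} {Q' : W → F} (e : W ≃ₗ[F] F × F × V)
    (he : ∀ w, hypQ Q (e w) = Q' w) (c : F) :
    Nat.card {w : W // Q' w = c} =
      (Fintype.card F - 1) * Nat.card V + Fintype.card F * Nat.card {x : V // Q x = c} := by
  classical
  have e1 : {w : W // Q' w = c} ≃ {v : F × F × V // hypQ Q v = c} :=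
    e.toEquiv.subtypeEquiv fun w => by simp [he]
  rw [Nat.card_congr e1]
  let _ : Fintype V := Fintype.ofFinite V
  have e2 : {v : F × F × V // hypQ Q v = c} ≃ Σ x : V, {p : F × F // p.1 * p.2 = c - Q x} :=
    { toFun := fun v => ⟨v.1.2.2, (v.1.1, v.1.2.1), eq_sub_of_add_eq v.2⟩
      invFun := fun s => ⟨(s.2.1.1, s.2.1.2, s.1), by rw [hypQ, s.2.2, sub_add_cancel]⟩
      left_inv := fun v => rfl
      right_inv := fun s => rfl }
  rw [Nat.card_congr e2, Nat.card_sigma]
  simp only [Nat.card_eq_fintype_card, Fintype.card_subtype]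
  rw [Finset.sum_congr rfl (fun x _ => ((congrArg Finset.card (by congr)).trans (card_mul_pairs (c - Q x))))]
  simp only [sub_eq_zero, eq_comm (a := c)]
  rw [Finset.sum_add_distrib, Finset.sum_const, Finset.card_univ, smul_eq_mul, mul_comm,
    ← Finset.sum_filter, Finset.sum_const, smul_eq_mul, mul_comm (Finset.card _)]

end step

theorem card_value_plus (m : ℕ) (c : F) (hc : c ≠ 0) :
    Fintype.card F * Nat.card {v : Fin m ⊕ Fin m → F // Cfsg.quadFormPlus m F v = c} + Fintype.card F ^ m =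
      Fintype.card F ^ (2 * m) := by
  induction m with
  | zero =>
    have : IsEmpty {v : Fin 0 ⊕ Fin 0 → F // Cfsg.quadFormPlus 0 F v = c} :=
      ⟨fun v => hc (by rw [← v.2]; simp [Cfsg.quadFormPlus])⟩
    simp
  | succ m ih =>
    rw [value_step (plusSplit m) (hypQ_plusSplit m), natCard_pow]
    simp only [Fintype.card_sum, Fintype.card_fin]
    obtain ⟨k, hk⟩ : ∃ k, Fintype.card F = k + 1 := Nat.exists_eq_add_of_le' Fintype.card_pos
    rw [hk] at ih ⊢
    rw [Nat.add_sub_cancel]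
    generalize Nat.card {x : Fin m ⊕ Fin m → F // Cfsg.quadFormPlus m F x = c} = N at ih ⊢
    simp only [← two_mul, pow_succ, mul_add, pow_add, mul_one] at ih ⊢
    linear_combination (k + 1) * ih

theorem card_value_minus {a b : F}
    (hab : ∀ z₁ z₂ : F, z₁ ^ 2 + a * z₁ * z₂ + b * z₂ ^ 2 = 0 → z₁ = 0 ∧ z₂ = 0) (m : ℕ) (c : F)
    (hc : c ≠ 0) :
    Fintype.card F ^ (2 * m + 2) + Fintype.card F ^ (m + 1) ≤
      Fintype.card F * Nat.card {v : (Fin m ⊕ Fin m) ⊕ Fin 2 → F // Cfsg.quadFormMinus m F a b v = c} := by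
  induction m with
  | zero =>
    have h : Fintype.card F + 1 ≤
        Nat.card {v : (Fin 0 ⊕ Fin 0) ⊕ Fin 2 → F // Cfsg.quadFormMinus 0 F a b v = c} := by
      rw [← card_binQ_eq_one hab, Nat.card_congr
        (minusBase.toEquiv.subtypeEquiv (p := fun v => Cfsg.quadFormMinus 0 F a b v = c)
          (q := fun p => binQ a b p = c) fun v => by
            show _ ↔ binQ a b (minusBase v) = c
            rw [binQ_minusBase])]
      obtain ⟨p, hp⟩ := exists_binQ_eq a b c (binDisc_ne_zero hab)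
      refine Nat.card_le_card_of_injective
        (fun r : {r : F × F // binQ a b r = 1} => (⟨binMul a b p r.1, by
          rw [binQ_binMul, hp, r.2, mul_one]⟩ : {r : F × F // binQ a b r = c})) ?_
      intro r r' h
      have h' : binMul a b p r.1 = binMul a b p r'.1 := congrArg Subtype.val h
      refine Subtype.ext ?_
      by_contra hne
      have h0 : binMul a b p (r.1 - r'.1) = 0 := by
        have : binMul a b p (r.1 - r'.1) = binMul a b p r.1 - binMul a b p r'.1 := by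
          simp only [binMul, Prod.fst_sub, Prod.snd_sub, Prod.mk_sub_mk]
          ext <;> simp <;> ring
        rw [this, h', sub_self]
      have h2 := binQ_binMul a b p (r.1 - r'.1)
      rw [h0, hp] at h2
      have h3 : binQ a b (r.1 - r'.1) = 0 := by
        simp [binQ] at h2 ⊢
        exact h2.resolve_left hc
      exact hne (sub_eq_zero.1 (Prod.ext (hab _ _ h3).1 (hab _ _ h3).2))
    calc Fintype.card F ^ (2 * 0 + 2) + Fintype.card F ^ (0 + 1)
        = Fintype.card F * (Fintype.card F + 1) := by ring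
      _ ≤ _ := Nat.mul_le_mul_left _ h
  | succ m ih =>
    rw [value_step (minusSplit m) (hypQ_minusSplit m a b), natCard_pow]
    simp only [Fintype.card_sum, Fintype.card_fin]
    obtain ⟨k, hk⟩ : ∃ k, Fintype.card F = k + 1 := Nat.exists_eq_add_of_le' Fintype.card_pos
    rw [hk] at ih ⊢
    rw [Nat.add_sub_cancel]
    generalize Nat.card {x : (Fin m ⊕ Fin m) ⊕ Fin 2 → F // Cfsg.quadFormMinus m F a b x = c} = N at ih ⊢
    rw [show 2 * (m + 1) + 2 = (2 * m + 2) + 2 by ring, pow_add _ (2 * m + 2) 2, pow_succ _ (m + 1),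
      show m + m + 2 = 2 * m + 2 by ring]
    generalize (k + 1) ^ (2 * m + 2) = P at ih ⊢
    generalize (k + 1) ^ (m + 1) = R at ih ⊢
    nlinarith [Nat.mul_le_mul_left (k + 1) ih]

theorem card_value_odd (m : ℕ) (c : F) :
    Fintype.card F ^ (2 * m) ≤
      Nat.card {v : Unit ⊕ (Fin m ⊕ Fin m) → F // Cfsg.quadFormOdd m F v = c} + Fintype.card F ^ m := by
  induction m with
  | zero => simp
  | succ m ih =>
    rw [value_step (oddSplit m) (hypQ_oddSplit m), natCard_pow]
    simp only [Fintype.card_sum, Fintype.card_fin, Fintype.card_unit]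
    obtain ⟨k, hk⟩ : ∃ k, Fintype.card F = k + 1 := Nat.exists_eq_add_of_le' Fintype.card_pos
    rw [hk] at ih ⊢
    rw [Nat.add_sub_cancel]
    generalize Nat.card {x : Unit ⊕ (Fin m ⊕ Fin m) → F // Cfsg.quadFormOdd m F x = c} = N at ih ⊢
    rw [show 2 * (m + 1) = 2 * m + 2 by ring, pow_add _ (2 * m) 2, pow_succ _ m,
      show 1 + (m + m) = 2 * m + 1 by ring, pow_succ _ (2 * m)]
    generalize (k + 1) ^ (2 * m) = P at ih ⊢
    generalize (k + 1) ^ m = R at ih ⊢
    nlinarith [Nat.mul_le_mul_left (k + 1) ih]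

theorem minus_witt {a b : F}
    (hab : ∀ z₁ z₂ : F, z₁ ^ 2 + a * z₁ * z₂ + b * z₂ ^ 2 = 0 → z₁ = 0 ∧ z₂ = 0) (k : ℕ)
    (U : Submodule F ((Fin k ⊕ Fin k) ⊕ Fin 2 → F)) (hU : ∀ u ∈ U, minusQ k F a b u = 0) :
    Module.finrank F U ≤ k := by
  by_contra hlt
  push Not at hlt
  let Z : ((Fin k ⊕ Fin k) ⊕ Fin 2 → F) →ₗ[F] (Fin k → F) :=
    LinearMap.funLeft F F fun i => Sum.inl (Sum.inr i)
  let X : ((Fin k ⊕ Fin k) ⊕ Fin 2 → F) →ₗ[F] (Fin k → F) :=
    LinearMap.funLeft F F fun i => Sum.inl (Sum.inl i)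
  let K := LinearMap.ker (Z.comp U.subtype)
  have hK : ∀ u : K, ((u : U) : (Fin k ⊕ Fin k) ⊕ Fin 2 → F) (Sum.inr 0) = 0 ∧
      ((u : U) : (Fin k ⊕ Fin k) ⊕ Fin 2 → F) (Sum.inr 1) = 0 := by
    intro u
    have hy : ∀ i, ((u : U) : (Fin k ⊕ Fin k) ⊕ Fin 2 → F) (Sum.inl (Sum.inr i)) = 0 := fun i =>
      congrFun (LinearMap.mem_ker.1 u.2) i
    have h := hU _ (u : U).2
    rw [minusQ_coe, Cfsg.quadFormMinus, Finset.sum_eq_zero (fun i _ => by rw [hy i, mul_zero]), zero_add] at h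
    exact hab _ _ h
  let ψ : K →ₗ[F] (Fin k → F) := (X.comp U.subtype).comp K.subtype
  have hψ : Function.Injective ψ := by
    rw [injective_iff_map_eq_zero]
    intro u hu
    refine Subtype.ext (Subtype.ext (funext fun i => ?_))
    rcases i with (i | i) | i
    · exact congrFun hu i
    · exact congrFun (LinearMap.mem_ker.1 u.2) i
    · fin_cases i
      exacts [(hK u).1, (hK u).2]
  have h1 := (Z.comp U.subtype).finrank_range_add_finrank_ker
  have h3 : Module.finrank F (LinearMap.range ψ) = Module.finrank F K := LinearMap.finrank_range_of_inj hψ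
  let dp : LinearMap.BilinForm F (Fin k → F) := Matrix.toBilin' (1 : Matrix (Fin k) (Fin k) F)
  have hdp : ∀ x y, dp x y = x ⬝ᵥ y := fun x y => by simp [dp, Matrix.toBilin'_apply']
  have hle : LinearMap.range (Z.comp U.subtype) ≤ dp.orthogonal (LinearMap.range ψ) := by
    rintro _ ⟨v, rfl⟩ _ ⟨u, rfl⟩
    show dp (ψ u) (Z (v : (Fin k ⊕ Fin k) ⊕ Fin 2 → F)) = 0
    rw [hdp]
    have h : polar (minusQ k F a b) ((u : U) : (Fin k ⊕ Fin k) ⊕ Fin 2 → F) (v : (Fin k ⊕ Fin k) ⊕ Fin 2 → F) = 0 := by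
      simp [QuadraticMap.polar, hU _ (u : U).2, hU _ v.2, hU _ (U.add_mem (u : U).2 v.2)]
    rw [polar_minusQ, (hK u).1, (hK u).2] at h
    simp only [mul_zero, zero_mul, add_zero] at h
    rw [← h]
    refine Finset.sum_congr rfl fun i _ => ?_
    rw [show ((u : U) : (Fin k ⊕ Fin k) ⊕ Fin 2 → F) (Sum.inl (Sum.inr i)) = 0 from congrFun (LinearMap.mem_ker.1 u.2) i,
      zero_mul, add_zero]
    rfl
  have h4 := Submodule.finrank_mono hle
  rw [LinearMap.BilinForm.finrank_orthogonal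
    (LinearMap.BilinForm.nondegenerate_iff_ker_eq_bot.2 (LinearMap.ker_eq_bot'.2 fun x hx => by
      funext i
      have h := LinearMap.congr_fun hx (Pi.single i 1)
      rw [hdp, dotProduct_single, mul_one] at h
      simpa using h)),
    Module.finrank_fin_fun] at h4
  have h5 : Module.finrank F U = Module.finrank F (LinearMap.range (Z.comp U.subtype)) + Module.finrank F K :=
    h1.symm
  have h6 : Module.finrank F (LinearMap.range ψ) ≤ k := by
    simpa using Submodule.finrank_le (LinearMap.range ψ)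
  omega

/-! ### Numerical helpers -/

theorem card_sqrt_one_le : Nat.card {t : F // t * t = 1} ≤ 2 := by
  classical
  rw [Nat.card_eq_fintype_card, Fintype.card_subtype]
  refine (Finset.card_le_card (t := {1, -1}) fun t ht => ?_).trans Finset.card_le_two
  simpa using mul_self_eq_one_iff.1 (Finset.mem_filter.1 ht).2

theorem sqrt_cases (hq : 4 ≤ Fintype.card F) {ch : ℕ} [CharP F ch] (hch : ch.Prime) :
    (ch = 2 ∧ Nat.card {t : F // t * t = 1} ≤ 1) ∨ (5 ≤ ch ∧ 5 ≤ Fintype.card F) ∨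
      (ch = 3 ∧ 9 ≤ Fintype.card F) := by
  rcases Nat.lt_or_ge ch 5 with h | h
  swap
  · obtain ⟨n, -, hn⟩ := FiniteField.card F ch
    refine Or.inr (Or.inl ⟨h, ?_⟩)
    rw [hn]
    exact h.trans (Nat.le_self_pow n.ne_zero ch)
  have : ch = 2 ∨ ch = 3 := by
    have := hch.two_le
    by_contra hc
    have h4 : ch = 4 := by omega
    rw [h4] at hch
    norm_num at hch
  rcases this with rfl | rfl
  · refine Or.inl ⟨rfl, ?_⟩
    rw [Finite.card_le_one_iff_subsingleton]
    refine ⟨fun t t' => Subtype.ext ?_⟩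
    have h2 : (2 : F) = 0 := by exact_mod_cast CharP.cast_eq_zero F 2
    rcases mul_self_eq_one_iff.1 t.2 with e | e <;> rcases mul_self_eq_one_iff.1 t'.2 with e' | e' <;>
      rw [e, e'] <;> first | rfl | linear_combination h2 | linear_combination -h2
  · obtain ⟨n, -, hn⟩ := FiniteField.card F 3
    refine Or.inr (Or.inr ⟨rfl, ?_⟩)
    rcases Nat.lt_or_ge (n : ℕ) 2 with h1 | h1
    · have : (n : ℕ) = 1 := by have := n.pos; omega
      rw [hn, this] at hq
      omega
    · rw [hn]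
      exact (show 9 = 3 ^ 2 by norm_num) ▸ Nat.pow_le_pow_right (by norm_num) h1

theorem count_nt {q s ch K C B : ℕ} (hq : 4 ≤ q) (hC : 24 * B ≤ K)
    (hcase : (ch = 2 ∧ s ≤ 1) ∨ (5 ≤ ch ∧ 5 ≤ q ∧ s ≤ 2) ∨ (ch = 3 ∧ 9 ≤ q ∧ s ≤ 2)) (hK : K ≤ C + B) :
    s * (q ^ 2 * K + q ^ 2 * B) ≤ ch * ((q - 1) ^ 2 * C) := by
  have h1 : 24 * (s * (q ^ 2 * K + q ^ 2 * B)) ≤ s * (25 * (q ^ 2 * K)) := by
    have := Nat.mul_le_mul_left (q ^ 2) hC
    nlinarith
  have h2 : 23 * K ≤ 24 * C := by omega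
  have key : s * q ^ 2 * 25 ≤ ch * (q - 1) ^ 2 * 23 := by
    obtain ⟨r, rfl⟩ : ∃ r, q = r + 1 := ⟨q - 1, by omega⟩
    rw [Nat.add_sub_cancel]
    rcases hcase with ⟨rfl, hs⟩ | ⟨hch, hq5, hs⟩ | ⟨rfl, hq9, hs⟩
    · calc s * (r + 1) ^ 2 * 25 ≤ 1 * (r + 1) ^ 2 * 25 := by gcongr
        _ ≤ _ := by nlinarith
    · calc s * (r + 1) ^ 2 * 25 ≤ 2 * (r + 1) ^ 2 * 25 := by gcongr
        _ ≤ 5 * r ^ 2 * 23 := by nlinarith
        _ ≤ _ := by gcongr
    · calc s * (r + 1) ^ 2 * 25 ≤ 2 * (r + 1) ^ 2 * 25 := by gcongr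
        _ ≤ _ := by nlinarith
  refine Nat.le_of_mul_le_mul_left (h1.trans ?_) (by norm_num : 0 < 24)
  calc s * (25 * (q ^ 2 * K)) = s * q ^ 2 * 25 * K := by ring
    _ ≤ ch * (q - 1) ^ 2 * 23 * K := Nat.mul_le_mul_right _ key
    _ = ch * (q - 1) ^ 2 * (23 * K) := by ring
    _ ≤ ch * (q - 1) ^ 2 * (24 * C) := Nat.mul_le_mul_left _ h2
    _ = _ := by ring

namespace Space

variable {ι : Type} [Fintype ι] [DecidableEq ι] (S : Space ι F)

/-- invariance from the numerical conditions -/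
theorem inv_of_num {N : ℕ} (hq : 4 ≤ Fintype.card F) (K B : ℕ) (hB : 24 * B ≤ K)
    (hN : (Fintype.card F - 1) * N ≤ Fintype.card F * K + Fintype.card F * B)
    (hcnt : ∀ p c, S.Q p = 0 → p ≠ 0 → c ≠ 0 → K ≤ S.cnt p c + B)
    (X : Type u) [MulAction S.G X] [Fintype X] (hlt : Fintype.card X < N) : S.Inv X := by
  obtain ⟨ch, hch⟩ := CharP.exists F
  have hp : ch.Prime := CharP.char_prime_of_ne_zero F (CharP.char_ne_zero_of_finite F ch)
  set q := Fintype.card F
  refine S.inv_of_count ch hp fun p c hp' hp0 hc => ?_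
  refine Nat.le_of_mul_le_mul_left ?_ (show 0 < q - 1 by omega)
  calc (q - 1) * (Nat.card {t : F // t * t = 1} * (q * Fintype.card X))
      = Nat.card {t : F // t * t = 1} * (q * ((q - 1) * Fintype.card X)) := by ring
    _ ≤ Nat.card {t : F // t * t = 1} * (q ^ 2 * K + q ^ 2 * B) := by
        refine Nat.mul_le_mul_left _ ?_
        calc q * ((q - 1) * Fintype.card X) ≤ q * ((q - 1) * N) :=
              Nat.mul_le_mul_left _ (Nat.mul_le_mul_left _ hlt.le)
          _ ≤ q * (q * K + q * B) := Nat.mul_le_mul_left _ hN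
          _ = _ := by ring
    _ ≤ ch * ((q - 1) ^ 2 * S.cnt p c) := by
        refine count_nt hq hB ?_ (hcnt p c hp' hp0 hc)
        rcases sqrt_cases (F := F) hq hp with h | ⟨h, h'⟩ | ⟨h, h'⟩
        · exact Or.inl h
        · exact Or.inr (Or.inl ⟨h, h', card_sqrt_one_le⟩)
        · exact Or.inr (Or.inr ⟨h, h', card_sqrt_one_le⟩)
    _ = _ := by ring

theorem exists_scalar (hq : 4 ≤ Fintype.card F) : ∃ s : F, s ≠ 0 ∧ s * s ≠ 1 := by
  classical
  by_contra hc
  push Not at hc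
  have h1 : (Finset.univ : Finset F) ⊆ {0, 1, -1} := by
    intro t _
    by_cases h0 : t = 0
    · simp [h0]
    · rcases mul_self_eq_one_iff.1 (hc t h0) with h | h <;> simp [h]
  have := (Finset.card_le_card h1).trans Finset.card_le_three
  rw [Finset.card_univ] at this
  omega

theorem min_index {N w : ℕ} (hB : S.Bounds N w) (hq : 4 ≤ Fintype.card F) (K B : ℕ) (hB24 : 24 * B ≤ K)
    (hN : (Fintype.card F - 1) * N ≤ Fintype.card F * K + Fintype.card F * B)
    (hcnt : ∀ p c, S.Q p = 0 → p ≠ 0 → c ≠ 0 → K ≤ S.cnt p c + B)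
    (hz : (Fintype.card F - 1) * N + 1 = S.zc 0) :
    (∀ H : Subgroup (Cfsg.POmega F ⇑S.Q), H ≠ ⊤ → N ≤ H.index) ∧
      ∃ H : Subgroup (Cfsg.POmega F ⇑S.Q), H.index = N := by
  refine ⟨fun H hH => S.index_ge (fun X _ _ _ hfree => ?_) H hH, S.exists_index_eq hz⟩
  exact S.le_card hB hfree (fun hlt => S.inv_of_num hq K B hB24 hN hcnt X hlt) (exists_scalar hq)

end Space

/-! ### The three families -/

section plus

/-- the plus type space -/
noncomputable def plusSpace (F : Type u) [Field F] [Fintype F] (m : ℕ) (hm : 4 ≤ m) :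
    Space (Fin m ⊕ Fin m) F where
  Q := plusQ m F
  nondeg := plusQ_nondegenerate m
  seven := by simp; omega

theorem plus_min_index (hq : 4 ≤ Fintype.card F) (m : ℕ) (hm : 4 ≤ m) {N : ℕ}
    (hN : N = (Fintype.card F ^ m - 1) * (Fintype.card F ^ (m - 1) + 1) / (Fintype.card F - 1)) :
    (∀ H : Subgroup (Cfsg.POmega F (Cfsg.quadFormPlus m F)), H ≠ ⊤ → N ≤ H.index) ∧
      ∃ H : Subgroup (Cfsg.POmega F (Cfsg.quadFormPlus m F)), H.index = N := by
  set S := plusSpace F m hm
  have key : (∀ H : Subgroup (Cfsg.POmega F ⇑S.Q), H ≠ ⊤ → N ≤ H.index) ∧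
      ∃ H : Subgroup (Cfsg.POmega F ⇑S.Q), H.index = N := by
    obtain ⟨j, rfl⟩ : ∃ j, m = j + 3 := ⟨m - 3, by omega⟩
    set q := Fintype.card F with hqdef
    set A := q ^ j with hA
    have hcard : Fintype.card (Fin (j + 3) ⊕ Fin (j + 3)) = 2 * j + 6 := by simp; ring
    have hqA : q ≤ A := by
      calc q = q ^ 1 := (pow_one q).symm
        _ ≤ q ^ j := Nat.pow_le_pow_right (by omega) (by omega)
    have hA1 : 1 ≤ A := by omega
    have hmul : (q - 1) * N = (q ^ 3 * A - 1) * (q ^ 2 * A + 1) := by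
      rw [hN, Numeric.div_mul_theta, show j + 3 - 1 = j + 2 by omega, pow_add, pow_add, mul_comm (q ^ j),
        mul_comm (q ^ j)]
    have hzc : ∀ c : F, S.zc c = Nat.card {v : Fin (j + 3) ⊕ Fin (j + 3) → F // Cfsg.quadFormPlus (j + 3) F v = c} :=
      fun c => by simp only [Space.zc, S, plusSpace, plusQ_coe]
    have hz0 : (q - 1) * N + 1 = S.zc 0 ∧ S.zc 0 + q ^ 2 * A = q ^ 5 * A ^ 2 + q ^ 3 * A := by
      have h := card_zero_plus (F := F) (j + 3)
      rw [← hzc 0, ← hqdef] at h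
      have e : S.zc 0 + q ^ 2 * A = q ^ 5 * A ^ 2 + q ^ 3 * A := by
        refine Nat.eq_of_mul_eq_mul_left (show 0 < q by omega) ?_
        simp only [A]
        ring_nf at h ⊢
        omega
      refine ⟨?_, e⟩
      rw [hmul]
      obtain ⟨a, ha⟩ : ∃ a, q ^ 3 * A = a + 1 := ⟨q ^ 3 * A - 1, by
        have := Numeric.ge_four (show 2 ≤ q by omega) hA1; omega⟩
      rw [ha, Nat.add_sub_cancel]
      rw [ha, show q ^ 5 * A ^ 2 = q ^ 2 * A * (q ^ 3 * A) by ring, ha] at e
      linarith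
    have hp2 : q ^ (Fintype.card (Fin (j + 3) ⊕ Fin (j + 3)) - 2) = q ^ 4 * A ^ 2 := by
      rw [hcard, show 2 * j + 6 - 2 = 4 + 2 * j by omega, pow_add, pow_mul', hA]
    have hp1 : q ^ (Fintype.card (Fin (j + 3) ⊕ Fin (j + 3)) - 1) = q ^ 5 * A ^ 2 := by
      rw [hcard, show 2 * j + 6 - 1 = 5 + 2 * j by omega, pow_add, pow_mul', hA]
    have hp3 : q ^ (Fintype.card (Fin (j + 3) ⊕ Fin (j + 3)) - 3) = q ^ 3 * A ^ 2 := by
      rw [hcard, show 2 * j + 6 - 3 = 3 + 2 * j by omega, pow_add, pow_mul', hA]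
    have g := Numeric.ge_four (show 2 ≤ q by omega) hA1
    have hsq : q ^ 2 * A ≤ q ^ 3 * A ^ 2 := by
      calc q ^ 2 * A = q ^ 2 * A * 1 := (mul_one _).symm
        _ ≤ q ^ 2 * A * (q * A) := Nat.mul_le_mul_left _ (by omega)
        _ = _ := by ring
    have hA24 : q ^ 2 * A ≤ q ^ 4 * A ^ 2 := hsq.trans (Nat.mul_le_mul_right _ (Nat.pow_le_pow_right (by omega) (by omega)))
    have hA35 : q ^ 2 * A ≤ q ^ 5 * A ^ 2 := hsq.trans (Nat.mul_le_mul_right _ (Nat.pow_le_pow_right (by omega) (by omega)))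
    have hy0 : S.y0 + q ^ 2 * A = q ^ 4 * A ^ 2 + q ^ 3 * A := by
      have e := hz0.2
      unfold Space.y0
      rw [← hqdef, hp2, hp1]
      omega
    have hy2 : S.y2 + q ^ 2 * A = q ^ 3 * A ^ 2 + q ^ 3 * A := by
      unfold Space.y2
      rw [← hqdef, hp3, hp2]
      omega
    obtain ⟨f0, f2⟩ := Numeric.plus_sub q A _ _ (by omega) hA1 hy0 hy2
    have hzlow : ∀ c : F, c ≠ 0 → q ^ 5 * A ^ 2 ≤ S.zc c + q ^ 2 * A := by
      intro c hc
      have h := card_value_plus (F := F) (j + 3) c hc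
      rw [← hzc c, ← hqdef] at h
      refine Nat.le_of_mul_le_mul_left (le_of_eq ?_) (show 0 < q by omega)
      simp only [A]
      ring_nf at h ⊢
      omega
    have hNle : (q - 1) * N ≤ q * (q ^ 4 * A ^ 2) + q * (q ^ 2 * A) := by
      rw [hmul]
      refine (Nat.mul_le_mul_right _ (Nat.sub_le _ _)).trans (le_of_eq ?_)
      ring
    refine S.min_index (w := j + 3) ?_ hq (q ^ 4 * A ^ 2) (q ^ 2 * A) ?_ hNle ?_ hz0.1
    · have hwpow : q ^ (j + 3) = q ^ 3 * A := by rw [pow_add, mul_comm]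
      constructor
      · omega
      · rw [hcard]; omega
      · intro W hW
        have h := two_finrank_le S.nondeg hW
        rw [hcard] at h
        omega
      · exact hz0.1.le
      · rw [← hqdef, f0]; exact Numeric.plus_duo q A (by omega) hA1
      · rw [← hqdef, f0, f2, hwpow, (Numeric.plus_w q A (by omega) hA1).1,
          (Numeric.plus_w q A (by omega) hA1).2]
        calc (q ^ 3 * A - 1) * (q * (q ^ 2 * A - 1)) * (q ^ 2 * (q * A - 1))
            ≤ (q - 1) * ((q * A + 1) * (A + 1)) * (q * (q ^ 2 * A - 1)) * (q ^ 2 * (q * A - 1)) :=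
              Nat.mul_le_mul_right _ (Nat.mul_le_mul_right _ (Numeric.plus_theta q A (by omega) hqA))
          _ = _ := by ring
      · rw [← hqdef, f0, f2]
        refine Nat.mul_pos (Nat.mul_pos (by omega) (Nat.mul_pos (by omega) (by omega)))
          (Nat.mul_pos (by nlinarith) (Nat.mul_pos (by omega) (by omega)))
      · intro c hc
        refine Nat.le_of_mul_le_mul_left ?_ (show 0 < q - 1 by omega)
        calc (q - 1) * (Nat.card {t : F // t * t = 1} * N) ≤ 2 * ((q - 1) * N) := by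
              rw [Nat.mul_left_comm]; exact Nat.mul_le_mul_right _ card_sqrt_one_le
          _ ≤ 2 * (q * (q ^ 4 * A ^ 2) + q * (q ^ 2 * A)) := Nat.mul_le_mul_left _ hNle
          _ ≤ 3 * S.zc c := by
              have h1 := hzlow c hc
              have e1 : q * (q ^ 4 * A ^ 2) = q ^ 5 * A ^ 2 := by ring
              have e2 : q * (q ^ 2 * A) = q ^ 3 * A := by ring
              have e3 : 5 * (q ^ 3 * A) ≤ q ^ 5 * A ^ 2 := by
                calc 5 * (q ^ 3 * A) ≤ q ^ 2 * A * (q ^ 3 * A) := Nat.mul_le_mul_right _ (by nlinarith)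
                  _ = _ := by ring
              have e4 : q ^ 2 * A ≤ q ^ 3 * A :=
                Nat.mul_le_mul_right _ (Nat.pow_le_pow_right (by omega) (by omega))
              omega
          _ ≤ _ := Nat.mul_le_mul_right _ (by omega)
      · rw [← hqdef, hp2]
        refine Nat.le_of_mul_le_mul_left (hNle.trans ?_) (show 0 < q - 1 by omega)
        refine Nat.le_of_mul_le_mul_left ?_ (show 0 < 9 by norm_num)
        have e2 : 9 * (q ^ 2 * A) ≤ q ^ 4 * A ^ 2 := by
          calc 9 * (q ^ 2 * A) ≤ q ^ 2 * A * (q ^ 2 * A) := Nat.mul_le_mul_right _ (by nlinarith)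
            _ = _ := by ring
        calc 9 * (q * (q ^ 4 * A ^ 2) + q * (q ^ 2 * A))
            = 9 * q * (q ^ 4 * A ^ 2) + q * (9 * (q ^ 2 * A)) := by ring
          _ ≤ 9 * q * (q ^ 4 * A ^ 2) + q * (q ^ 4 * A ^ 2) := Nat.add_le_add_left (Nat.mul_le_mul_left _ e2) _
          _ = 10 * q * (q ^ 4 * A ^ 2) := by ring
          _ ≤ (q - 1) * 18 * (q ^ 4 * A ^ 2) := Nat.mul_le_mul_right _ (by omega)
          _ = _ := by ring
      · intro _
        rw [← hqdef, f0, f2, hwpow, (Numeric.plus_w q A (by omega) hA1).1,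
          (Numeric.plus_w q A (by omega) hA1).2, show j + 3 - 1 = j + 2 by omega, pow_add, mul_comm (q ^ j)]
        suffices hs : N ≤ 2 * (q ^ 2 * A) * ((q * A + 1) * (A + 1)) by
          calc N * (q * (q ^ 2 * A - 1) * (q ^ 2 * (q * A - 1)))
              ≤ 2 * (q ^ 2 * A) * ((q * A + 1) * (A + 1)) * (q * (q ^ 2 * A - 1) * (q ^ 2 * (q * A - 1))) :=
                Nat.mul_le_mul_right _ hs
            _ = _ := by ring
        refine Nat.le_of_mul_le_mul_left ?_ (show 0 < q - 1 by omega)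
        rw [hmul]
        calc (q ^ 3 * A - 1) * (q ^ 2 * A + 1)
            ≤ (q - 1) * ((q * A + 1) * (A + 1)) * (2 * (q ^ 2 * A)) :=
              Nat.mul_le_mul (Numeric.plus_theta q A (by omega) hqA) (by omega)
          _ = _ := by ring
    · calc 24 * (q ^ 2 * A) ≤ q ^ 2 * A * (q ^ 2 * A) := Nat.mul_le_mul_right _ (by nlinarith)
        _ = _ := by ring
    · intro p c hp hp0 hc
      have h1 := hzlow c hc
      have h2 := S.cnt_add hp hp0 c
      rw [← hqdef, hp1, hp2] at h2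
      omega
  have e : (⇑S.Q : (Fin m ⊕ Fin m → F) → F) = Cfsg.quadFormPlus m F := plusQ_coe m
  rw [e] at key
  exact key

end plus

section odd

/-- the odd-dimensional space -/
noncomputable def oddSpace (F : Type u) [Field F] [Fintype F] (h2 : (2 : F) ≠ 0) (m : ℕ) (hm : 3 ≤ m) :
    Space (Unit ⊕ (Fin m ⊕ Fin m)) F where
  Q := CfsgLib.POmega.oddQ m F
  nondeg := CfsgLib.POmega.oddQ_nondegenerate h2 m
  seven := by simp; omega

theorem odd_min_index (hodd : Odd (Fintype.card F)) (hq : 5 ≤ Fintype.card F) (m : ℕ) (hm : 3 ≤ m) {N : ℕ}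
    (hN : N = (Fintype.card F ^ (2 * m) - 1) / (Fintype.card F - 1)) :
    (∀ H : Subgroup (Cfsg.POmega F (Cfsg.quadFormOdd m F)), H ≠ ⊤ → N ≤ H.index) ∧
      ∃ H : Subgroup (Cfsg.POmega F (Cfsg.quadFormOdd m F)), H.index = N := by
  set S := oddSpace F (CfsgLib.POmega.two_ne_zero_of_odd hodd) m hm
  have key : (∀ H : Subgroup (Cfsg.POmega F ⇑S.Q), H ≠ ⊤ → N ≤ H.index) ∧
      ∃ H : Subgroup (Cfsg.POmega F ⇑S.Q), H.index = N := by
    obtain ⟨j, rfl⟩ : ∃ j, m = j + 2 := ⟨m - 2, by omega⟩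
    set q := Fintype.card F with hqdef
    set A := q ^ j with hA
    have hcard : Fintype.card (Unit ⊕ (Fin (j + 2) ⊕ Fin (j + 2))) = 2 * j + 5 := by simp; ring
    have hqA : q ≤ A := by
      calc q = q ^ 1 := (pow_one q).symm
        _ ≤ q ^ j := Nat.pow_le_pow_right (by omega) (by omega)
    have hmul : (q - 1) * N = q ^ 4 * A ^ 2 - 1 := by
      have h := Numeric.div_mul_theta q (2 * (j + 2)) 1
      simp only [mul_one] at h
      rw [hN, h, hA]
      congr 1
      ring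
    have hzc : ∀ c : F,
        S.zc c = Nat.card {v : Unit ⊕ (Fin (j + 2) ⊕ Fin (j + 2)) → F // Cfsg.quadFormOdd (j + 2) F v = c} :=
      fun c => by simp only [Space.zc, S, oddSpace, CfsgLib.POmega.oddQ_coe]
    have hz : S.zc 0 = q ^ 4 * A ^ 2 := by rw [hzc 0, card_zero_odd, ← hqdef, hA]; ring
    have hp1 : q ^ (Fintype.card (Unit ⊕ (Fin (j + 2) ⊕ Fin (j + 2))) - 1) = q ^ 4 * A ^ 2 := by
      rw [hcard, show 2 * j + 5 - 1 = 4 + 2 * j by omega, pow_add, pow_mul', hA]
    have hp2 : q ^ (Fintype.card (Unit ⊕ (Fin (j + 2) ⊕ Fin (j + 2))) - 2) = q ^ 3 * A ^ 2 := by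
      rw [hcard, show 2 * j + 5 - 2 = 3 + 2 * j by omega, pow_add, pow_mul', hA]
    have hp3 : q ^ (Fintype.card (Unit ⊕ (Fin (j + 2) ⊕ Fin (j + 2))) - 3) = q ^ 2 * A ^ 2 := by
      rw [hcard, show 2 * j + 5 - 3 = 2 + 2 * j by omega, pow_add, pow_mul', hA]
    have hy0 : S.y0 = q ^ 3 * A ^ 2 := by
      unfold Space.y0
      rw [← hqdef, hp2, hp1, hz]
      omega
    have hy2 : S.y2 = q ^ 2 * A ^ 2 := by
      unfold Space.y2
      rw [← hqdef, hp3, hp2, hy0]
      omega
    obtain ⟨f0, f2⟩ := Numeric.odd_sub q A (by omega) (by omega)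
    have hwpow : q ^ (j + 2) = q ^ 2 * A := by rw [pow_add, mul_comm]
    have hzlow : ∀ c : F, q ^ 4 * A ^ 2 ≤ S.zc c + q ^ 2 * A := by
      intro c
      have h := card_value_odd (F := F) (j + 2) c
      rw [← hzc c, ← hqdef] at h
      rw [← hwpow]
      refine le_trans (le_of_eq ?_) h
      rw [hA]; ring
    have g : 25 ≤ q * A := Nat.mul_le_mul hq (hq.trans hqA)
    have hB : 24 * (q ^ 2 * A) ≤ q ^ 3 * A ^ 2 := by
      calc 24 * (q ^ 2 * A) ≤ q * A * (q ^ 2 * A) := Nat.mul_le_mul_right _ (by omega)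
        _ = _ := by ring
    have e43 : q * (q ^ 3 * A ^ 2) = q ^ 4 * A ^ 2 := by ring
    have hNle : (q - 1) * N ≤ q * (q ^ 3 * A ^ 2) + q * (q ^ 2 * A) := by rw [hmul, e43]; omega
    have hz1 : (q - 1) * N + 1 = S.zc 0 := by
      rw [hmul, hz]
      have : 0 < q ^ 4 * A ^ 2 := Nat.mul_pos (pow_pos (by omega) _) (pow_pos (by omega) _)
      omega
    refine S.min_index (w := j + 2) ?_ (by omega) (q ^ 3 * A ^ 2) (q ^ 2 * A) hB hNle ?_ hz1
    · constructor
      · omega
      · rw [hcard]; omega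
      · intro W hW
        have h := two_finrank_le S.nondeg hW
        rw [hcard] at h
        omega
      · exact hz1.le
      · rw [← hqdef, hy0, f0, show q ^ 2 - q = q * (q - 1) by rw [Nat.mul_sub, mul_one, pow_two],
          Nat.mul_left_comm]
        refine Nat.mul_le_mul_left _ ?_
        rw [mul_comm]
        have hqqA : q ≤ q * A := Nat.le_mul_of_pos_right q (by omega)
        exact Nat.mul_le_mul (by omega) (by omega)
      · rw [← hqdef, hy0, hy2, f0, f2, hwpow,
          show q ^ 2 * A - q = q * (q * A - 1) by rw [Nat.mul_sub, mul_one]; congr 1; ring,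
          show q ^ 2 * A - q ^ 2 = q ^ 2 * (A - 1) by rw [Nat.mul_sub, mul_one]]
        calc (q ^ 2 * A - 1) * (q * (q * A - 1)) * (q ^ 2 * (A - 1))
            ≤ (q - 1) * ((q * A + 1) * (A + 1)) * (q * (q * A - 1)) * (q ^ 2 * (A - 1)) :=
              Nat.mul_le_mul_right _ (Nat.mul_le_mul_right _ (Numeric.odd_theta q A (by omega) hqA))
          _ = _ := by ring
      · rw [← hqdef, hy0, hy2, f0, f2]
        exact Nat.mul_pos (Nat.mul_pos (by omega) (Nat.mul_pos (by omega) (by omega)))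
          (Nat.mul_pos (pow_pos (by omega) _) (Nat.mul_pos (by omega) (by omega)))
      · intro c _
        refine Nat.le_of_mul_le_mul_left ?_ (show 0 < q - 1 by omega)
        calc (q - 1) * (Nat.card {t : F // t * t = 1} * N) ≤ 2 * ((q - 1) * N) := by
              rw [Nat.mul_left_comm]; exact Nat.mul_le_mul_right _ card_sqrt_one_le
          _ ≤ 4 * S.zc c := by
              have h1 := hzlow c
              have e1 : 2 * (q ^ 2 * A) ≤ q * (q ^ 3 * A ^ 2) :=
                le_trans (by omega) (hB.trans (Nat.le_mul_of_pos_left _ (by omega)))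
              rw [hmul]
              omega
          _ ≤ _ := Nat.mul_le_mul_right _ (by omega)
      · rw [← hqdef, hp2]
        refine Nat.le_of_mul_le_mul_left ?_ (show 0 < q - 1 by omega)
        rw [hmul]
        calc q ^ 4 * A ^ 2 - 1 ≤ q * (q ^ 3 * A ^ 2) := by omega
          _ ≤ (q - 1) * 2 * (q ^ 3 * A ^ 2) := Nat.mul_le_mul_right _ (by omega)
          _ = _ := by ring
      · intro h
        rw [hcard] at h
        omega
    · intro p c hp hp0 _
      have h1 := hzlow c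
      have h2 := S.cnt_add hp hp0 c
      rw [← hqdef, hp1, hp2] at h2
      omega
  have e : (⇑S.Q : (Unit ⊕ (Fin m ⊕ Fin m) → F) → F) = Cfsg.quadFormOdd m F := CfsgLib.POmega.oddQ_coe m
  rw [e] at key
  exact key

end odd

section minus

/-- the minus type space -/
noncomputable def minusSpace (F : Type u) [Field F] [Fintype F] (k : ℕ) (hk : 3 ≤ k) {a b : F}
    (hab : ∀ z₁ z₂ : F, z₁ ^ 2 + a * z₁ * z₂ + b * z₂ ^ 2 = 0 → z₁ = 0 ∧ z₂ = 0) :
    Space ((Fin k ⊕ Fin k) ⊕ Fin 2) F where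
  Q := minusQ k F a b
  nondeg := CfsgLib.POmega.minusQ_nondegenerate_any hab
  seven := by simp; omega

theorem minus_min_index (hq : 4 ≤ Fintype.card F) (m : ℕ) (hm : 4 ≤ m) {a b : F}
    (hab : ∀ z₁ z₂ : F, z₁ ^ 2 + a * z₁ * z₂ + b * z₂ ^ 2 = 0 → z₁ = 0 ∧ z₂ = 0) {N : ℕ}
    (hN : N = (Fintype.card F ^ m + 1) * (Fintype.card F ^ (m - 1) - 1) / (Fintype.card F - 1)) :
    (∀ H : Subgroup (Cfsg.POmega F (Cfsg.quadFormMinus (m - 1) F a b)), H ≠ ⊤ → N ≤ H.index) ∧
      ∃ H : Subgroup (Cfsg.POmega F (Cfsg.quadFormMinus (m - 1) F a b)), H.index = N := by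
  obtain ⟨j, rfl⟩ : ∃ j, m = j + 3 := ⟨m - 3, by omega⟩
  rw [show j + 3 - 1 = j + 2 by omega] at hN ⊢
  set S := minusSpace F (j + 2) (by omega) hab
  have key : (∀ H : Subgroup (Cfsg.POmega F ⇑S.Q), H ≠ ⊤ → N ≤ H.index) ∧
      ∃ H : Subgroup (Cfsg.POmega F ⇑S.Q), H.index = N := by
    set q := Fintype.card F with hqdef
    set A := q ^ j with hA
    have hcard : Fintype.card ((Fin (j + 2) ⊕ Fin (j + 2)) ⊕ Fin 2) = 2 * j + 6 := by simp; ring
    have hqA : q ≤ A := by
      calc q = q ^ 1 := (pow_one q).symm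
        _ ≤ q ^ j := Nat.pow_le_pow_right (by omega) (by omega)
    have hwpow : q ^ (j + 2) = q ^ 2 * A := by rw [pow_add, mul_comm]
    have hmul : (q - 1) * N = (q ^ 3 * A + 1) * (q ^ 2 * A - 1) := by
      rw [hN, mul_comm (_ + 1) _, Numeric.div_mul_theta, hwpow, mul_comm, pow_add, mul_comm (q ^ j)]
    have hzc : ∀ c : F, S.zc c =
        Nat.card {v : (Fin (j + 2) ⊕ Fin (j + 2)) ⊕ Fin 2 → F // Cfsg.quadFormMinus (j + 2) F a b v = c} :=
      fun c => by simp only [Space.zc, S, minusSpace, minusQ_coe]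
    have g := Numeric.ge_four (show 2 ≤ q by omega) (show 1 ≤ A by omega)
    have hz : S.zc 0 + q ^ 3 * A = q ^ 5 * A ^ 2 + q ^ 2 * A := by
      have h := card_zero_minus hab (j + 2)
      rw [← hzc 0, ← hqdef] at h
      refine Nat.eq_of_mul_eq_mul_left (show 0 < q by omega) ?_
      simp only [A]
      ring_nf at h ⊢
      omega
    have hz1 : (q - 1) * N + 1 = S.zc 0 := by
      rw [hmul]
      obtain ⟨i, hi⟩ : ∃ i, q ^ 2 * A = i + 1 := ⟨q ^ 2 * A - 1, by omega⟩
      rw [hi, Nat.add_sub_cancel]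
      rw [show q ^ 5 * A ^ 2 = q ^ 3 * A * (q ^ 2 * A) by ring, hi] at hz
      linarith
    have hp2 : q ^ (Fintype.card ((Fin (j + 2) ⊕ Fin (j + 2)) ⊕ Fin 2) - 2) = q ^ 4 * A ^ 2 := by
      rw [hcard, show 2 * j + 6 - 2 = 4 + 2 * j by omega, pow_add, pow_mul', hA]
    have hp1 : q ^ (Fintype.card ((Fin (j + 2) ⊕ Fin (j + 2)) ⊕ Fin 2) - 1) = q ^ 5 * A ^ 2 := by
      rw [hcard, show 2 * j + 6 - 1 = 5 + 2 * j by omega, pow_add, pow_mul', hA]
    have hp3 : q ^ (Fintype.card ((Fin (j + 2) ⊕ Fin (j + 2)) ⊕ Fin 2) - 3) = q ^ 3 * A ^ 2 := by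
      rw [hcard, show 2 * j + 6 - 3 = 3 + 2 * j by omega, pow_add, pow_mul', hA]
    have h34 : q ^ 3 * A ≤ q ^ 3 * A ^ 2 :=
      Nat.mul_le_mul_left _ (Nat.le_self_pow (by norm_num) A)
    have h45 : q ^ 3 * A ^ 2 ≤ q ^ 4 * A ^ 2 := Nat.mul_le_mul_right _ (Nat.pow_le_pow_right (by omega) (by omega))
    have h56 : q ^ 4 * A ^ 2 ≤ q ^ 5 * A ^ 2 := Nat.mul_le_mul_right _ (Nat.pow_le_pow_right (by omega) (by omega))
    have hy0 : S.y0 + q ^ 3 * A = q ^ 4 * A ^ 2 + q ^ 2 * A := by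
      unfold Space.y0
      rw [← hqdef, hp2, hp1]
      omega
    have hy2 : S.y2 + q ^ 3 * A = q ^ 3 * A ^ 2 + q ^ 2 * A := by
      unfold Space.y2
      rw [← hqdef, hp3, hp2]
      omega
    obtain ⟨f0, f2⟩ := Numeric.minus_sub q A _ _ (by omega) (by omega) hy0 hy2
    have hzlow : ∀ c : F, c ≠ 0 → q ^ 5 * A ^ 2 ≤ S.zc c := by
      intro c hc
      have h := card_value_minus hab (j + 2) c hc
      rw [← hzc c, ← hqdef] at h
      have e : q * (q ^ 5 * A ^ 2) = q ^ (2 * (j + 2) + 2) := by rw [hA]; ring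
      exact Nat.le_of_mul_le_mul_left (by omega) (show 0 < q by omega)
    have hNle : (q - 1) * N ≤ q * (q ^ 4 * A ^ 2) + q * (q ^ 2 * A) := by
      have e1 : q * (q ^ 4 * A ^ 2) = q ^ 5 * A ^ 2 := by ring
      have e2 : q * (q ^ 2 * A) = q ^ 3 * A := by ring
      have : q ^ 2 * A ≤ q ^ 3 * A := Nat.mul_le_mul_right _ (Nat.pow_le_pow_right (by omega) (by omega))
      omega
    have hB : 24 * (q ^ 2 * A) ≤ q ^ 4 * A ^ 2 := by
      calc 24 * (q ^ 2 * A) ≤ q ^ 2 * A * (q ^ 2 * A) := Nat.mul_le_mul_right _ (by nlinarith)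
        _ = _ := by ring
    refine S.min_index (w := j + 2) ?_ hq (q ^ 4 * A ^ 2) (q ^ 2 * A) hB hNle ?_ hz1
    · constructor
      · omega
      · rw [hcard]; omega
      · exact fun W hW => minus_witt hab (j + 2) W hW
      · exact hz1.le
      · rw [← hqdef, f0, show q ^ 2 - q = q * (q - 1) by rw [Nat.mul_sub, mul_one, pow_two], Nat.mul_left_comm]
        refine Nat.mul_le_mul_left _ (Nat.mul_le_mul ?_ ?_)
        · nlinarith
        · exact Nat.sub_le_sub_right (Nat.le_mul_of_pos_right q (by omega)) 1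
      · rw [← hqdef, f0, f2, hwpow,
          show q ^ 2 * A - q = q * (q * A - 1) by rw [Nat.mul_sub, mul_one]; congr 1; ring,
          show q ^ 2 * A - q ^ 2 = q ^ 2 * (A - 1) by rw [Nat.mul_sub, mul_one]]
        calc (q ^ 2 * A - 1) * (q * (q * A - 1)) * (q ^ 2 * (A - 1))
            ≤ (q - 1) * ((q ^ 2 * A + 1) * (q * A + 1)) * (q * (q * A - 1)) * (q ^ 2 * (A - 1)) :=
              Nat.mul_le_mul_right _ (Nat.mul_le_mul_right _ (Numeric.minus_theta q A (by omega) hqA))
          _ = _ := by ring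
      · rw [← hqdef, f0, f2]
        exact Nat.mul_pos (Nat.mul_pos (by omega) (Nat.mul_pos (by omega) (by omega)))
          (Nat.mul_pos (pow_pos (by omega) _) (Nat.mul_pos (by omega) (by omega)))
      · intro c hc
        refine Nat.le_of_mul_le_mul_left ?_ (show 0 < q - 1 by omega)
        calc (q - 1) * (Nat.card {t : F // t * t = 1} * N) ≤ 2 * ((q - 1) * N) := by
              rw [Nat.mul_left_comm]; exact Nat.mul_le_mul_right _ card_sqrt_one_le
          _ ≤ 3 * S.zc c := by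
              have h1 := hzlow c hc
              have e3 : q * (q ^ 4 * A ^ 2) = q ^ 5 * A ^ 2 := by ring
              have e4 : 24 * (q * (q ^ 2 * A)) ≤ q * (q ^ 4 * A ^ 2) := by
                rw [Nat.mul_left_comm]; exact Nat.mul_le_mul_left _ hB
              omega
          _ ≤ _ := Nat.mul_le_mul_right _ (by omega)
      · rw [← hqdef, hp2]
        refine Nat.le_of_mul_le_mul_left (hNle.trans ?_) (show 0 < q - 1 by omega)
        refine Nat.le_of_mul_le_mul_left ?_ (show 0 < 24 by norm_num)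
        calc 24 * (q * (q ^ 4 * A ^ 2) + q * (q ^ 2 * A))
            = 24 * q * (q ^ 4 * A ^ 2) + q * (24 * (q ^ 2 * A)) := by ring
          _ ≤ 24 * q * (q ^ 4 * A ^ 2) + q * (q ^ 4 * A ^ 2) := Nat.add_le_add_left (Nat.mul_le_mul_left _ hB) _
          _ = 25 * q * (q ^ 4 * A ^ 2) := by ring
          _ ≤ (q - 1) * 48 * (q ^ 4 * A ^ 2) := Nat.mul_le_mul_right _ (by omega)
          _ = _ := by ring
      · intro h
        rw [hcard] at h
        omega
    · intro p c hp hp0 hc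
      have h1 := hzlow c hc
      have h2 := S.cnt_add hp hp0 c
      rw [← hqdef, hp1, hp2] at h2
      omega
  have e : (⇑S.Q : ((Fin (j + 2) ⊕ Fin (j + 2)) ⊕ Fin 2 → F) → F) = Cfsg.quadFormMinus (j + 2) F a b :=
    minusQ_coe (j + 2) a b
  rw [e] at key
  exact key

end minus

end CfsgLib.MinIndexOrth
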