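import Cfsg.Agent.Lib.MinIndexOrth.SmallIndex
import Cfsg.Agent.Lib.MinIndexOrth.Forms

/-!
The numerical conditions for the three families over the fields with two and three elements, and the
minimal index in dimension at least nine.
-/

set_option autoImplicit false
set_option linter.unusedSectionVars false

namespace CfsgLib.MinIndexOrth

open Matrix QuadraticMap CfsgLib.Orth CfsgLib.ClassicalGroups

universe u

variable {F : Type u} [Field F] [Fintype F]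

theorem card_sqrt_two (h : Fintype.card F = 2) : Nat.card {t : F // t * t = 1} = 1 := by
  classical
  rw [Nat.card_eq_one_iff_exists]
  refine ⟨⟨1, one_mul 1⟩, fun t => Subtype.ext ?_⟩
  have h0 : t.1 ≠ 0 := fun h0 => by
    have := t.2; rw [h0, mul_zero] at this; exact zero_ne_one this
  have := FiniteField.pow_card t.1
  rw [h, pow_two, t.2] at this
  exact this.symm

theorem card_sqrt_three (h : Fintype.card F = 3) : Nat.card {t : F // t * t = 1} = 2 := by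
  classical
  refine le_antisymm card_sqrt_one_le ?_
  have h2 : (2 : F) ≠ 0 := CfsgLib.POmega.two_ne_zero_of_odd (by rw [h]; decide)
  rw [Nat.card_eq_fintype_card]
  refine Fintype.one_lt_card_iff.2 ⟨⟨1, one_mul 1⟩, ⟨-1, by ring⟩, fun e => h2 ?_⟩
  have e' : (1 : F) = -1 := congrArg Subtype.val e
  linear_combination e'

theorem not_isSquare_neg_one (h : Fintype.card F = 3) (x : F) : x * x ≠ -1 := fun hx => by
  have h2 : (2 : F) ≠ 0 := CfsgLib.POmega.two_ne_zero_of_odd (by rw [h]; decide)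
  have h3 := FiniteField.pow_card x
  rw [h] at h3
  have hx0 : x ≠ 0 := fun h0 => by rw [h0, mul_zero] at hx; exact one_ne_zero (neg_eq_zero.1 hx.symm)
  have h4 : x * x = 1 := mul_left_cancel₀ hx0 (by linear_combination h3)
  exact h2 (by linear_combination hx - h4)

section plus

theorem plus_two_data (hF : Fintype.card F = 2) (j : ℕ) (hj : 1 ≤ j) (hm : 4 ≤ j + 3) {N : ℕ}
    (hN : N = 2 ^ (j + 2) * (2 ^ (j + 3) - 1)) :
    let S := plusSpace F (j + 3) hm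
    S.Bounds N (j + 3) ∧ S.zc 1 = N ∧ 0 < N ∧
    (∀ p c, S.Q p = 0 → p ≠ 0 → c ≠ 0 →
      16 * (2 ^ j) ^ 2 = S.cnt p c + 4 * 2 ^ j ∧ N + 4 * 2 ^ j = 32 * (2 ^ j) ^ 2) ∧
    N * ((2 ^ (j + 3) - 2) * (2 ^ (j + 3) - 2 ^ 2)) ≤
      2 ^ (j + 3 - 1) * ((S.y0 - 2) * (S.y2 - 2 ^ 2)) := by
  intro S
  set A := 2 ^ j with hA
  have hA2 : 2 ≤ A := by
    calc 2 = 2 ^ 1 := rfl
      _ ≤ 2 ^ j := Nat.pow_le_pow_right (by norm_num) hj
  have hcard : Fintype.card (Fin (j + 3) ⊕ Fin (j + 3)) = 2 * j + 6 := by simp; ring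
  have hsqA : A ≤ A ^ 2 := Nat.le_self_pow (by norm_num) A
  have hN' : N + 4 * A = 32 * A ^ 2 := by
    obtain ⟨a, ha⟩ : ∃ a, 8 * A = a + 1 := ⟨8 * A - 1, by omega⟩
    rw [hN, pow_add, pow_add, ← hA, mul_comm A (2 ^ 3), show (2 : ℕ) ^ 3 = 8 by rfl, ha, Nat.add_sub_cancel]
    nlinarith
  have hzc : ∀ c : F, S.zc c = Nat.card {v : Fin (j + 3) ⊕ Fin (j + 3) → F // Cfsg.quadFormPlus (j + 3) F v = c} :=
    fun c => by simp only [Space.zc, S, plusSpace, plusQ_coe]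
  have hz0 : S.zc 0 + 4 * A = 32 * A ^ 2 + 8 * A := by
    have h := card_zero_plus (F := F) (j + 3)
    rw [← hzc 0, hF] at h
    rw [show 2 * (j + 3) = j + j + 6 by ring, pow_add, pow_add, pow_add, pow_add, pow_add, ← hA] at h
    norm_num at h
    rw [pow_two]; omega
  have hzcv : ∀ c : F, c ≠ 0 → S.zc c = N := by
    intro c hc
    have h := card_value_plus (F := F) (j + 3) c hc
    rw [← hzc c, hF, show 2 * (j + 3) = j + j + 6 by ring, pow_add, pow_add, pow_add, ← hA] at h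
    norm_num at h
    rw [pow_two] at hN'
    omega
  have hp2 : 2 ^ (Fintype.card (Fin (j + 3) ⊕ Fin (j + 3)) - 2) = 16 * A ^ 2 := by
    rw [hcard, show 2 * j + 6 - 2 = 4 + 2 * j by omega, pow_add, pow_mul', hA]; rfl
  have hp1 : 2 ^ (Fintype.card (Fin (j + 3) ⊕ Fin (j + 3)) - 1) = 32 * A ^ 2 := by
    rw [hcard, show 2 * j + 6 - 1 = 5 + 2 * j by omega, pow_add, pow_mul', hA]; rfl
  have hp3 : 2 ^ (Fintype.card (Fin (j + 3) ⊕ Fin (j + 3)) - 3) = 8 * A ^ 2 := by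
    rw [hcard, show 2 * j + 6 - 3 = 3 + 2 * j by omega, pow_add, pow_mul', hA]; rfl
  have hy0 : S.y0 + 2 ^ 2 * A = 2 ^ 4 * A ^ 2 + 2 ^ 3 * A := by
    unfold Space.y0
    rw [hF, hp2, hp1]
    norm_num
    omega
  have hy2 : S.y2 + 2 ^ 2 * A = 2 ^ 3 * A ^ 2 + 2 ^ 3 * A := by
    unfold Space.y2
    rw [hF, hp3, hp2]
    norm_num at hy0 ⊢
    omega
  obtain ⟨f0, f2⟩ := Numeric.plus_sub 2 A _ _ le_rfl (by omega) hy0 hy2
  have hwpow : 2 ^ (j + 3) = 2 ^ 3 * A := by rw [pow_add, mul_comm]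
  have hlag : N * (2 * (2 ^ 2 * A - 1) * (2 ^ 2 * (2 * A - 1))) ≤
      2 ^ 2 * A * (2 * ((2 ^ 2 * A - 1) * (2 * A + 1)) * (2 ^ 2 * ((2 * A - 1) * (A + 1)))) := by
    have hs : N ≤ 2 ^ 2 * A * ((2 * A + 1) * (A + 1)) := by nlinarith
    calc _ ≤ 2 ^ 2 * A * ((2 * A + 1) * (A + 1)) * (2 * (2 ^ 2 * A - 1) * (2 ^ 2 * (2 * A - 1))) :=
          Nat.mul_le_mul_right _ hs
      _ = _ := by ring
  have hone : N * ((2 ^ (j + 3) - 2) * (2 ^ (j + 3) - 2 ^ 2)) ≤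
      2 ^ (j + 3 - 1) * ((S.y0 - 2) * (S.y2 - 2 ^ 2)) := by
    rw [f0, f2, hwpow, (Numeric.plus_w 2 A le_rfl (by omega)).1, (Numeric.plus_w 2 A le_rfl (by omega)).2,
      show j + 3 - 1 = j + 2 by omega, pow_add, ← hA, mul_comm A]
    exact hlag
  refine ⟨?_, hzcv 1 one_ne_zero, by omega, ?_, hone⟩
  · constructor
    · omega
    · rw [hcard]; omega
    · intro W hW
      have h := two_finrank_le S.nondeg hW
      rw [hcard] at h
      omega
    · rw [hF]; omega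
    · rw [hF, f0]; exact Numeric.plus_duo 2 A le_rfl (by omega)
    · rw [hF, f0, f2, hwpow, (Numeric.plus_w 2 A le_rfl (by omega)).1,
        (Numeric.plus_w 2 A le_rfl (by omega)).2]
      calc _ ≤ (2 - 1) * ((2 * A + 1) * (A + 1)) * (2 * (2 ^ 2 * A - 1)) * (2 ^ 2 * (2 * A - 1)) :=
            Nat.mul_le_mul_right _ (Nat.mul_le_mul_right _ (Numeric.plus_theta 2 A le_rfl hA2))
        _ = _ := by ring
    · rw [hF, f0, f2]
      refine Nat.mul_pos (Nat.mul_pos (by omega) (Nat.mul_pos (by omega) (by omega)))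
        (Nat.mul_pos (by omega) (Nat.mul_pos (by omega) (by omega)))
    · intro c hc
      rw [card_sqrt_two hF, one_mul, hzcv c hc]
    · rw [hF, hp2]; omega
    · intro _
      rw [hF]
      exact hone.trans (Nat.mul_le_mul_right _ (Nat.le_mul_of_pos_left _ (by norm_num)))
  · intro p c hp hp0 hc
    refine ⟨?_, hN'⟩
    have h1 := hzcv c hc
    have h2 := S.cnt_add hp hp0 c
    rw [hF, hp1, hp2] at h2
    omega

/-- plus type over two elements: the index bound and the non-singular point stabiliser -/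
theorem plus_two_min_index (hF : Fintype.card F = 2) (m : ℕ) (hm : 5 ≤ m) :
    (∀ H : Subgroup (Cfsg.POmega F (Cfsg.quadFormPlus m F)), H ≠ ⊤ → 2 ^ (m - 1) * (2 ^ m - 1) ≤ H.index) ∧
      ∃ H : Subgroup (Cfsg.POmega F (Cfsg.quadFormPlus m F)), H.index = 2 ^ (m - 1) * (2 ^ m - 1) := by
  obtain ⟨j, rfl⟩ : ∃ j, m = j + 3 := ⟨m - 3, by omega⟩
  rw [show j + 3 - 1 = j + 2 by omega]
  set N := 2 ^ (j + 2) * (2 ^ (j + 3) - 1) with hN
  obtain ⟨hB, hz, hpos, hcnt, hone⟩ := plus_two_data hF j (by omega) (by omega) hN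
  set S := plusSpace F (j + 3) (show 4 ≤ j + 3 by omega)
  have hd : 9 ≤ Fintype.card (Fin (j + 3) ⊕ Fin (j + 3)) := by simp; omega
  have hA : 4 ≤ 2 ^ j := by
    calc 4 = 2 ^ 2 := rfl
      _ ≤ 2 ^ j := Nat.pow_le_pow_right (by norm_num) (by omega)
  have hs := card_sqrt_two hF
  have key : (∀ H : Subgroup (Cfsg.POmega F ⇑S.Q), H ≠ ⊤ → N ≤ H.index) ∧
      ∃ H : Subgroup (Cfsg.POmega F ⇑S.Q), H.index = N := by
    refine ⟨S.index_ge_prime hB (by rw [hF]; norm_num) (Or.inl hd) ?_ ?_ ?_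
      (fun X _ _ _ _ => S.no_all_regular hd),
      S.exists_index_ns one_ne_zero hpos (by rw [hz, hs, one_mul])⟩
    · intro p c hp hp0 hc
      obtain ⟨h1, h2⟩ := hcnt p c hp hp0 hc
      rw [hs, hF]
      nlinarith
    · intro p c hp hp0 hc
      obtain ⟨h1, h2⟩ := hcnt p c hp hp0 hc
      have : 2 ^ (Fintype.card (Fin (j + 3) ⊕ Fin (j + 3)) - 2) = 16 * (2 ^ j) ^ 2 := by
        rw [show Fintype.card (Fin (j + 3) ⊕ Fin (j + 3)) - 2 = 4 + 2 * j by simp; omega, pow_add,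
          pow_mul' 2 2 j]
        rfl
      rw [hs, hF, this]
      omega
    · intro _
      rw [hF]
      exact hone
  have e : (⇑S.Q : (Fin (j + 3) ⊕ Fin (j + 3) → F) → F) = Cfsg.quadFormPlus (j + 3) F := plusQ_coe (j + 3)
  rw [e] at key
  exact key

end plus

section odd

theorem card_value_odd_neg (hF : Fintype.card F = 3) (m : ℕ) :
    Nat.card {v : Unit ⊕ (Fin m ⊕ Fin m) → F // Cfsg.quadFormOdd m F v = -1} + 3 ^ m = 3 ^ (2 * m) := by
  induction m with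
  | zero =>
    have : IsEmpty {v : Unit ⊕ (Fin 0 ⊕ Fin 0) → F // Cfsg.quadFormOdd 0 F v = -1} :=
      ⟨fun v => not_isSquare_neg_one hF (v.1 (.inl ())) (by
        have := v.2
        simpa [Cfsg.quadFormOdd, pow_two] using this)⟩
    simp
  | succ m ih =>
    rw [value_step (oddSplit m) (hypQ_oddSplit m), natCard_pow]
    simp only [Fintype.card_sum, Fintype.card_fin, Fintype.card_unit, hF]
    rw [show 1 + (m + m) = 2 * m + 1 by ring, show 2 * (m + 1) = 2 * m + 2 by ring, pow_succ _ (2 * m),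
      pow_add _ (2 * m) 2, pow_succ _ m]
    omega

theorem odd_three_data (hF : Fintype.card F = 3) (j : ℕ) (hj : 1 ≤ j) (hm : 3 ≤ j + 2) {N : ℕ}
    (hN : N = 3 ^ (j + 2) * (3 ^ (j + 2) - 1) / 2) :
    let S := oddSpace F (CfsgLib.POmega.two_ne_zero_of_odd (by rw [hF]; decide)) (j + 2) hm
    S.Bounds N (j + 2) ∧ S.zc (-1) = 2 * N ∧ 0 < N ∧
    (∀ p c, S.Q p = 0 → p ≠ 0 → c ≠ 0 →
      27 * (3 ^ j) ^ 2 ≤ S.cnt p c + 9 * 3 ^ j ∧ 2 * N + 9 * 3 ^ j = 81 * (3 ^ j) ^ 2) := by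
  intro S
  set A := 3 ^ j with hA
  have hA3 : 3 ≤ A := by
    calc 3 = 3 ^ 1 := rfl
      _ ≤ 3 ^ j := Nat.pow_le_pow_right (by norm_num) hj
  have hsqA : A ≤ A ^ 2 := Nat.le_self_pow (by norm_num) A
  have hcard : Fintype.card (Unit ⊕ (Fin (j + 2) ⊕ Fin (j + 2))) = 2 * j + 5 := by simp; ring
  have hN' : 2 * N + 9 * A = 81 * A ^ 2 := by
    have hodd : Odd (3 ^ (j + 2)) := Odd.pow (by decide)
    obtain ⟨a, ha⟩ := hodd
    have e1 : N = (2 * a + 1) * a := by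
      rw [hN, ha, Nat.add_sub_cancel, ← mul_assoc, mul_comm (2 * a + 1) 2, mul_assoc,
        Nat.mul_div_cancel_left _ (by norm_num)]
    have e2 : 9 * A = 2 * a + 1 := by rw [← ha, pow_add, mul_comm]; rfl
    have e3 : 81 * A ^ 2 = (9 * A) * (9 * A) := by ring
    rw [e3, e2, e1]; ring
  have hzc : ∀ c : F,
      S.zc c = Nat.card {v : Unit ⊕ (Fin (j + 2) ⊕ Fin (j + 2)) → F // Cfsg.quadFormOdd (j + 2) F v = c} :=
    fun c => by simp only [Space.zc, S, oddSpace, CfsgLib.POmega.oddQ_coe]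
  have e9 : 3 ^ (j + 2) = 9 * A := by rw [pow_add, mul_comm]; rfl
  have e81 : 3 ^ (2 * (j + 2)) = 81 * A ^ 2 := by rw [hA]; ring
  have hz : S.zc 0 = 81 * A ^ 2 := by rw [hzc 0, card_zero_odd, hF, e81]
  have hzn : S.zc (-1) = 2 * N := by
    have h := card_value_odd_neg hF (j + 2)
    rw [← hzc, e9, e81] at h
    omega
  have hzlow : ∀ c : F, 81 * A ^ 2 ≤ S.zc c + 9 * A := by
    intro c
    have h := card_value_odd (F := F) (j + 2) c
    rw [← hzc c, hF, e9, e81] at h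
    exact h
  have hp1 : 3 ^ (Fintype.card (Unit ⊕ (Fin (j + 2) ⊕ Fin (j + 2))) - 1) = 81 * A ^ 2 := by
    rw [hcard, show 2 * j + 5 - 1 = 4 + 2 * j by omega, pow_add, pow_mul', hA]; rfl
  have hp2 : 3 ^ (Fintype.card (Unit ⊕ (Fin (j + 2) ⊕ Fin (j + 2))) - 2) = 27 * A ^ 2 := by
    rw [hcard, show 2 * j + 5 - 2 = 3 + 2 * j by omega, pow_add, pow_mul', hA]; rfl
  have hp3 : 3 ^ (Fintype.card (Unit ⊕ (Fin (j + 2) ⊕ Fin (j + 2))) - 3) = 9 * A ^ 2 := by
    rw [hcard, show 2 * j + 5 - 3 = 2 + 2 * j by omega, pow_add, pow_mul', hA]; rfl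
  have hy0 : S.y0 = 3 ^ 3 * A ^ 2 := by
    unfold Space.y0
    rw [hF, hp2, hp1, hz]
    norm_num
  have hy2 : S.y2 = 3 ^ 2 * A ^ 2 := by
    unfold Space.y2
    rw [hF, hp3, hp2, hy0]
    norm_num
  obtain ⟨f0, f2⟩ := Numeric.odd_sub 3 A (by norm_num) (by omega)
  have hwpow : 3 ^ (j + 2) = 3 ^ 2 * A := by rw [pow_add, mul_comm]
  refine ⟨?_, hzn, by omega, ?_⟩
  · constructor
    · omega
    · rw [hcard]; omega
    · intro W hW
      have h := two_finrank_le S.nondeg hW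
      rw [hcard] at h
      omega
    · rw [hF, hz]; omega
    · rw [hF, hy0, f0]
      norm_num
      calc (24 : ℕ) ≤ 3 * ((3 * A - 1) * 4) := by omega
        _ ≤ _ := Nat.mul_le_mul_left _ (Nat.mul_le_mul_left _ (by omega))
    · rw [hF, hy0, hy2, f0, f2, hwpow,
        show 3 ^ 2 * A - 3 = 3 * (3 * A - 1) by rw [Nat.mul_sub, mul_one]; congr 1; ring,
        show 3 ^ 2 * A - 3 ^ 2 = 3 ^ 2 * (A - 1) by rw [Nat.mul_sub, mul_one]]
      calc _ ≤ (3 - 1) * ((3 * A + 1) * (A + 1)) * (3 * (3 * A - 1)) * (3 ^ 2 * (A - 1)) :=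
            Nat.mul_le_mul_right _ (Nat.mul_le_mul_right _ (Numeric.odd_theta 3 A (by norm_num) hA3))
        _ = _ := by ring
    · rw [hF, hy0, hy2, f0, f2]
      exact Nat.mul_pos (Nat.mul_pos (by omega) (Nat.mul_pos (by omega) (by omega)))
        (Nat.mul_pos (by omega) (Nat.mul_pos (by omega) (by omega)))
    · intro c _
      have := hzlow c
      rw [card_sqrt_three hF]
      omega
    · rw [hF, hp2]; omega
    · intro h
      rw [hcard] at h
      omega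
  · intro p c hp hp0 hc
    refine ⟨?_, hN'⟩
    have h1 := hzlow c
    have h2 := S.cnt_add hp hp0 c
    rw [hF, hp1, hp2] at h2
    omega

theorem odd_three_min_index (hF : Fintype.card F = 3) (m : ℕ) (hm : 4 ≤ m) :
    (∀ H : Subgroup (Cfsg.POmega F (Cfsg.quadFormOdd m F)), H ≠ ⊤ → 3 ^ m * (3 ^ m - 1) / 2 ≤ H.index) ∧
      ∃ H : Subgroup (Cfsg.POmega F (Cfsg.quadFormOdd m F)), H.index = 3 ^ m * (3 ^ m - 1) / 2 := by
  obtain ⟨j, rfl⟩ : ∃ j, m = j + 2 := ⟨m - 2, by omega⟩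
  set N := 3 ^ (j + 2) * (3 ^ (j + 2) - 1) / 2 with hN
  obtain ⟨hB, hz, hpos, hcnt⟩ := odd_three_data hF j (by omega) (by omega) hN
  set S := oddSpace F (CfsgLib.POmega.two_ne_zero_of_odd (by rw [hF]; decide)) (j + 2)
    (show 3 ≤ j + 2 by omega)
  have hd : 9 ≤ Fintype.card (Unit ⊕ (Fin (j + 2) ⊕ Fin (j + 2))) := by simp; omega
  have hA : 9 ≤ 3 ^ j := by
    calc 9 = 3 ^ 2 := rfl
      _ ≤ 3 ^ j := Nat.pow_le_pow_right (by norm_num) (by omega)
  have hs := card_sqrt_three hF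
  have key : (∀ H : Subgroup (Cfsg.POmega F ⇑S.Q), H ≠ ⊤ → N ≤ H.index) ∧
      ∃ H : Subgroup (Cfsg.POmega F ⇑S.Q), H.index = N := by
    refine ⟨S.index_ge_prime hB (by rw [hF]; norm_num) (Or.inl hd) ?_ ?_ ?_
      (fun X _ _ _ _ => S.no_all_regular hd),
      S.exists_index_ns (neg_ne_zero.2 one_ne_zero) hpos (by rw [hz, hs])⟩
    · intro p c hp hp0 hc
      obtain ⟨h1, h2⟩ := hcnt p c hp hp0 hc
      rw [hs, hF]
      nlinarith
    · intro p c hp hp0 hc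
      obtain ⟨h1, h2⟩ := hcnt p c hp hp0 hc
      have : 3 ^ (Fintype.card (Unit ⊕ (Fin (j + 2) ⊕ Fin (j + 2))) - 2) = 27 * (3 ^ j) ^ 2 := by
        rw [show Fintype.card (Unit ⊕ (Fin (j + 2) ⊕ Fin (j + 2))) - 2 = 3 + 2 * j by simp; omega, pow_add,
          pow_mul' 3 2 j]
        rfl
      rw [hs, hF, this]
      omega
    · intro h
      exfalso
      simp at h
      omega
  have e : (⇑S.Q : (Unit ⊕ (Fin (j + 2) ⊕ Fin (j + 2)) → F) → F) = Cfsg.quadFormOdd (j + 2) F :=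
    CfsgLib.POmega.oddQ_coe (j + 2)
  rw [e] at key
  exact key

end odd

section minus

theorem minus_small_data (hF : Fintype.card F = 2 ∨ Fintype.card F = 3) (j : ℕ) (hj : 1 ≤ j)
    (hm : 3 ≤ j + 2) {a b : F}
    (hab : ∀ z₁ z₂ : F, z₁ ^ 2 + a * z₁ * z₂ + b * z₂ ^ 2 = 0 → z₁ = 0 ∧ z₂ = 0) {N : ℕ}
    (hN : N = (Fintype.card F ^ (j + 3) + 1) * (Fintype.card F ^ (j + 2) - 1) / (Fintype.card F - 1)) :
    let S := minusSpace F (j + 2) hm hab
    S.Bounds N (j + 2) ∧ (Fintype.card F - 1) * N + 1 = S.zc 0 ∧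
    (∀ p c, S.Q p = 0 → p ≠ 0 → c ≠ 0 →
      Nat.card {t : F // t * t = 1} * (Fintype.card F * N) ≤ 5 * ((Fintype.card F - 1) * S.cnt p c)) ∧
    (∀ p c, S.Q p = 0 → p ≠ 0 → c ≠ 0 →
      Nat.card {t : F // t * t = 1} * N ≤ Nat.card {t : F // t * t = 1} *
        Fintype.card F ^ (Fintype.card ((Fin (j + 2) ⊕ Fin (j + 2)) ⊕ Fin 2) - 2) + S.cnt p c) := by
  intro S
  set q := Fintype.card F with hqdef
  set A := q ^ j with hA
  have hq2 : 2 ≤ q := Fintype.one_lt_card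
  have hcard : Fintype.card ((Fin (j + 2) ⊕ Fin (j + 2)) ⊕ Fin 2) = 2 * j + 6 := by simp; ring
  have hqA : q ≤ A := by
    calc q = q ^ 1 := (pow_one q).symm
      _ ≤ q ^ j := Nat.pow_le_pow_right (by omega) hj
  have hwpow : q ^ (j + 2) = q ^ 2 * A := by rw [pow_add, mul_comm]
  have hmul : (q - 1) * N = (q ^ 3 * A + 1) * (q ^ 2 * A - 1) := by
    rw [hN, mul_comm (_ + 1) _, Numeric.div_mul_theta, hwpow, mul_comm, pow_add, mul_comm (q ^ j)]
  have hzc : ∀ c : F, S.zc c =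
      Nat.card {v : (Fin (j + 2) ⊕ Fin (j + 2)) ⊕ Fin 2 → F // Cfsg.quadFormMinus (j + 2) F a b v = c} :=
    fun c => by simp only [Space.zc, S, minusSpace, minusQ_coe]
  have g := Numeric.ge_four hq2 (show 1 ≤ A by omega)
  have hz : S.zc 0 + q ^ 3 * A = q ^ 5 * A ^ 2 + q ^ 2 * A := by
    have h := card_zero_minus hab (j + 2)
    rw [← hzc 0, ← hqdef] at h
    refine Nat.eq_of_mul_eq_mul_left (show 0 < q by omega) ?_
    simp only [A]
    ring_nf at h ⊢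
    omega
  have hz1 : (q - 1) * N + 1 = S.zc 0 := by
    rw [hmul]
    obtain ⟨i, hi⟩ : ∃ i, q ^ 2 * A = i + 1 := ⟨q ^ 2 * A - 1, by omega⟩
    rw [hi, Nat.add_sub_cancel]
    rw [show q ^ 5 * A ^ 2 = q ^ 3 * A * (q ^ 2 * A) by ring, hi] at hz
    linarith
  have hzlow : ∀ c : F, c ≠ 0 → q ^ 5 * A ^ 2 + q ^ 2 * A ≤ S.zc c := by
    intro c hc
    have h := card_value_minus hab (j + 2) c hc
    rw [← hzc c, ← hqdef] at h
    refine Nat.le_of_mul_le_mul_left (le_trans (le_of_eq ?_) h) (show 0 < q by omega)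
    rw [hA]
    ring
  have hp2 : q ^ (Fintype.card ((Fin (j + 2) ⊕ Fin (j + 2)) ⊕ Fin 2) - 2) = q ^ 4 * A ^ 2 := by
    rw [hcard, show 2 * j + 6 - 2 = 4 + 2 * j by omega, pow_add, pow_mul', hA]
  have hp1 : q ^ (Fintype.card ((Fin (j + 2) ⊕ Fin (j + 2)) ⊕ Fin 2) - 1) = q ^ 5 * A ^ 2 := by
    rw [hcard, show 2 * j + 6 - 1 = 5 + 2 * j by omega, pow_add, pow_mul', hA]
  have hp3 : q ^ (Fintype.card ((Fin (j + 2) ⊕ Fin (j + 2)) ⊕ Fin 2) - 3) = q ^ 3 * A ^ 2 := by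
    rw [hcard, show 2 * j + 6 - 3 = 3 + 2 * j by omega, pow_add, pow_mul', hA]
  have h34 : q ^ 3 * A ≤ q ^ 3 * A ^ 2 := Nat.mul_le_mul_left _ (Nat.le_self_pow (by norm_num) A)
  have h23 : q ^ 2 * A ≤ q ^ 3 * A := Nat.mul_le_mul_right _ (Nat.pow_le_pow_right (by omega) (by omega))
  have h45 : q ^ 3 * A ^ 2 ≤ q ^ 4 * A ^ 2 :=
    Nat.mul_le_mul_right _ (Nat.pow_le_pow_right (by omega) (by omega))
  have h56 : q ^ 4 * A ^ 2 ≤ q ^ 5 * A ^ 2 :=
    Nat.mul_le_mul_right _ (Nat.pow_le_pow_right (by omega) (by omega))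
  have hy0 : S.y0 + q ^ 3 * A = q ^ 4 * A ^ 2 + q ^ 2 * A := by
    unfold Space.y0
    rw [← hqdef, hp2, hp1]
    omega
  have hy2 : S.y2 + q ^ 3 * A = q ^ 3 * A ^ 2 + q ^ 2 * A := by
    unfold Space.y2
    rw [← hqdef, hp3, hp2]
    omega
  obtain ⟨f0, f2⟩ := Numeric.minus_sub q A _ _ hq2 (by omega) hy0 hy2
  -- all the linear comparisons
  have hcomp : Nat.card {t : F // t * t = 1} * N ≤ q ^ 5 * A ^ 2 ∧ N ≤ 2 * (q ^ 4 * A ^ 2) ∧
      Nat.card {t : F // t * t = 1} * N ≤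
        Nat.card {t : F // t * t = 1} * (q ^ 4 * A ^ 2) + q ^ 4 * A ^ 2 ∧
      Nat.card {t : F // t * t = 1} * (q * N) ≤ 5 * ((q - 1) * (q ^ 4 * A ^ 2)) := by
    rcases hF with hF | hF
    · rw [card_sqrt_two hF]
      have hF' : q = 2 := hF
      rw [hF'] at hz hz1 ⊢
      norm_num at hz hz1 ⊢
      omega
    · rw [card_sqrt_three hF]
      have hF' : q = 3 := hF
      rw [hF'] at hz hz1 ⊢
      norm_num at hz hz1 ⊢
      omega
  obtain ⟨c1, c2, c3, c4⟩ := hcomp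
  have hcnt : ∀ p c, S.Q p = 0 → p ≠ 0 → c ≠ 0 → q ^ 4 * A ^ 2 ≤ S.cnt p c := by
    intro p c hp hp0 hc
    have h1 := hzlow c hc
    have h2 := S.cnt_add hp hp0 c
    rw [← hqdef, hp1, hp2] at h2
    omega
  refine ⟨?_, hz1, fun p c hp hp0 hc =>
    c4.trans (Nat.mul_le_mul_left _ (Nat.mul_le_mul_left _ (hcnt p c hp hp0 hc))),
    fun p c hp hp0 hc => ?_⟩
  · constructor
    · omega
    · rw [hcard]; omega
    · exact fun W hW => minus_witt hab (j + 2) W hW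
    · exact hz1.le
    · rw [← hqdef, f0, show q ^ 2 - q = q * (q - 1) by rw [Nat.mul_sub, mul_one, pow_two],
        Nat.mul_left_comm]
      refine Nat.mul_le_mul_left _ (Nat.mul_le_mul ?_ ?_)
      · nlinarith
      · exact Nat.sub_le_sub_right (Nat.le_mul_of_pos_right q (by omega)) 1
    · rw [← hqdef, f0, f2, hwpow,
        show q ^ 2 * A - q = q * (q * A - 1) by rw [Nat.mul_sub, mul_one]; congr 1; ring,
        show q ^ 2 * A - q ^ 2 = q ^ 2 * (A - 1) by rw [Nat.mul_sub, mul_one]]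
      calc _ ≤ (q - 1) * ((q ^ 2 * A + 1) * (q * A + 1)) * (q * (q * A - 1)) * (q ^ 2 * (A - 1)) :=
            Nat.mul_le_mul_right _ (Nat.mul_le_mul_right _ (Numeric.minus_theta q A hq2 hqA))
        _ = _ := by ring
    · rw [← hqdef, f0, f2]
      exact Nat.mul_pos (Nat.mul_pos (by omega) (Nat.mul_pos (by omega) (by omega)))
        (Nat.mul_pos (pow_pos (by omega) _) (Nat.mul_pos (by omega) (by omega)))
    · intro c hc
      exact c1.trans (by have := hzlow c hc; omega)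
    · rw [← hqdef, hp2]; exact c2
    · intro h
      rw [hcard] at h
      omega
  · rw [hp2]
    exact c3.trans (Nat.add_le_add_left (hcnt p c hp hp0 hc) _)

theorem minus_small_min_index (hF : Fintype.card F = 2 ∨ Fintype.card F = 3) (m : ℕ) (hm : 5 ≤ m) {a b : F}
    (hab : ∀ z₁ z₂ : F, z₁ ^ 2 + a * z₁ * z₂ + b * z₂ ^ 2 = 0 → z₁ = 0 ∧ z₂ = 0) {N : ℕ}
    (hN : N = (Fintype.card F ^ m + 1) * (Fintype.card F ^ (m - 1) - 1) / (Fintype.card F - 1)) :
    (∀ H : Subgroup (Cfsg.POmega F (Cfsg.quadFormMinus (m - 1) F a b)), H ≠ ⊤ → N ≤ H.index) ∧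
      ∃ H : Subgroup (Cfsg.POmega F (Cfsg.quadFormMinus (m - 1) F a b)), H.index = N := by
  obtain ⟨j, rfl⟩ : ∃ j, m = j + 3 := ⟨m - 3, by omega⟩
  rw [show j + 3 - 1 = j + 2 by omega] at hN ⊢
  obtain ⟨hB, hz, hfive, hex⟩ := minus_small_data hF j (by omega) (by omega) hab hN
  set S := minusSpace F (j + 2) (show 3 ≤ j + 2 by omega) hab
  have hd : 9 ≤ Fintype.card ((Fin (j + 2) ⊕ Fin (j + 2)) ⊕ Fin 2) := by simp; omega
  have key : (∀ H : Subgroup (Cfsg.POmega F ⇑S.Q), H ≠ ⊤ → N ≤ H.index) ∧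
      ∃ H : Subgroup (Cfsg.POmega F ⇑S.Q), H.index = N := by
    refine ⟨S.index_ge_prime hB ?_ (Or.inl hd) hfive hex ?_ (fun X _ _ _ _ => S.no_all_regular hd),
      S.exists_index_eq hz⟩
    · rcases hF with h | h <;> rw [h] <;> norm_num
    · intro h
      exfalso
      simp at h
      omega
  have e : (⇑S.Q : ((Fin (j + 2) ⊕ Fin (j + 2)) ⊕ Fin 2 → F) → F) = Cfsg.quadFormMinus (j + 2) F a b :=
    minusQ_coe (j + 2) a b
  rw [e] at key
  exact key

end minus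

end CfsgLib.MinIndexOrth
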