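import Cfsg.Agent.Lib.MinIndexOrth.MainReg

/-!
From actions of `Ω` to subgroups of `PΩ`: the bound on the index of a proper subgroup, and the
stabiliser of a singular point.
-/

set_option autoImplicit false
set_option linter.unusedSectionVars false

namespace CfsgLib.MinIndexOrth

open Matrix QuadraticMap CfsgLib.Orth

universe u

variable {ι : Type} [Fintype ι] [DecidableEq ι] {F : Type u} [Field F] [Fintype F]

namespace Space

variable (S : Space ι F)

/-- a bound on non-trivial transitive actions bounds the index of proper subgroups of `PΩ` -/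
theorem index_ge {N : ℕ}
    (h : ∀ (X : Type u) [MulAction S.G X] [Fintype X] [Nonempty X],
      (∀ ω : X, ∃ g : S.G, g • ω ≠ ω) → N ≤ Fintype.card X)
    (H : Subgroup (Cfsg.POmega F ⇑S.Q)) (hH : H ≠ ⊤) : N ≤ H.index := by
  classical
  let π : S.G →* Cfsg.POmega F ⇑S.Q := QuotientGroup.mk' (Subgroup.center S.G)
  have hπ : Function.Surjective π := QuotientGroup.mk'_surjective _
  set K := H.comap π with hK
  have hKne : K ≠ ⊤ := by
    intro e
    apply hH
    rw [← Subgroup.map_comap_eq_self_of_surjective hπ H, ← hK, e, Subgroup.map_top_of_surjective _ hπ]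
  rw [← Subgroup.index_comap_of_surjective H hπ, ← hK]
  have : Fintype (S.G ⧸ K) := Fintype.ofFinite _
  have := h (S.G ⧸ K) (fun ω => by
    by_contra hc
    push Not at hc
    apply hKne
    rw [← Subgroup.index_eq_one, Subgroup.index, Nat.card_eq_one_iff_unique]
    refine ⟨⟨fun a b => ?_⟩, ⟨ω⟩⟩
    obtain ⟨g, rfl⟩ := MulAction.exists_smul_eq S.G ω a
    obtain ⟨g', rfl⟩ := MulAction.exists_smul_eq S.G ω b
    rw [hc, hc])
  rwa [Subgroup.index, Nat.card_eq_fintype_card]

/-- the stabiliser of a singular point -/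
theorem exists_index_eq {N : ℕ} (hN : (Fintype.card F - 1) * N + 1 = S.zc 0) :
    ∃ H : Subgroup (Cfsg.POmega F ⇑S.Q), H.index = N := by
  classical
  have hn := S.seven
  let act : MulAction S.G (Submodule F (ι → F)) :=
    { smul := fun g W => S.mapW g W
      one_smul := mapW_one
      mul_smul := fun g g' W => mapW_mul g g' W }
  obtain ⟨p, -, hp0, hp⟩ := S.exists_sing (Fin.elim0 : Fin 0 → ι → F) (by omega)
  set P := Submodule.span F {p}
  let π : S.G →* Cfsg.POmega F ⇑S.Q := QuotientGroup.mk' (Subgroup.center S.G)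
  have hπ : Function.Surjective π := QuotientGroup.mk'_surjective _
  have hsmul : ∀ (g : S.G) (v : ι → F), S.mapW g (Submodule.span F {v}) = Submodule.span F {S.ap g v} :=
    fun g v => by rw [mapW, Submodule.map_span, Set.image_singleton]
  refine ⟨(MulAction.stabilizer S.G P).map π, ?_⟩
  have hZ : π.ker ≤ MulAction.stabilizer S.G P := by
    intro z hz
    rw [QuotientGroup.ker_mk'] at hz
    obtain ⟨e, he, hze⟩ := POmega.center_scalar S.nondeg hn (g := z) hz
    show S.mapW z P = P
    rw [hsmul, show S.ap z p = e • p from hze p,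
      Submodule.span_singleton_smul_eq (IsUnit.mk0 e (by rintro rfl; simp at he))]
  rw [Subgroup.index_map, sup_of_le_left hZ, MonoidHom.range_eq_top.2 hπ, Subgroup.index_top, mul_one,
    MulAction.index_stabilizer]
  -- the orbit consists of the singular points
  set V := Finset.univ.filter fun v : ι → F => v ≠ 0 ∧ S.Q v = 0
  set L := V.image fun v => Submodule.span F {v}
  have horb : MulAction.orbit S.G P = (L : Set (Submodule F (ι → F))) := by
    ext W
    simp only [L, V, Finset.coe_image, Set.mem_image, Finset.coe_filter, Finset.mem_univ, true_and,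
      Set.mem_setOf_eq]
    constructor
    · rintro ⟨g, rfl⟩
      exact ⟨S.ap g p, ⟨fun h0 => hp0 (S.ap_injective g (by rw [h0, map_zero])), by rw [S.Q_ap, hp]⟩,
        (hsmul g p).symm⟩
    · rintro ⟨v, ⟨hv0, hv⟩, rfl⟩
      obtain ⟨g, hg⟩ := S.exists_ap_eq hp0 hv0 (by rw [hp, hv])
      exact ⟨g, (hsmul g p).trans (by rw [hg])⟩
  have hL : V.card = (Fintype.card F - 1) * L.card := by
    rw [Finset.card_eq_sum_card_image (fun v => Submodule.span F {v}) V, mul_comm, Finset.sum_const_nat]
    intro W hW
    obtain ⟨v, hv, rfl⟩ := Finset.mem_image.1 hW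
    obtain ⟨hv0, hQv⟩ : v ≠ 0 ∧ S.Q v = 0 := by simpa [V] using hv
    rw [← Fintype.card_units]
    refine (Finset.card_bij (fun (c : Fˣ) _ => (c : F) • v) ?_ ?_ ?_).symm
    · intro c _
      refine Finset.mem_filter.2 ⟨Finset.mem_filter.2 ⟨Finset.mem_univ _, smul_ne_zero c.ne_zero hv0,
        by rw [QuadraticMap.map_smul, hQv, smul_zero]⟩, ?_⟩
      exact Submodule.span_singleton_smul_eq c.isUnit v
    · exact fun c _ c' _ h => Units.ext (smul_left_injective F hv0 h)
    · intro z hz
      obtain ⟨hzV, hzs⟩ := Finset.mem_filter.1 hz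
      have hzm : z ∈ Submodule.span F {v} := hzs ▸ Submodule.mem_span_singleton_self z
      obtain ⟨c, hc⟩ := Submodule.mem_span_singleton.1 hzm
      have hz0 : z ≠ 0 := (Finset.mem_filter.1 hzV).2.1
      exact ⟨Units.mk0 c (by rintro rfl; exact hz0 (by simpa using hc.symm)), Finset.mem_univ _, hc⟩
  have hV : V.card + 1 = S.zc 0 := by
    rw [zc, Nat.card_eq_fintype_card, Fintype.card_subtype, show V =
      (Finset.univ.filter fun v => S.Q v = 0).erase 0 by ext v; simp [V],
      Finset.card_erase_add_one (by simp)]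
  rw [horb, Set.ncard_coe_finset]
  refine Nat.eq_of_mul_eq_mul_left (show 0 < Fintype.card F - 1 by
    have := Fintype.one_lt_card (α := F); omega) ?_
  omega

end Space

end CfsgLib.MinIndexOrth
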