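import Cfsg.Agent.Lib.MinIndexOrth.Endgame

/-!
The minimal degree of a non-trivial action of `Ω` for fields with a scalar square different from one:
a regular orbit of a radical is centralised by a torus, and otherwise all duals are Lagrangian.
-/

set_option autoImplicit false
set_option linter.unusedSectionVars false

namespace CfsgLib.MinIndexOrth

open Matrix QuadraticMap CfsgLib.Orth CfsgLib.KnownSimple.ModulePerm

variable {ι : Type} [Fintype ι] [DecidableEq ι] {F : Type*} [Field F] [Fintype F]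

namespace Space

variable (S : Space ι F)

/-- scaling a hyperbolic pair -/
noncomputable def scMap (p p' : ι → F) (s : F) : (ι → F) →ₗ[F] (ι → F) :=
  LinearMap.id + ((s - 1) • S.Q.polarBilin p').smulRight p + ((s⁻¹ - 1) • S.Q.polarBilin p).smulRight p'

theorem scMap_apply (p p' : ι → F) (s : F) (x : ι → F) :
    S.scMap p p' s x = x + ((s - 1) * polar S.Q p' x) • p + ((s⁻¹ - 1) * polar S.Q p x) • p' := by
  simp [scMap]

theorem exists_torus {p p' : ι → F} (hp : S.Q p = 0) (hp' : S.Q p' = 0) (h : polar S.Q p p' = 1)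
    {s : F} (hs : s ≠ 0) : ∃ g : S.G, S.ap g p = (s * s) • p ∧ S.ap g p' = (s * s)⁻¹ • p' ∧
      ∀ x, polar S.Q p x = 0 → polar S.Q p' x = 0 → S.ap g x = x := by
  have h' : polar S.Q p' p = 1 := by rw [polar_comm, h]
  have comp : ∀ {s : F}, s ≠ 0 → ∀ x, S.scMap p p' s (S.scMap p p' s⁻¹ x) = x := by
    intro s hs x
    simp only [scMap_apply, polar_add_right, polar_smul_right, S.polar_self_zero hp,
      S.polar_self_zero hp', h, h', inv_inv, smul_eq_mul]
    match_scalars <;> field_simp <;> ring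
  have hiso : ∀ {s : F}, s ≠ 0 → ∀ x, S.Q (S.scMap p p' s x) = S.Q x := by
    intro s hs x
    simp only [scMap_apply, QuadraticMap.map_add ⇑S.Q, QuadraticMap.map_smul, polar_add_left,
      polar_smul_left, polar_smul_right, hp, hp', h, smul_eq_mul,
      polar_comm (f := ⇑S.Q) x p, polar_comm (f := ⇑S.Q) x p']
    field_simp
    ring
  let T : O S.Q := mkO (S.scMap p p' s) (S.scMap p p' s⁻¹) (LinearMap.ext (comp hs))
    (LinearMap.ext fun x => by
      have := comp (inv_ne_zero hs) x
      rwa [inv_inv] at this) (hiso hs)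
  set w := refl S.Q (p - p')
  have hTinv : ∀ x, app T⁻¹ x = S.scMap p p' s⁻¹ x := fun x => by
    apply app_injective T
    rw [app_app_inv, app_mkO, comp hs]
  open scoped commutatorElement in
  refine ⟨⟨⁅T, w⁆, Subgroup.commutator_mem_commutator (Subgroup.mem_top _) (Subgroup.mem_top _)⟩, ?_⟩
  have hQd : S.Q (p - p') = -1 := by
    rw [sub_eq_add_neg, QuadraticMap.map_add ⇑S.Q, QuadraticMap.map_neg, polar_neg_right, hp, hp', h]
    simp
  have happ : ∀ x, app ⁅T, w⁆ x = S.scMap p p' s (app w (S.scMap p p' s⁻¹ (app w x))) := fun x => by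
    rw [commutatorElement_def, app_mul, app_mul, app_mul, app_mkO, hTinv, refl_inv]
  have hw : ∀ x, app w x = x + polar S.Q x (p - p') • (p - p') := fun x => by
    rw [app_refl, hQd]
    rw [inv_neg, inv_one, neg_one_mul, neg_smul, sub_neg_eq_add]
  refine ⟨?_, ?_, fun x hpx hp'x => ?_⟩
  · show app ⁅T, w⁆ p = _
    simp only [happ, hw, scMap_apply, polar_add_left, polar_smul_left, polar_sub_left, polar_add_right,
      polar_smul_right, polar_sub_right, S.polar_self_zero hp, S.polar_self_zero hp', h, h', inv_inv,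
      smul_eq_mul]
    match_scalars <;> field_simp <;> ring
  · show app ⁅T, w⁆ p' = _
    simp only [happ, hw, scMap_apply, polar_add_left, polar_smul_left, polar_sub_left, polar_add_right,
      polar_smul_right, polar_sub_right, S.polar_self_zero hp, S.polar_self_zero hp', h, h', inv_inv,
      smul_eq_mul]
    match_scalars <;> field_simp <;> ring
  · show app ⁅T, w⁆ x = _
    simp only [happ, hw, scMap_apply, polar_add_left, polar_smul_left, polar_sub_left, polar_add_right,
      polar_smul_right, polar_sub_right, hpx, hp'x, polar_comm (f := ⇑S.Q) x p,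
      polar_comm (f := ⇑S.Q) x p', smul_eq_mul]
    simp

variable {X : Type*} [MulAction S.G X]

theorem orb_disjoint {ω ω' : X} {p : ι → F} (hp : S.Q p = 0) (h : S.orb ω p ≠ S.orb ω' p) :
    Disjoint (S.orb ω p) (S.orb ω' p) := by
  rw [Set.disjoint_left]
  intro x hx hx'
  exact h ((S.orb_eq hp hx).symm.trans (S.orb_eq hp hx'))

theorem card_orb_add [Fintype X] {ω ω' : X} {p : ι → F} (hp : S.Q p = 0)
    (h : S.orb ω p ≠ S.orb ω' p) : (S.orb ω p).ncard + (S.orb ω' p).ncard ≤ Fintype.card X := by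
  rw [← Set.ncard_union_eq (S.orb_disjoint hp h), ← Nat.card_eq_fintype_card]
  exact Set.ncard_le_card _

/-- the commutator of the two stabilisers -/
theorem comm_orth {ω : X} {p r a b : ι → F} (hp : S.Q p = 0) (hr : S.Q r = 0) (hpr : polar S.Q p r = 0)
    (h1 : p ∉ S.orth (S.lsp ω r)) (ha : a ∈ S.stab ω p) (har : polar S.Q r a = 0)
    (hb : b ∈ S.orth (S.lsp ω r)) (hbp : polar S.Q p b = 0) : polar S.Q a b = 0 := by
  by_contra hne
  refine h1 (S.perp_lsp_of_smul_mem fun t => ?_)
  have hrp : polar S.Q r p = 0 := by rw [polar_comm, hpr]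
  set b' := (t / polar S.Q a b) • b with hb'def
  have hb' : b' ∈ S.stab ω r := S.orth_lsp_le ω r ((S.orth _).smul_mem _ hb)
  have hpb' : polar S.Q p b' = 0 := by rw [polar_smul_right, hbp, smul_zero]
  set g := S.el p a
  have hgr : S.ap g r = r := S.ap_el_of_perp hp ha.1 hrp har
  have hgb : S.ap g b' = b' + (-t) • p := by
    rw [S.ap_el hp ha.1, polar_comm (f := ⇑S.Q) b' p, hpb', zero_smul, add_zero, mul_zero, sub_zero]
    rw [hb'def, polar_smul_left, polar_comm (f := ⇑S.Q) b a, smul_eq_mul, div_mul_cancel₀ _ hne]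
  have h4 := (S.mem_stab_ap g (ω := ω) hr).2 hb'
  rw [ha.2 hp, hgr, hgb] at h4
  have h5 := sub_mem hb' h4
  simpa using h5

theorem sing_notMem_exists {p : ι → F} (hp : S.Q p = 0) (hp0 : p ≠ 0) {P : Submodule F (ι → F)}
    (hP : ¬ S.pp p ≤ P) : ∃ r, S.Q r = 0 ∧ polar S.Q p r = 0 ∧ r ∉ P := by
  by_contra hc
  push Not at hc
  obtain ⟨p', hpp', hp'⟩ := S.exists_partner hp hp0
  obtain ⟨s, hs, hs0, hQs⟩ := S.exists_sing ![p, p'] (by have := S.seven; omega)
  obtain ⟨w, hw, hsw, -⟩ := POmega.exists_pair S.nondeg ![p] hQs (fun i => by fin_cases i; exact hs 0) (by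
    rw [Matrix.range_cons, Matrix.range_empty, Set.union_empty, Submodule.mem_span_singleton]
    rintro ⟨t, rfl⟩
    have h2 : polar S.Q p' (t • p) = 0 := hs 1
    rw [polar_smul_right, polar_comm, hpp', smul_eq_mul, mul_one] at h2
    exact hs0 (by rw [h2, zero_smul]))
  exact hP (S.le_of_sing (S.mem_pp.2 (hs 0)) hQs (S.mem_pp.2 (hw 0)) (by rw [hsw]; exact one_ne_zero)
    fun u hu hQu => hc u hQu (S.mem_pp.1 hu))

/-- without regular orbits every dual is Lagrangian -/
theorem lag_of_no_reg {w : ℕ} (hwitt : ∀ W : Submodule F (ι → F), S.TS W → Module.finrank F W ≤ w)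
    (h2w : 2 * w ≤ Fintype.card ι) (hinv : S.Inv X) (hnf : ∀ (ω : X) p, S.Q p = 0 → p ≠ 0 → ¬ S.Fixed ω p)
    (hnr : ∀ (ω : X) p, S.Q p = 0 → p ≠ 0 → ¬ S.Reg ω p) {ω : X} {p : ι → F} (hp : S.Q p = 0)
    (hp0 : p ≠ 0) :
    2 * w = Fintype.card ι ∧ S.TS (S.lsp ω p) ∧ Module.finrank F (S.lsp ω p) = w ∧
      S.orth (S.lsp ω p) = S.lsp ω p := by
  have hn := S.seven
  have hbound : ∀ {ω : X} {p : ι → F}, S.Q p = 0 → p ≠ 0 →
      (Module.finrank F (S.lsp ω p) ≤ 2 ∨ S.TS (S.lsp ω p) ∧ Module.finrank F (S.lsp ω p) ≤ w) := by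
    intro ω p hp hp0
    rcases S.lsp_cases hinv hp hp0 (hnr ω p hp hp0) with ⟨y, -, -, h⟩ | h
    · left
      rw [h]
      have := finrank_range_le_card (R := F) ![p, y]
      rw [show ({p, y} : Set (ι → F)) = Set.range ![p, y] by simp [Set.pair_comm]]
      simpa [Set.finrank] using this
    · exact Or.inr ⟨h, hwitt _ h⟩
  obtain ⟨r, hr, hpr, hrl⟩ := S.sing_notMem_exists hp hp0 (P := S.orth (S.lsp ω p)) (by
    intro hle
    apply S.lsp_ne_span hp (hnf ω p hp hp0)
    refine le_antisymm ?_ ((Submodule.span_singleton_le_iff_mem _ _).2 (S.self_mem_lsp ω p))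
    rw [← S.orth_orth (S.lsp ω p), ← S.orth_orth (Submodule.span F {p})]
    exact fun v hv => S.mem_orth.2 fun z hz => S.mem_orth.1 hv z (hle hz))
  have hr0 : r ≠ 0 := by rintro rfl; exact hrl (zero_mem _)
  obtain ⟨-, hsum⟩ := S.pair_bound hp hp0 hr hpr hrl
  have b1 := hbound (ω := ω) hp hp0
  have b2 := hbound (ω := ω) hr hr0
  rcases b1 with b1 | ⟨hts, b1⟩
  · rcases b2 with b2 | ⟨-, b2⟩ <;> omega
  rcases b2 with b2 | ⟨-, b2⟩
  · omega
  have hfr : Module.finrank F (S.lsp ω p) = w := by omega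
  refine ⟨by omega, hts, hfr, (Submodule.eq_of_le_of_finrank_le
    (fun v hv => S.mem_orth.2 fun z hz => hts.polar_eq hz hv) ?_).symm⟩
  rw [S.finrank_orth]
  omega

/-- the Lagrangian duals are exact -/
theorem stab_eq_lsp {w : ℕ} (h2w : 2 * w = Fintype.card ι)
    (hL : ∀ (ω : X) p, S.Q p = 0 → p ≠ 0 → S.TS (S.lsp ω p) ∧ Module.finrank F (S.lsp ω p) = w ∧
      S.orth (S.lsp ω p) = S.lsp ω p) {ω : X} {p : ι → F} (hp : S.Q p = 0) (hp0 : p ≠ 0) :
    S.stab ω p = (S.lsp ω p).toAddSubgroup := by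
  have hn := S.seven
  obtain ⟨hts, hfr, horth⟩ := hL ω p hp hp0
  refine le_antisymm (fun a ha => ?_) (fun v hv => S.orth_lsp_le ω p (by rw [horth]; exact hv))
  have hsub : S.lsp ω p ≤ S.pp p := S.lsp_le_pp ω hp
  have hppdim := S.finrank_pp hp0
  have step : ∀ r, S.Q r = 0 → polar S.Q p r = 0 → r ∉ S.lsp ω p →
      a ∈ S.lsp ω p ⊔ Submodule.span F {r} := by
    intro r hr hpr hrl
    have hr0 : r ≠ 0 := by rintro rfl; exact hrl (zero_mem _)
    obtain ⟨htr, hfrr, horr⟩ := hL ω r hr hr0
    obtain ⟨h1, -⟩ := S.pair_bound hp hp0 hr hpr (by rwa [horth])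
    obtain ⟨l, hl, hrl'⟩ : ∃ l ∈ S.lsp ω p, polar S.Q l r ≠ 0 := S.exists_not_orth (by rwa [horth])
    set a' := a + (-(polar S.Q r a) / polar S.Q r l) • l
    have hrl2 : polar S.Q r l ≠ 0 := by rwa [polar_comm]
    have har : polar S.Q r a' = 0 := by
      rw [polar_add_right, polar_smul_right, smul_eq_mul, div_mul_cancel₀ _ hrl2, add_neg_cancel]
    have ha' : a' ∈ S.stab ω p := add_mem ha (S.orth_lsp_le ω p (by
      rw [horth]; exact (S.lsp ω p).smul_mem _ hl))
    set Bs := S.lsp ω r ⊓ S.pp p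
    set G := S.lsp ω p ⊔ Submodule.span F {r}
    have hBG : Bs ≤ G := by
      intro b hb
      rw [← S.orth_orth G]
      refine S.mem_orth.2 fun x hx => ?_
      have hx1 : x ∈ S.orth (S.lsp ω p) :=
        S.mem_orth.2 fun z hz => S.mem_orth.1 hx z (Submodule.mem_sup_left hz)
      have hx2 : polar S.Q r x = 0 :=
        S.mem_orth.1 hx r (Submodule.mem_sup_right (Submodule.mem_span_singleton_self r))
      exact S.comm_orth hp hr hpr h1 (S.orth_lsp_le ω p hx1) hx2 (by rw [horr]; exact hb.1) (S.mem_pp.1 hb.2)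
    set Ms := Bs ⊔ Submodule.span F {p}
    have hMG : Ms ≤ G := sup_le hBG ((Submodule.span_singleton_le_iff_mem _ _).2
      (Submodule.mem_sup_left (S.self_mem_lsp ω p)))
    refine (G.add_mem_iff_left (Submodule.mem_sup_left ((S.lsp ω p).smul_mem (-(polar S.Q r a) / polar S.Q r l) hl))).1 (hMG ?_)
    have hTS : Ms ≤ S.orth Ms := by
      refine sup_le (fun b hb => ?_) ((Submodule.span_singleton_le_iff_mem _ _).2 ?_)
      · refine S.mem_orth.2 fun z hz => ?_
        obtain ⟨z₁, hz₁, z₂, hz₂, rfl⟩ := Submodule.mem_sup.1 hz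
        obtain ⟨t, rfl⟩ := Submodule.mem_span_singleton.1 hz₂
        rw [polar_add_left, polar_smul_left, htr.polar_eq hz₁.1 hb.1, S.mem_pp.1 hb.2, smul_zero, add_zero]
      · refine S.mem_orth.2 fun z hz => ?_
        obtain ⟨z₁, hz₁, z₂, hz₂, rfl⟩ := Submodule.mem_sup.1 hz
        obtain ⟨t, rfl⟩ := Submodule.mem_span_singleton.1 hz₂
        rw [polar_add_left, polar_smul_left, polar_comm (f := ⇑S.Q) z₁ p, S.mem_pp.1 hz₁.2,
          S.polar_self_zero hp, smul_zero, add_zero]
    have hMdim : w ≤ Module.finrank F Ms := by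
      have hpnot : p ∉ Bs := fun h => h1 (by rw [horr]; exact h.1)
      have e1 : Module.finrank F Bs < Module.finrank F Ms :=
        Submodule.finrank_lt_finrank_of_lt (left_lt_sup.2 fun h =>
          hpnot (h (Submodule.mem_span_singleton_self p)))
      have e2 := Submodule.finrank_sup_add_finrank_inf_eq (S.lsp ω r) (S.pp p)
      have e3 := finrank_le_n (S.lsp ω r ⊔ S.pp p)
      change Module.finrank F _ + Module.finrank F Bs = _ at e2
      omega
    have hMeq : Ms = S.orth Ms := Submodule.eq_of_le_of_finrank_le hTS (by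
      rw [S.finrank_orth]; omega)
    show a' ∈ Ms
    rw [hMeq]
    refine S.mem_orth.2 fun z hz => ?_
    obtain ⟨z₁, hz₁, z₂, hz₂, rfl⟩ := Submodule.mem_sup.1 hz
    obtain ⟨t, rfl⟩ := Submodule.mem_span_singleton.1 hz₂
    rw [polar_add_left, polar_smul_left, ha'.1, smul_zero, add_zero, polar_comm]
    exact S.comm_orth hp hr hpr h1 ha' har (by rw [horr]; exact hz₁.1) (S.mem_pp.1 hz₁.2)
  obtain ⟨r, hr, hpr, hrl⟩ := S.sing_notMem_exists hp hp0 (P := S.lsp ω p) fun h => by
    have := Submodule.finrank_mono h; omega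
  obtain ⟨r', hr', hpr', hr'l⟩ := S.sing_notMem_exists hp hp0
    (P := S.lsp ω p ⊔ Submodule.span F {r}) fun h => by
    have := Submodule.finrank_mono h
    have e := Submodule.finrank_add_le_finrank_add_finrank (S.lsp ω p) (Submodule.span F {r})
    rw [finrank_span_singleton (show r ≠ 0 by rintro rfl; exact hrl (zero_mem _))] at e
    omega
  obtain ⟨l, hl, x, hx, hlx⟩ := Submodule.mem_sup.1 (step r hr hpr hrl)
  obtain ⟨l', hl', x', hx', hlx'⟩ := Submodule.mem_sup.1
    (step r' hr' hpr' fun h => hr'l (Submodule.mem_sup_left h))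
  obtain ⟨t', rfl⟩ := Submodule.mem_span_singleton.1 hx'
  rcases eq_or_ne t' 0 with rfl | ht'
  · rw [zero_smul, add_zero] at hlx'
    rw [← hlx']; exact hl'
  · refine absurd ?_ hr'l
    have : t' • r' = l - l' + x := by linear_combination (norm := module) hlx' - hlx
    refine ((S.lsp ω p ⊔ Submodule.span F {r}).smul_mem_iff ht').1 ?_
    rw [this]
    exact Submodule.add_mem_sup (sub_mem hl hl') hx

/-- the Lagrangian case -/
theorem no_lag [Fintype X] [Nonempty X] {N w : ℕ} (hB : S.Bounds N w)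
    (hlt : Fintype.card X < N) (h2w : 2 * w = Fintype.card ι) {s : F} (hs : s ≠ 0) (hs1 : s * s ≠ 1)
    (hL : ∀ (ω : X) p, S.Q p = 0 → p ≠ 0 → S.TS (S.lsp ω p) ∧ Module.finrank F (S.lsp ω p) = w ∧
      S.orth (S.lsp ω p) = S.lsp ω p) : False := by
  classical
  have hn := S.seven
  set q := Fintype.card F
  have hq2 : 2 ≤ q := Fintype.one_lt_card
  have hdl : ∀ (ω : X) p, S.Q p = 0 → p ≠ 0 → S.dl ω p = (S.lsp ω p).toAddSubgroup := fun ω p hp hp0 => by
    rw [dl, S.stab_eq_lsp h2w hL hp hp0, S.cperp_sub, (hL ω p hp hp0).2.2]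
  have hsize : ∀ (ω : X) p, S.Q p = 0 → p ≠ 0 → (S.orb ω p).ncard = q ^ (w - 1) := fun ω p hp hp0 => by
    have h1 := S.card_dl ω hp hp0
    rw [hdl ω p hp hp0] at h1
    change Nat.card (S.lsp ω p) = _ at h1
    rw [card_sub, (hL ω p hp hp0).2.1, show w = w - 1 + 1 by omega, pow_succ'] at h1
    exact (Nat.eq_of_mul_eq_mul_left Fintype.card_pos h1).symm
  have hLap : ∀ (g : S.G) (ω : X) p, S.Q p = 0 → S.mapW g (S.lsp ω p) = S.lsp (g • ω) (S.ap g p) := by
    intro g ω p hp
    rw [mapW, lsp, Submodule.map_span, lsp]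
    congr 1
    ext y
    constructor
    · rintro ⟨z, hz, rfl⟩; exact (S.mem_dl_ap g hp).2 hz
    · intro hy
      rw [SetLike.mem_coe, ← S.ap_ap_inv g y, S.mem_dl_ap g hp] at hy
      exact ⟨_, hy, S.ap_ap_inv g y⟩
  -- a singular point, its partner and the torus
  obtain ⟨p, -, hp0, hp⟩ := S.exists_sing (Fin.elim0 : Fin 0 → ι → F) (by omega)
  obtain ⟨p', hpp', hp'⟩ := S.exists_partner hp hp0
  obtain ⟨h, hhp, hhp', hhx⟩ := S.exists_torus hp hp' hpp' hs
  set c := s * s
  have hc : c ≠ 0 := mul_ne_zero hs hs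
  -- uniqueness of the orbit of each dual
  have huniq : ∀ ω ω' : X, S.lsp ω p = S.lsp ω' p → S.orb ω p = S.orb ω' p := by
    intro ω ω' hEq
    by_contra hne
    have : Fintype S.G := Fintype.ofFinite _
    let 𝒲 : Finset (Submodule F (ι → F)) :=
      (Finset.univ.filter fun g : S.G => S.ap g p = p).image fun g => S.mapW g (S.lsp ω p)
    have hmem : ∀ W ∈ 𝒲, Module.finrank F W = w ∧ S.TS W ∧ p ∈ W := by
      intro W hW
      obtain ⟨g, hg, rfl⟩ := Finset.mem_image.1 hW
      exact ⟨by rw [finrank_mapW, (hL ω p hp hp0).2.1], (hL ω p hp hp0).1.map g,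
        p, S.self_mem_lsp ω p, (Finset.mem_filter.1 hg).2⟩
    obtain ⟨-, hcount⟩ := S.point_family_count hp hp0 𝒲 hmem (fun g hg W hW => by
      obtain ⟨g', hg', rfl⟩ := Finset.mem_image.1 hW
      refine Finset.mem_image.2 ⟨g * g', Finset.mem_filter.2 ⟨Finset.mem_univ _, ?_⟩, mapW_mul g g' _⟩
      rw [ap_mul, (Finset.mem_filter.1 hg').2, hg])
      ⟨_, Finset.mem_image.2 ⟨1, Finset.mem_filter.2 ⟨Finset.mem_univ _, S.ap_one p⟩, mapW_one _⟩⟩
    have hdeg : 𝒲.card * (2 * q ^ (w - 1)) ≤ Fintype.card X := by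
      have h2 : ∀ W ∈ 𝒲, 2 * q ^ (w - 1) ≤ (Finset.univ.filter fun x : X => S.lsp x p = W).card := by
        intro W hW
        obtain ⟨g, hg, rfl⟩ := Finset.mem_image.1 hW
        have hgp := (Finset.mem_filter.1 hg).2
        have e1 : S.lsp (g • ω) p = S.mapW g (S.lsp ω p) := by rw [hLap g ω p hp, hgp]
        have e2 : S.lsp (g • ω') p = S.mapW g (S.lsp ω p) := by rw [hEq, hLap g ω' p hp, hgp]
        have hne' : S.orb (g • ω) p ≠ S.orb (g • ω') p := by
          have h1 := S.orb_ap g (ω := ω) hp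
          have h2 := S.orb_ap g (ω := ω') hp
          rw [hgp] at h1 h2
          rw [h1, h2]
          exact fun e => hne ((MulAction.injective g).image_injective e)
        have h3 := Set.ncard_union_eq (S.orb_disjoint hp hne')
        rw [hsize _ p hp hp0, hsize _ p hp hp0, ← two_mul] at h3
        rw [← h3, ← Set.ncard_coe_finset]
        refine Set.ncard_le_ncard ?_ (Finset.finite_toSet _)
        intro x hx
        simp only [Finset.coe_filter, Finset.mem_univ, true_and, Set.mem_setOf_eq]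
        rcases hx with hx | hx
        · rw [lsp, S.dl_of_mem_orb hp hx]; exact e1
        · rw [lsp, S.dl_of_mem_orb hp hx]; exact e2
      rw [← Finset.card_univ, ← smul_eq_mul, ← Finset.sum_const]
      refine (Finset.sum_le_sum h2).trans ?_
      simp only [Finset.card_filter]
      rw [Finset.sum_comm]
      refine (Finset.sum_le_card_nsmul _ _ 1 fun x _ => ?_).trans (by simp)
      rw [← Finset.card_filter]
      exact Finset.card_le_one.2 fun a ha b hb =>
        (Finset.mem_filter.1 ha).2.symm.trans (Finset.mem_filter.1 hb).2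
    have h1 := hB.lag h2w
    have h2 := hcount (by omega)
    have h3 : N * ((q ^ w - q) * (q ^ w - q ^ 2)) ≤ Fintype.card X * ((q ^ w - q) * (q ^ w - q ^ 2)) := by
      refine h1.trans ?_
      calc _ ≤ 2 * q ^ (w - 1) * (𝒲.card * (q ^ w - q) * (q ^ w - q ^ 2)) := Nat.mul_le_mul_left _ h2
        _ = 𝒲.card * (2 * q ^ (w - 1)) * ((q ^ w - q) * (q ^ w - q ^ 2)) := by ring
        _ ≤ _ := Nat.mul_le_mul_right _ hdeg
    have hpos : 0 < (q ^ w - q) * (q ^ w - q ^ 2) := by
      have e1 : q ^ 1 < q ^ w := Nat.pow_lt_pow_right hq2 (by omega)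
      have e2 : q ^ 2 < q ^ w := Nat.pow_lt_pow_right hq2 (by omega)
      rw [pow_one] at e1
      exact Nat.mul_pos (by omega) (by omega)
    exact absurd (Nat.le_of_mul_le_mul_right h3 hpos) (by omega)
  -- a torus fixed point
  obtain ⟨ω⟩ := ‹Nonempty X›
  have hmapL : S.lsp (h • ω) p = S.lsp ω p := by
    have hle : S.mapW h (S.lsp ω p) ≤ S.lsp ω p := by
      rintro _ ⟨v, hv, rfl⟩
      have hpv : polar S.Q p v = 0 := S.mem_pp.1 (S.lsp_le_pp ω hp hv)
      have e : S.ap h v = v + ((c - 1) * polar S.Q p' v) • p := by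
        have h0 := hhx (v + (-polar S.Q p' v) • p)
          (by rw [polar_add_right, polar_smul_right, hpv, S.polar_self_zero hp]; simp)
          (by rw [polar_add_right, polar_smul_right, polar_comm (f := ⇑S.Q) p' p, hpp']; simp)
        rw [map_add, map_smul, hhp] at h0
        linear_combination (norm := module) h0
      rw [e]
      exact add_mem hv (Submodule.smul_mem _ _ (S.self_mem_lsp ω p))
    have heq : S.mapW h (S.lsp ω p) = S.lsp ω p :=
      Submodule.eq_of_le_of_finrank_le hle (finrank_mapW h _).ge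
    rw [hLap h ω p hp, hhp] at heq
    rw [← heq, lsp, lsp]
    refine le_antisymm (Submodule.span_le.2 fun y hy => ?_) (Submodule.span_le.2 fun y hy => ?_)
    · have h1 : c • y ∈ S.dl (h • ω) (c • p) := (S.mem_dl_smul hp hc).2 (by
        rwa [smul_smul, inv_mul_cancel₀ hc, one_smul])
      have := Submodule.smul_mem (Submodule.span F (S.dl (h • ω) (c • p) : Set (ι → F))) c⁻¹
        (Submodule.subset_span h1)
      rwa [smul_smul, inv_mul_cancel₀ hc, one_smul] at this
    · have h1 := (S.mem_dl_smul hp hc).1 hy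
      have := Submodule.smul_mem (Submodule.span F (S.dl (h • ω) p : Set (ι → F))) c
        (Submodule.subset_span h1)
      rwa [smul_smul, mul_inv_cancel₀ hc, one_smul] at this
  obtain ⟨c₀, hc₀, hhω⟩ : ∃ c₀, polar S.Q p c₀ = 0 ∧ S.el p c₀ • ω = h • ω := by
    have := huniq _ _ hmapL
    have h2 : h • ω ∈ S.orb ω p := this ▸ S.self_mem_orb _ hp
    exact h2
  set v₀ := c₀ + (-polar S.Q p' c₀) • p
  have hv₀p : polar S.Q p v₀ = 0 := by simp [v₀, polar_add_right, polar_smul_right, hc₀, S.polar_self_zero hp]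
  have hv₀p' : polar S.Q p' v₀ = 0 := by
    simp [v₀, polar_add_right, polar_smul_right, polar_comm (f := ⇑S.Q) p' p, hpp']
  have hc1 : 1 - c ≠ 0 := sub_ne_zero.2 (Ne.symm hs1)
  set v := (1 - c)⁻¹ • v₀
  have hvp : polar S.Q p v = 0 := by simp [v, polar_smul_right, hv₀p]
  have hhv : S.ap h v = v := hhx v hvp (by simp [v, polar_smul_right, hv₀p'])
  set ω₁ := S.el p v • ω
  have hfix : h • ω₁ = ω₁ := by
    have e1 : h * S.el p v = S.el p (c • v) * h := by
      rw [← S.el_smul_left hp hvp c, ← hhp]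
      conv_rhs => arg 1; arg 3; rw [← hhv]
      rw [← S.el_conj hp hvp h, inv_mul_cancel_right]
    show h • S.el p v • ω = S.el p v • ω
    rw [← mul_smul, e1, mul_smul, ← hhω, ← mul_smul,
      S.el_add hp (by rw [polar_smul_right, hvp, smul_zero]) hc₀]
    have e2 : c • v + c₀ = v + (polar S.Q p' c₀) • p := by
      have : v₀ = (1 - c) • v := by simp [v, smul_smul, hc1]
      simp only [v₀] at this
      linear_combination (norm := module) this
    rw [e2, ← S.el_add hp hvp (by rw [polar_smul_right, S.polar_self_zero hp, smul_zero]),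
      S.el_smul_self hp, mul_one]
  -- the duals at singular vectors orthogonal to the pair
  set L := S.lsp ω₁ p
  obtain ⟨htsL, hfrL, horL⟩ := hL ω₁ p hp hp0
  have hp'0 : p' ≠ 0 := by rintro rfl; simp at hpp'
  set L' := S.lsp ω₁ p'
  obtain ⟨htsL', hfrL', horL'⟩ := hL ω₁ p' hp' hp'0
  have key : ∀ r, S.Q r = 0 → polar S.Q p r = 0 → polar S.Q p' r = 0 → r ∉ L → r ∈ L' := by
    intro r hr hpr hp'r hrL
    have hr0 : r ≠ 0 := by rintro rfl; exact hrL (zero_mem _)
    obtain ⟨htsr, hfrr, horr⟩ := hL ω₁ r hr hr0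
    set R := S.lsp ω₁ r
    have hinvR : ∀ x ∈ R, S.ap h x ∈ R := fun x hx => by
      have := hLap h ω₁ r hr
      rw [hfix, hhx r hpr hp'r] at this
      change S.ap h x ∈ S.lsp ω₁ r
      rw [← this]; exact ⟨x, hx, rfl⟩
    have hpR : p ∉ R := fun hpR => by
      refine hrL (?_ : r ∈ S.lsp ω₁ p)
      rw [← horL]
      refine S.perp_lsp_of_smul_mem fun t => (S.mem_stab hp).2 ⟨by rw [polar_smul_right, hpr, smul_zero], ?_⟩
      have h2 := (S.orth_lsp_le ω₁ r (by rw [horr]; exact R.smul_mem (-t) hpR) :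
        (-t) • p ∈ S.stab ω₁ r).2 hr
      rw [show S.el p (t • r) = S.el r ((-t) • p) from ?_]
      · exact h2
      · rw [← S.el_smul_left hp hpr t, S.el_swap (u := r) (a := t • p) hr
          (by rw [QuadraticMap.map_smul, hp, smul_zero])
          (by rw [polar_smul_right, polar_comm, hpr, smul_zero]), neg_smul]
    have hp'R : p' ∈ R := by
      by_contra hp'R
      have hperp : ∀ x ∈ R, polar S.Q p x = 0 ∧ polar S.Q p' x = 0 := by
        intro x hx
        set α := polar S.Q p' x with hα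
        set β := polar S.Q p x with hβ
        set x₀ := x + (-α) • p + (-β) • p'
        have hx0p : polar S.Q p x₀ = 0 := by
          simp [x₀, polar_add_right, polar_smul_right, S.polar_self_zero hp, hpp', ← hβ]
        have hx0p' : polar S.Q p' x₀ = 0 := by
          simp [x₀, polar_add_right, polar_smul_right, S.polar_self_zero hp',
            polar_comm (f := ⇑S.Q) p' p, hpp', ← hα]
        have e0 := hhx x₀ hx0p hx0p'
        simp only [x₀, map_add, map_smul, hhp, hhp'] at e0
        have hd : ((c - 1) * α) • p + ((c⁻¹ - 1) * β) • p' ∈ R := by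
          rw [show ((c - 1) * α) • p + ((c⁻¹ - 1) * β) • p' = S.ap h x - x by
            linear_combination (norm := module) -e0]
          exact sub_mem (hinvR x hx) hx
        have h0 := htsr _ hd
        rw [QuadraticMap.map_add ⇑S.Q, QuadraticMap.map_smul, QuadraticMap.map_smul, hp, hp',
          polar_smul_left, polar_smul_right, hpp'] at h0
        simp only [smul_eq_mul, mul_zero, zero_add, mul_one] at h0
        have hci : c⁻¹ - 1 ≠ 0 := sub_ne_zero.2 fun e => hs1 (by rw [← inv_inv c] at *; simp_all)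
        have hcm : c - 1 ≠ 0 := sub_ne_zero.2 hs1
        rcases mul_eq_zero.1 h0 with hz | hz
        · refine ⟨?_, (mul_eq_zero.1 hz).resolve_left hcm⟩
          by_contra hβ0
          rw [hz, zero_smul, zero_add] at hd
          exact hp'R ((R.smul_mem_iff (mul_ne_zero hci hβ0)).1 hd)
        · refine ⟨(mul_eq_zero.1 hz).resolve_left hci, ?_⟩
          by_contra hα0
          rw [hz, zero_smul, add_zero] at hd
          exact hpR ((R.smul_mem_iff (mul_ne_zero hcm hα0)).1 hd)
      have hle : R ⊔ Submodule.span F {p} ≤ S.orth (R ⊔ Submodule.span F {p}) := by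
        refine sup_le (fun x hx => ?_) ((Submodule.span_singleton_le_iff_mem _ _).2 ?_)
        all_goals
          refine S.mem_orth.2 fun z hz => ?_
          obtain ⟨z₁, hz₁, z₂, hz₂, rfl⟩ := Submodule.mem_sup.1 hz
          obtain ⟨t, rfl⟩ := Submodule.mem_span_singleton.1 hz₂
        · rw [polar_add_left, polar_smul_left, htsr.polar_eq hz₁ hx, (hperp x hx).1, smul_zero, add_zero]
        · rw [polar_add_left, polar_smul_left, polar_comm (f := ⇑S.Q) z₁ p, (hperp z₁ hz₁).1,
            S.polar_self_zero hp, smul_zero, add_zero]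
      have e1 := Submodule.finrank_mono hle
      rw [S.finrank_orth] at e1
      have e2 : Module.finrank F R < Module.finrank F (R ⊔ Submodule.span F {p} : Submodule F (ι → F)) :=
        Submodule.finrank_lt_finrank_of_lt (left_lt_sup.2 fun h =>
          hpR (h (Submodule.mem_span_singleton_self p)))
      omega
    show r ∈ S.lsp ω₁ p'
    rw [← horL']
    refine S.perp_lsp_of_smul_mem fun t => (S.mem_stab hp').2 ⟨by rw [polar_smul_right, hp'r, smul_zero], ?_⟩
    have h2 := (S.orth_lsp_le ω₁ r (by rw [horr]; exact R.smul_mem (-t) hp'R) :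
      (-t) • p' ∈ S.stab ω₁ r).2 hr
    rw [show S.el p' (t • r) = S.el r ((-t) • p') from ?_]
    · exact h2
    · rw [← S.el_smul_left hp' hp'r t, S.el_swap (u := r) (a := t • p') hr
        (by rw [QuadraticMap.map_smul, hp', smul_zero])
        (by rw [polar_smul_right, polar_comm, hp'r, smul_zero]), neg_smul]
  -- two non-orthogonal such vectors
  obtain ⟨r, hr, hprr⟩ : ∃ r, r ∈ L ∧ polar S.Q p' r = 0 ∧ r ≠ 0 := by
    have hfrL2 : Module.finrank F L = w := hfrL
    have hlt' : 1 < Module.finrank F L := by omega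
    obtain ⟨z, hz, hz'⟩ : ∃ z ∈ L, z ∉ Submodule.span F {p} := by
      by_contra hcon
      push Not at hcon
      have := Submodule.finrank_mono hcon
      rw [finrank_span_singleton hp0] at this
      omega
    refine ⟨z + (-polar S.Q p' z) • p, add_mem hz (L.smul_mem _ (S.self_mem_lsp ω₁ p)), ?_, fun h => hz' ?_⟩
    · simp [polar_add_right, polar_smul_right, polar_comm (f := ⇑S.Q) p' p, hpp']
    · rw [Submodule.mem_span_singleton]
      exact ⟨polar S.Q p' z, by linear_combination (norm := module) -h⟩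
  obtain ⟨hp'r, hr0⟩ := hprr
  have hQr : S.Q r = 0 := htsL r hr
  have hpr : polar S.Q p r = 0 := S.mem_pp.1 (S.lsp_le_pp ω₁ hp hr)
  obtain ⟨r₁, hr₁, hrr₁, hQr₁⟩ := POmega.exists_pair S.nondeg ![p, p'] hQr
    (fun i => by fin_cases i <;> assumption) (by
      rw [Matrix.range_cons, Matrix.range_cons, Matrix.range_empty, Set.union_empty,
        Set.singleton_union, Submodule.mem_span_pair]
      rintro ⟨α, β, rfl⟩
      simp only [polar_add_right, polar_smul_right, S.polar_self_zero hp', polar_comm (f := ⇑S.Q) p' p,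
        hpp', smul_eq_mul, mul_one, mul_zero, add_zero] at hp'r
      simp only [polar_add_right, polar_smul_right, S.polar_self_zero hp, hpp', smul_eq_mul, mul_one,
        mul_zero, zero_add] at hpr
      exact hr0 (by rw [hp'r, hpr]; simp))
  have hpr₁ : polar S.Q p r₁ = 0 := hr₁ 0
  have hp'r₁ : polar S.Q p' r₁ = 0 := hr₁ 1
  -- a further vector orthogonal to all four
  obtain ⟨z, hz, hQz⟩ : ∃ z ∈ S.orth (Submodule.span F (Set.range ![p, p', r, r₁])), S.Q z ≠ 0 := by
    by_contra hcon
    push Not at hcon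
    set P := Submodule.span F (Set.range ![p, p', r, r₁])
    have hsub : S.orth P ≤ S.orth (S.orth P) := fun x hx =>
      S.mem_orth.2 fun y hy => TS.polar_eq hcon hy hx
    rw [S.orth_orth] at hsub
    have h2 := finrank_range_le_card (R := F) ![p, p', r, r₁]
    rw [Set.finrank, Fintype.card_fin] at h2
    change Module.finrank F P ≤ 4 at h2
    have h3 : Fintype.card ι - 4 ≤ Module.finrank F (S.orth P) := S.le_finrank_orth _
    have heq := Submodule.eq_of_le_of_finrank_le hsub (by omega)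
    have hpP : p ∈ S.orth P := by rw [heq]; exact Submodule.subset_span ⟨0, rfl⟩
    have h4 := S.mem_orth.1 hpP p' (Submodule.subset_span ⟨1, rfl⟩)
    rw [polar_comm, hpp'] at h4
    exact one_ne_zero h4
  have hz1 : polar S.Q p z = 0 := S.mem_orth_span.1 hz p ⟨0, rfl⟩
  have hz2 : polar S.Q p' z = 0 := S.mem_orth_span.1 hz p' ⟨1, rfl⟩
  have hz3 : polar S.Q r z = 0 := S.mem_orth_span.1 hz r ⟨2, rfl⟩
  have hz4 : polar S.Q r₁ z = 0 := S.mem_orth_span.1 hz r₁ ⟨3, rfl⟩
  set y := r + z + (-S.Q z) • r₁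
  have hQy : S.Q y = 0 := by
    simp [y, QuadraticMap.map_add ⇑S.Q, QuadraticMap.map_smul, polar_add_left, polar_smul_right, hQr,
      hQr₁, hz3, hrr₁, polar_comm (f := ⇑S.Q) z r₁, hz4]
  have hyL : y ∉ L := fun h => by
    have h1 := htsL.polar_eq hr h
    simp [y, polar_add_right, polar_smul_right, S.polar_self_zero hQr, hz3, hrr₁] at h1
    exact hQz h1
  have hr₁L : r₁ ∉ L := fun h => zero_ne_one ((htsL.polar_eq hr h).symm.trans hrr₁)
  have hyL' := key y hQy (by simp [y, polar_add_right, polar_smul_right, hpr, hpr₁, hz1])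
    (by simp [y, polar_add_right, polar_smul_right, hp'r, hp'r₁, hz2]) hyL
  have h1 := htsL'.polar_eq hyL' (key r₁ hQr₁ hpr₁ hp'r₁ hr₁L)
  simp [y, polar_add_left, polar_smul_left, S.polar_self_zero hQr₁, hrr₁, polar_comm (f := ⇑S.Q) z r₁,
    hz4] at h1

end Space

end CfsgLib.MinIndexOrth
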