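import Cfsg.Agent.Lib.MinIndexOrth.Main

/-!
A regular orbit of a radical gives a point fixed by the Eichler transformations of the complement of a
non-singular vector; the resulting bound on the degree of a non-trivial action of `Ω`.
-/

set_option autoImplicit false
set_option linter.unusedSectionVars false

namespace CfsgLib.MinIndexOrth

open Matrix QuadraticMap CfsgLib.Orth CfsgLib.KnownSimple.ModulePerm

variable {ι : Type} [Fintype ι] [DecidableEq ι] {F : Type*} [Field F] [Fintype F]

namespace Space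

variable (S : Space ι F) {X : Type*} [MulAction S.G X]

/-- Eichler transformations inside the complement of `x` fix `ω` -/
theorem gamma_fix_point {k : ℕ} {x : Fin k → ι → F} {ω : X}
    (h : ∀ u a, S.Q u = 0 → polar S.Q u a = 0 → (∀ i, polar S.Q (x i) u = 0) →
      (∀ i, polar S.Q (x i) a = 0) → S.el u a • ω = ω) {g : S.G} (hg : g ∈ S.gamma x) : g • ω = ω := by
  induction hg using Subgroup.closure_induction with
  | mem y hy =>
    obtain ⟨u, a, hu, ha, hxu, hxa, rfl⟩ := hy
    exact h u a hu ha hxu hxa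
  | one => exact one_smul _ _
  | mul y z _ _ hy hz => rw [mul_smul, hz, hy]
  | inv y _ hy => rw [inv_smul_eq_iff, hy]

theorem no_reg [Fintype X] {N : ℕ} (hreg : N ≤ 2 * Fintype.card F ^ (Fintype.card ι - 2))
    (hlt : Fintype.card X < N) (hinv : S.Inv X)
    (hnf : ∀ (ω : X) p, S.Q p = 0 → p ≠ 0 → ¬ S.Fixed ω p)
    (hns : ∀ (ω : X) y, S.Q y ≠ 0 → ¬ S.NSFix ω y) {s : F} (hs : s ≠ 0) (hs1 : s * s ≠ 1)
    {ω : X} {p : ι → F} (hp : S.Q p = 0) (hp0 : p ≠ 0) (hω : S.Reg ω p) : False := by
  have hn := S.seven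
  obtain ⟨p', hpp', hp'⟩ := S.exists_partner hp hp0
  have hp'p : polar S.Q p' p = 1 := by rw [polar_comm, hpp']
  have hp'0 : p' ≠ 0 := by rintro rfl; simp at hpp'
  obtain ⟨h, hhp, hhp', hhx⟩ := S.exists_torus hp hp' hpp' hs
  set c := s * s
  have hc : c ≠ 0 := mul_ne_zero hs hs
  have hc1 : 1 - c ≠ 0 := sub_ne_zero.2 (Ne.symm hs1)
  -- the regular orbit is unique
  have huniq : ∀ ω' : X, S.Reg ω' p → ω' ∈ S.orb ω p := by
    intro ω' hω'
    by_contra hne
    have hne' : S.orb ω p ≠ S.orb ω' p := fun e => hne (e ▸ S.self_mem_orb ω' hp)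
    have h1 := S.card_orb_add hp hne'
    rw [S.orb_card_reg hp hp0 hω, S.orb_card_reg hp hp0 hω'] at h1
    omega
  have hregap : ∀ g : S.G, (∃ e : F, e ≠ 0 ∧ S.ap g p = e • p) → ∀ ω' : X, S.Reg ω' p → S.Reg (g • ω') p := by
    rintro g ⟨e, he, hge⟩ ω' hω' v hv hfix
    have h1 : v ∈ S.stab (g • ω') p := (S.mem_stab hp).2 ⟨hv, hfix⟩
    have h2 : e⁻¹ • v ∈ S.stab (g • ω') (S.ap g p) := by
      rw [hge]
      exact (S.mem_stab_smul hp he).2 (by rwa [smul_smul, mul_inv_cancel₀ he, one_smul])
    rw [← S.ap_ap_inv g (e⁻¹ • v), S.mem_stab_ap g hp, (S.reg_iff hp).1 hω',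
      Submodule.mem_toAddSubgroup, Submodule.mem_span_singleton] at h2
    obtain ⟨t, ht⟩ := h2
    have h3 := congrArg (S.ap g) ht
    rw [map_smul, S.ap_ap_inv, hge] at h3
    refine Submodule.mem_span_singleton.2 ⟨e * (t * e), ?_⟩
    have h4 := congrArg (fun z => e • z) h3
    simp only [smul_smul, mul_inv_cancel₀ he, one_smul] at h4
    exact h4
  -- a torus fixed point
  obtain ⟨c₀, hc₀, hhω⟩ : ∃ c₀, polar S.Q p c₀ = 0 ∧ S.el p c₀ • ω = h • ω :=
    huniq _ (hregap h ⟨c, hc, hhp⟩ ω hω)
  set v₀ := c₀ + (-polar S.Q p' c₀) • p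
  have hv₀p : polar S.Q p v₀ = 0 := by simp [v₀, polar_add_right, polar_smul_right, hc₀, S.polar_self_zero hp]
  have hv₀p' : polar S.Q p' v₀ = 0 := by simp [v₀, polar_add_right, polar_smul_right, hp'p]
  set v := (1 - c)⁻¹ • v₀
  have hvp : polar S.Q p v = 0 := by simp [v, polar_smul_right, hv₀p]
  have hhv : S.ap h v = v := hhx v hvp (by simp [v, polar_smul_right, hv₀p'])
  have hcomm : ∀ v, polar S.Q p v = 0 → S.ap h v = v → h * S.el p v = S.el p (c • v) * h := by
    intro v hvp hhv
    rw [← S.el_smul_left hp hvp c, ← hhp]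
    conv_rhs => arg 1; arg 3; rw [← hhv]
    rw [← S.el_conj hp hvp h, inv_mul_cancel_right]
  set ω₁ := S.el p v • ω
  have hfix : h • ω₁ = ω₁ := by
    show h • S.el p v • ω = S.el p v • ω
    rw [← mul_smul, hcomm v hvp hhv, mul_smul, ← hhω, ← mul_smul,
      S.el_add hp (by rw [polar_smul_right, hvp, smul_zero]) hc₀]
    have e2 : c • v + c₀ = v + (polar S.Q p' c₀) • p := by
      have : v₀ = (1 - c) • v := by simp [v, smul_smul, hc1]
      simp only [v₀] at this
      linear_combination (norm := module) this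
    rw [e2, ← S.el_add hp hvp (by rw [polar_smul_right, S.polar_self_zero hp, smul_zero]),
      S.el_smul_self hp, mul_one]
  have hω₁ : S.Reg ω₁ p :=
    hregap (S.el p v) ⟨1, one_ne_zero, by rw [one_smul]; exact S.ap_el_of_perp hp hvp (S.polar_self_zero hp) hvp⟩ ω hω
  have horb₁ : S.orb ω₁ p = S.orb ω p := S.orb_eq hp ⟨v, hvp, rfl⟩
  -- the Levi complement fixes it
  have hlev : ∀ u a, S.Q u = 0 → polar S.Q u a = 0 → (∀ i, polar S.Q (![p, p'] i) u = 0) →
      (∀ i, polar S.Q (![p, p'] i) a = 0) → S.el u a • ω₁ = ω₁ := by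
    intro u a hu hua hxu hxa
    have hpu : polar S.Q p u = 0 := hxu 0
    have hp'u : polar S.Q p' u = 0 := hxu 1
    have hpa : polar S.Q p a = 0 := hxa 0
    have hp'a : polar S.Q p' a = 0 := hxa 1
    set g := S.el u a with hg
    have hgp : S.ap g p = p := S.ap_el_of_perp hu hua hpu hpa
    have hgc : h * g = g * h := by
      have := S.el_conj hu hua h
      rw [hhx u hpu hp'u, hhx a hpa hp'a] at this
      exact mul_inv_eq_iff_eq_mul.1 this
    have hgω := huniq _ (hregap g ⟨1, one_ne_zero, by rw [one_smul, hgp]⟩ ω₁ hω₁)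
    rw [← horb₁] at hgω
    obtain ⟨b, hb, hbω⟩ := hgω
    set b₀ := b + (-polar S.Q p' b) • p
    have hb₀p : polar S.Q p b₀ = 0 := by simp [b₀, polar_add_right, polar_smul_right, hb, S.polar_self_zero hp]
    have hb₀p' : polar S.Q p' b₀ = 0 := by simp [b₀, polar_add_right, polar_smul_right, hp'p]
    have hbeq : S.el p b₀ = S.el p b := by
      rw [← S.el_add hp hb (by rw [polar_smul_right, S.polar_self_zero hp, smul_zero]), S.el_smul_self hp,
        mul_one]
    rw [← hbeq] at hbω
    have h1 : h • g • ω₁ = g • ω₁ := by rw [← mul_smul, hgc, mul_smul, hfix]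
    rw [← hbω, ← mul_smul, hcomm b₀ hb₀p (hhx b₀ hb₀p hb₀p'), mul_smul, hfix] at h1
    have hcb : polar S.Q p (c • b₀) = 0 := by rw [polar_smul_right, hb₀p, smul_zero]
    have h2 : S.el p (c • b₀ - b₀) • ω₁ = ω₁ := by
      rw [sub_eq_add_neg, ← S.el_add hp hcb (by rw [polar_neg_right, hb₀p, neg_zero]), mul_smul,
        ← S.el_inv hp hb₀p]
      rw [← mul_smul, show S.el p (c • b₀) * (S.el p b₀)⁻¹ = (S.el p b₀)⁻¹ * S.el p (c • b₀) by
        rw [S.el_inv hp hb₀p, S.el_add hp hcb (by rw [polar_neg_right, hb₀p, neg_zero]),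
          S.el_add hp (by rw [polar_neg_right, hb₀p, neg_zero]) hcb, add_comm], mul_smul, h1,
        inv_smul_smul]
    obtain ⟨t, ht⟩ := Submodule.mem_span_singleton.1
      (hω₁ _ (by rw [polar_sub_right, hcb, hb₀p, sub_zero]) h2)
    have h3 := congrArg (fun z => polar S.Q p' z) ht
    simp only [polar_smul_right, polar_sub_right, hp'p, hb₀p', smul_zero, sub_zero, smul_eq_mul,
      mul_one] at h3
    rw [h3, mul_zero, zero_smul] at ht
    have h4 : (1 - c) • b₀ = 0 := by linear_combination (norm := module) ht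
    rw [← hbω, (smul_eq_zero.1 h4).resolve_left hc1, S.el_zero hp, one_smul]
  -- a singular vector of the complement and its dual
  obtain ⟨r, hr, hr0, hQr⟩ := S.exists_sing ![p, p'] (by omega)
  have hpr : polar S.Q p r = 0 := hr 0
  have hp'r : polar S.Q p' r = 0 := hr 1
  set T := Submodule.span F (Set.range ![p, p', r])
  have hT : (S.orth T).toAddSubgroup ≤ S.stab ω₁ r := by
    intro a ha
    have h3 : polar S.Q r a = 0 := S.mem_orth_span.1 ha r ⟨2, rfl⟩
    refine (S.mem_stab hQr).2 ⟨h3, hlev r a hQr h3 hr fun i => ?_⟩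
    fin_cases i
    · exact S.mem_orth_span.1 ha p ⟨0, rfl⟩
    · exact S.mem_orth_span.1 ha p' ⟨1, rfl⟩
  have hLT : S.lsp ω₁ r ≤ T := Submodule.span_le.2 fun y hy => by
    have := S.cperp_anti hT hy
    rw [S.cperp_sub, S.orth_orth] at this
    exact this
  have hnreg : ¬ S.Reg ω₁ r := by
    intro hreg'
    have hle : S.orth T ≤ Submodule.span F {r} := fun a ha => by
      have h1 := hT ha
      rw [(S.reg_iff hQr).1 hreg'] at h1
      exact h1
    have := Submodule.finrank_mono hle
    rw [finrank_span_singleton hr0] at this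
    have h3 : Fintype.card ι - 3 ≤ Module.finrank F (S.orth T) := S.le_finrank_orth _
    omega
  rcases S.lsp_cases hinv hQr hr0 hnreg with ⟨y, hy, hyd, hL⟩ | hts
  · -- a non-singular vector in the plane
    have hyL : y ∈ S.lsp ω₁ r := Submodule.subset_span hyd
    set α := polar S.Q p' y
    set β := polar S.Q p y
    set y₀ := α • p + β • p'
    obtain ⟨γ, hγ⟩ : ∃ γ : F, y = y₀ + γ • r := by
      have := hLT hyL
      simp only [T, Matrix.range_cons, Matrix.range_empty, Set.union_empty, Set.singleton_union,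
        Submodule.mem_span_insert, Submodule.mem_span_singleton] at this
      obtain ⟨a, z, ⟨b, w', ⟨γ, rfl⟩, rfl⟩, rfl⟩ := this
      refine ⟨γ, ?_⟩
      have e1 : α = a := by
        simp [α, polar_add_right, polar_smul_right, hp'p, S.polar_self_zero hp', hp'r]
      have e2 : β = b := by
        simp [β, polar_add_right, polar_smul_right, hpp', S.polar_self_zero hp, hpr]
      simp only [y₀, e1, e2]
      abel
    have hQy₀ : S.Q y₀ = α * β := by
      simp [y₀, QuadraticMap.map_add ⇑S.Q, QuadraticMap.map_smul, polar_smul_left, polar_smul_right, hp,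
        hp', hpp']
      ring
    have hy₀r : polar S.Q y₀ r = 0 := by simp [y₀, polar_add_left, polar_smul_left, hpr, hp'r]
    have hαβ : α * β ≠ 0 := by
      intro h0
      apply hy
      rw [hγ, QuadraticMap.map_add ⇑S.Q, QuadraticMap.map_smul, polar_smul_right, hQy₀, h0, hQr, hy₀r]
      simp
    have hQy₀0 : S.Q y₀ ≠ 0 := by rwa [hQy₀]
    have hbase : ∀ a, polar S.Q r a = 0 → polar S.Q y₀ a = 0 → a ∈ S.stab ω₁ r := by
      intro a h1 h2
      refine S.orth_lsp_le ω₁ r ?_
      rw [Submodule.mem_toAddSubgroup, hL, S.mem_orth_span]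
      intro z hz
      simp only [Set.mem_insert_iff, Set.mem_singleton_iff] at hz
      rcases hz with rfl | rfl
      · exact h1
      · rw [hγ, polar_add_left, h2, polar_smul_left, h1, smul_zero, add_zero]
    have hall : ∀ r', S.Q r' = 0 → r' ≠ 0 → polar S.Q p r' = 0 → polar S.Q p' r' = 0 →
        ∀ a, polar S.Q r' a = 0 → polar S.Q y₀ a = 0 → S.el r' a • ω₁ = ω₁ := by
      intro r' hr' hr'0 h1 h2 a ha hya
      have hnot : ∀ {z : ι → F}, z ≠ 0 → polar S.Q p z = 0 → polar S.Q p' z = 0 →
          z ∉ Submodule.span F (Set.range ![p, p']) := by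
        intro z hz0 hz1 hz2 hm
        simp only [Matrix.range_cons, Matrix.range_empty, Set.union_empty, Set.singleton_union,
          Submodule.mem_span_pair] at hm
        obtain ⟨a, b, rfl⟩ := hm
        simp [polar_add_right, polar_smul_right, hpp', S.polar_self_zero hp] at hz1
        simp [polar_add_right, polar_smul_right, hp'p, S.polar_self_zero hp'] at hz2
        exact hz0 (by rw [hz1, hz2]; simp)
      obtain ⟨g, hg, e, he, hge⟩ := S.conn (x := ![p, p']) (by omega) hQr hr' hr
        (fun i => by fin_cases i <;> assumption) (hnot hr0 hpr hp'r) (hnot hr'0 h1 h2)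
      have hgω : g • ω₁ = ω₁ := S.gamma_fix_point hlev hg
      have hgy : S.ap g y₀ = y₀ := by
        have e1 : S.ap g p = p := S.gamma_fix hg 0
        have e2 : S.ap g p' = p' := S.gamma_fix hg 1
        simp only [y₀, map_add, map_smul, e1, e2]
      set b := e⁻¹ • a
      have hgr : polar S.Q r (S.ap g⁻¹ b) = 0 := by
        rw [← S.polar_ap g, S.ap_ap_inv, hge, polar_smul_left, polar_smul_right, ha]
        simp
      have hgy' : polar S.Q y₀ (S.ap g⁻¹ b) = 0 := by
        rw [← S.polar_ap g, S.ap_ap_inv, hgy, polar_smul_right, hya, smul_zero]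
      have h3 := (S.mem_stab_ap g hQr).2 (hbase _ hgr hgy')
      rw [S.ap_ap_inv, hgω, hge, S.mem_stab_smul hr' he, smul_smul, mul_inv_cancel₀ he, one_smul] at h3
      exact h3.2 hr'
    refine hns ω₁ y₀ hQy₀0 fun u a hu hua hyu hya => ?_
    by_cases hu0 : u = 0
    · subst hu0
      have : S.el (0 : ι → F) a = 1 := Subtype.ext eich_zero_left
      rw [this, one_smul]
    -- a singular vector of the complement not orthogonal to `u`
    obtain ⟨r₂, hr₂, hQr₂, hur₂⟩ : ∃ r₂ ∈ S.orth (Submodule.span F (Set.range ![p, p'])),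
        S.Q r₂ = 0 ∧ polar S.Q u r₂ ≠ 0 := by
      obtain ⟨r₁, hr₁, hrr₁, -⟩ := POmega.exists_pair S.nondeg ![p, p'] hQr hr (by
        simp only [Matrix.range_cons, Matrix.range_empty, Set.union_empty, Set.singleton_union,
          Submodule.mem_span_pair]
        rintro ⟨a', b', rfl⟩
        simp [polar_add_right, polar_smul_right, hpp', S.polar_self_zero hp] at hpr
        simp [polar_add_right, polar_smul_right, hp'p, S.polar_self_zero hp'] at hp'r
        exact hr0 (by rw [hpr, hp'r]; simp))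
      obtain ⟨v₁, hv₁, huv₁⟩ : ∃ v₁ ∈ S.orth (Submodule.span F (Set.range ![p, p'])),
          polar S.Q u v₁ ≠ 0 := by
        by_contra hcon
        push Not at hcon
        have h1 : u ∈ Submodule.span F (Set.range ![p, p']) := by
          rw [← S.orth_orth (Submodule.span F (Set.range ![p, p']))]
          exact S.mem_orth.2 fun z hz => by rw [polar_comm]; exact hcon z hz
        simp only [Matrix.range_cons, Matrix.range_empty, Set.union_empty, Set.singleton_union,
          Submodule.mem_span_pair] at h1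
        obtain ⟨a', b', rfl⟩ := h1
        simp [y₀, polar_add_left, polar_add_right, polar_smul_left, polar_smul_right, hpp', hp'p,
          S.polar_self_zero hp, S.polar_self_zero hp'] at hyu
        simp [QuadraticMap.map_add ⇑S.Q, QuadraticMap.map_smul, polar_smul_left, polar_smul_right, hp,
          hp', hpp'] at hu
        have hα : α ≠ 0 := left_ne_zero_of_mul hαβ
        have hβ : β ≠ 0 := right_ne_zero_of_mul hαβ
        rcases hu with h0 | h0 <;> subst h0
        all_goals
          simp [hα, hβ] at hyu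
          simp [hyu] at hu0
      exact S.exists_sing_pairing (S.mem_orth_span.2 (by rintro _ ⟨i, rfl⟩; exact hr i)) hQr
        (S.mem_orth_span.2 (by rintro _ ⟨i, rfl⟩; exact hr₁ i)) (by rw [hrr₁]; exact one_ne_zero) hv₁ huv₁
    have hpr₂ : polar S.Q p r₂ = 0 := S.mem_orth_span.1 hr₂ p ⟨0, rfl⟩
    have hp'r₂ : polar S.Q p' r₂ = 0 := S.mem_orth_span.1 hr₂ p' ⟨1, rfl⟩
    have hr₂0 : r₂ ≠ 0 := by rintro rfl; simp at hur₂
    set z₀ := α • p + (-β) • p'
    set t := polar S.Q p u / (polar S.Q u r₂ * β)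
    have hrz : polar S.Q r₂ (t • z₀) = 0 := by
      simp [z₀, polar_add_right, polar_smul_right, polar_comm (f := ⇑S.Q) r₂ p, hpr₂,
        polar_comm (f := ⇑S.Q) r₂ p', hp'r₂]
    have hyz : polar S.Q y₀ (t • z₀) = 0 := by
      simp [y₀, z₀, polar_add_left, polar_add_right, polar_smul_left, polar_smul_right, hpp', hp'p,
        S.polar_self_zero hp, S.polar_self_zero hp']
      ring_nf
    set g := S.el r₂ (t • z₀)
    have hgω : g • ω₁ = ω₁ := hall r₂ hQr₂ hr₂0 hpr₂ hp'r₂ _ hrz hyz
    have hgy : S.ap g y₀ = y₀ := S.ap_el_of_perp hQr₂ hrz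
      (by simp [y₀, polar_add_left, polar_smul_left, hpr₂, hp'r₂]) hyz
    set u' := S.ap g u
    have hb : polar S.Q p u = polar S.Q p u := rfl
    have hab : polar S.Q y₀ u = α * polar S.Q p u + β * polar S.Q p' u := by
      simp [y₀, polar_add_left, polar_smul_left]
    rw [hyu] at hab
    have hu'p : polar S.Q p u' = 0 := by
      simp only [u', g, S.ap_el hQr₂ hrz, polar_add_right, polar_smul_right, hpr₂, z₀,
        S.polar_self_zero hp, hpp', smul_eq_mul]
      simp only [t]
      field_simp [hur₂, right_ne_zero_of_mul hαβ]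
      ring
    have hu'p' : polar S.Q p' u' = 0 := by
      simp only [u', g, S.ap_el hQr₂ hrz, polar_add_right, polar_smul_right, hp'r₂, z₀,
        S.polar_self_zero hp', hp'p, smul_eq_mul]
      simp only [t]
      field_simp [hur₂, right_ne_zero_of_mul hαβ]
      linear_combination (-(polar S.Q u r₂)) * hab
    have hu'0 : u' ≠ 0 := fun h0 => hu0 (S.ap_injective g (by rw [map_zero]; exact h0))
    have h1 := hall u' (by simp [u', hu]) hu'0 hu'p hu'p' (S.ap g a) (by simp [u', hua])
      (by rw [← hgy, S.polar_ap]; exact hya)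
    rw [← S.el_conj hu hua g, mul_smul, mul_smul, inv_smul_eq_iff.2 hgω.symm] at h1
    exact MulAction.injective g (h1.trans hgω.symm)
  · -- a totally singular dual
    obtain ⟨x, hx, hx'⟩ : ∃ x ∈ S.lsp ω₁ r, x ∉ Submodule.span F {r} := by
      by_contra hcon
      push Not at hcon
      exact S.lsp_ne_span hQr (hnf ω₁ r hQr hr0) (le_antisymm hcon
        ((Submodule.span_singleton_le_iff_mem _ _).2 (S.self_mem_lsp ω₁ r)))
    have hxT := hLT hx
    simp only [T, Matrix.range_cons, Matrix.range_empty, Set.union_empty, Set.singleton_union,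
      Submodule.mem_span_insert, Submodule.mem_span_singleton] at hxT
    obtain ⟨a, z, ⟨b, w', ⟨γ, rfl⟩, rfl⟩, rfl⟩ := hxT
    have hQx := hts _ hx
    simp [QuadraticMap.map_add ⇑S.Q, QuadraticMap.map_smul, polar_add_right, polar_add_left,
      polar_smul_left, polar_smul_right, hp, hp', hQr, hpp', hpr, hp'r] at hQx
    have hrL := S.self_mem_lsp ω₁ r
    have hrem : a • p + b • p' ∈ S.lsp ω₁ r := by
      have := sub_mem hx ((S.lsp ω₁ r).smul_mem γ hrL)
      rwa [show a • p + (b • p' + γ • r) - γ • r = a • p + b • p' by abel] at this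
    rcases hQx.symm with ha0 | hb0
    · subst ha0
      rw [zero_smul, zero_add] at hrem
      have hb0 : b ≠ 0 := by
        rintro rfl
        exact hx' (Submodule.mem_span_singleton.2 ⟨γ, by simp⟩)
      have hp'L : p' ∈ S.lsp ω₁ r := ((S.lsp ω₁ r).smul_mem_iff hb0).1 hrem
      have hbase : ∀ t : F, t • r ∈ S.stab ω₁ p' := by
        intro t
        have hp'o : (-t) • p' ∈ S.orth (S.lsp ω₁ r) := Submodule.smul_mem _ _
          (S.mem_orth.2 fun w hw => TS.polar_eq hts hw hp'L)
        have h2 := (S.orth_lsp_le ω₁ r hp'o).2 hQr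
        refine (S.mem_stab hp').2 ⟨by rw [polar_smul_right, hp'r, smul_zero], ?_⟩
        rw [show S.el p' (t • r) = S.el r ((-t) • p') from ?_]
        · exact h2
        · rw [← S.el_smul_left hp' hp'r t, S.el_swap (u := r) (a := t • p') hQr
            (by rw [QuadraticMap.map_smul, hp', smul_zero])
            (by rw [polar_smul_right, polar_comm, hp'r, smul_zero]), neg_smul]
      refine hnf ω₁ p' hp' hp'0 fun a ha => ?_
      let P : Submodule F (ι → F) :=
        { carrier := {v | ∀ t : F, t • v ∈ S.stab ω₁ p'}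
          zero_mem' := fun t => by rw [smul_zero]; exact zero_mem _
          add_mem' := fun {a b} ha hb t => by rw [smul_add]; exact add_mem (ha t) (hb t)
          smul_mem' := fun c v hv t => by rw [smul_smul]; exact hv _ }
      have hnot : ∀ {z : ι → F}, z ≠ 0 → polar S.Q p z = 0 → polar S.Q p' z = 0 →
          z ∉ Submodule.span F (Set.range ![p, p']) := by
        intro z hz0 hz1 hz2 hm
        simp only [Matrix.range_cons, Matrix.range_empty, Set.union_empty, Set.singleton_union,
          Submodule.mem_span_pair] at hm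
        obtain ⟨a, b, rfl⟩ := hm
        simp [polar_add_right, polar_smul_right, hpp', S.polar_self_zero hp] at hz1
        simp [polar_add_right, polar_smul_right, hp'p, S.polar_self_zero hp'] at hz2
        exact hz0 (by rw [hz1, hz2]; simp)
      set W := S.orth (Submodule.span F (Set.range ![p, p']))
      obtain ⟨r₁, hr₁, hrr₁, -⟩ := POmega.exists_pair S.nondeg ![p, p'] hQr hr (hnot hr0 hpr hp'r)
      have hW : W ≤ P := S.le_of_sing (S.mem_orth_span.2 (by rintro _ ⟨i, rfl⟩; exact hr i)) hQr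
        (S.mem_orth_span.2 (by rintro _ ⟨i, rfl⟩; exact hr₁ i)) (by rw [hrr₁]; exact one_ne_zero)
        fun u hu hQu => by
          intro t
          by_cases hu0 : u = 0
          · subst hu0; rw [smul_zero]; exact zero_mem _
          obtain ⟨g, hg, e, he, hge⟩ := S.conn (x := ![p, p']) (by omega) hQr hQu hr
            (fun i => S.mem_orth_span.1 hu _ ⟨i, rfl⟩) (hnot hr0 hpr hp'r)
            (hnot hu0 (S.mem_orth_span.1 hu _ ⟨0, rfl⟩) (S.mem_orth_span.1 hu _ ⟨1, rfl⟩))
          have hgp' : S.ap g p' = p' := S.gamma_fix hg 1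
          have h3 := (S.mem_stab_ap g (ω := ω₁) hp').2 (hbase (t / e))
          rwa [S.gamma_fix_point hlev hg, hgp', map_smul, hge, smul_smul, div_mul_cancel₀ _ he] at h3
      have ha₀ : a + (-polar S.Q p a) • p' ∈ W := S.mem_orth_span.2 (by
        rintro _ ⟨i, rfl⟩
        fin_cases i
        · simp [polar_add_right, polar_smul_right, hpp']
        · simp [polar_add_right, polar_smul_right, ha, S.polar_self_zero hp'])
      have h4 := (add_mem (hW ha₀ 1) (S.span_le_stab ω₁ hp' (polar S.Q p a))).2 hp'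
      rwa [one_smul, add_assoc, ← add_smul, neg_add_cancel, zero_smul, add_zero] at h4
    · subst hb0
      rw [zero_smul, add_zero] at hrem
      have ha0 : a ≠ 0 := by
        rintro rfl
        exact hx' (Submodule.mem_span_singleton.2 ⟨γ, by simp⟩)
      have hpL : p ∈ S.lsp ω₁ r := ((S.lsp ω₁ r).smul_mem_iff ha0).1 hrem
      have hpo : (-1 : F) • p ∈ S.orth (S.lsp ω₁ r) := Submodule.smul_mem _ _
        (S.mem_orth.2 fun w hw => TS.polar_eq hts hw hpL)
      have h2 := (S.orth_lsp_le ω₁ r hpo).2 hQr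
      have h3 : S.el p r • ω₁ = ω₁ := by
        rw [show S.el p r = S.el r ((-1 : F) • p) from ?_]
        · exact h2
        · rw [neg_one_smul, S.el_swap (u := r) (a := p) hQr hp (by rw [polar_comm, hpr])]
      obtain ⟨t, ht⟩ := Submodule.mem_span_singleton.1 (hω₁ r hpr h3)
      have := congrArg (fun z => polar S.Q p' z) ht
      simp [polar_smul_right, hp'p, hp'r] at this
      rw [this, zero_smul] at ht
      exact hr0 ht.symm

/-- The degree of a non-trivial action of `Ω`. -/
theorem le_card [Fintype X] [Nonempty X] {N w : ℕ} (hB : S.Bounds N w)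
    (hfree : ∀ ω : X, ∃ g : S.G, g • ω ≠ ω) (hinv : Fintype.card X < N → S.Inv X)
    (hs : ∃ s : F, s ≠ 0 ∧ s * s ≠ 1) : N ≤ Fintype.card X := by
  by_contra hlt
  push Not at hlt
  have hinv := hinv hlt
  obtain ⟨s, hs0, hs1⟩ := hs
  have hnf : ∀ (ω : X) p, S.Q p = 0 → p ≠ 0 → ¬ S.Fixed ω p := fun ω p hp hp0 hf =>
    absurd (S.le_card_of_fixed hB hfree hp hp0 hf) (not_le.2 hlt)
  have hns : ∀ (ω : X) y, S.Q y ≠ 0 → ¬ S.NSFix ω y := fun ω y hy h =>
    absurd (S.le_card_of_nsfix hB hfree hy h) (not_le.2 hlt)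
  have hnr : ∀ (ω : X) p, S.Q p = 0 → p ≠ 0 → ¬ S.Reg ω p := fun ω p hp hp0 h =>
    S.no_reg hB.reg hlt hinv hnf hns hs0 hs1 hp hp0 h
  have hlag : ∀ (ω : X) p, S.Q p = 0 → p ≠ 0 → 2 * w = Fintype.card ι ∧ S.TS (S.lsp ω p) ∧
      Module.finrank F (S.lsp ω p) = w ∧ S.orth (S.lsp ω p) = S.lsp ω p := fun ω p hp hp0 =>
    S.lag_of_no_reg hB.witt hB.half hinv hnf hnr hp hp0
  obtain ⟨p, -, hp0, hp⟩ := S.exists_sing (Fin.elim0 : Fin 0 → ι → F) (by have := S.seven; omega)
  obtain ⟨ω⟩ := ‹Nonempty X›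
  exact S.no_lag hB hlt (hlag ω p hp hp0).1 hs0 hs1 fun ω p hp hp0 => (hlag ω p hp hp0).2

end Space

end CfsgLib.MinIndexOrth
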