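import Cfsg.Agent.Lib.MinIndexOrth.Types
import Cfsg.Agent.Lib.InvChar.SmallSolvable

/-!
Invariance of the duals for small fields: the stabiliser of a singular point and a non-singular vector
is perfect on its Eichler transformations, and it permutes at most four orbits.
-/

set_option autoImplicit false
set_option linter.unusedSectionVars false

namespace CfsgLib.MinIndexOrth

open Matrix QuadraticMap CfsgLib.Orth
open scoped commutatorElement

variable {ι : Type} [Fintype ι] [DecidableEq ι] {F : Type*} [Field F] [Fintype F]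

namespace Space

variable (S : Space ι F) {X : Type*} [MulAction S.G X]

/-- Eichler transformations of the complement of `p` and `y` at points other than that of `p` -/
def gens (p y : ι → F) : Set S.G :=
  {g | ∃ u a, S.Q u = 0 ∧ u ∉ Submodule.span F {p} ∧ polar S.Q u a = 0 ∧ polar S.Q p u = 0 ∧
    polar S.Q y u = 0 ∧ polar S.Q p a = 0 ∧ polar S.Q y a = 0 ∧ g = S.el u a}

/-- their group -/
def delta (p y : ι → F) : Subgroup S.G := Subgroup.closure (S.gens p y)

variable {S}

theorem delta_fix {p y : ι → F} {g : S.G} (hg : g ∈ S.delta p y) : S.ap g p = p ∧ S.ap g y = y := by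
  induction hg using Subgroup.closure_induction with
  | mem z hz =>
    obtain ⟨u, a, hu, -, ha, hpu, hyu, hpa, hya, rfl⟩ := hz
    exact ⟨S.ap_el_of_perp hu ha hpu hpa, S.ap_el_of_perp hu ha hyu hya⟩
  | one => simp
  | mul w z _ _ hw hz => rw [ap_mul, ap_mul, hz.1, hz.2, hw.1, hw.2]; exact ⟨rfl, rfl⟩
  | inv w _ hw =>
    constructor
    · conv_lhs => rw [← hw.1]
      exact S.ap_inv_ap w _
    · conv_lhs => rw [← hw.2]
      exact S.ap_inv_ap w _

variable (S)

theorem delta_perfect {p y : ι → F} (hd : 9 ≤ Fintype.card ι ∨ 8 ≤ Fintype.card ι ∧ (2 : F) ≠ 0)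
    (hp : S.Q p = 0) (hp0 : p ≠ 0) (hy : S.Q y ≠ 0) (hpy : polar S.Q p y = 0) :
    S.delta p y ≤ ⁅S.delta p y, S.delta p y⁆ := by
  classical
  refine (Subgroup.closure_le _).2 ?_
  rintro _ ⟨u, a, hu, hup, hua, hpu, hyu, hpa, hya, rfl⟩
  have hn := S.seven
  have hy0 : y ≠ 0 := fun h => hy (by rw [h, QuadraticMap.map_zero])
  -- the commutator formula
  have comm : ∀ {w c b : ι → F}, S.Q w = 0 → w ∉ Submodule.span F {p} → polar S.Q u w = 0 →
      polar S.Q p w = 0 → polar S.Q y w = 0 →
      polar S.Q u c = 0 → polar S.Q w c = 0 → polar S.Q p c = 0 → polar S.Q y c = 0 →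
      polar S.Q u b = 0 → polar S.Q p b = 0 → polar S.Q y b = 0 → polar S.Q b w = 1 →
      S.el u (c + (-(polar S.Q b c) - S.Q c) • w) ∈ ⁅S.delta p y, S.delta p y⁆ := by
    intro w c b hw hwp huw hpw hyw huc hwc hpc hyc hub hpb hyb hbw
    have hh : S.ap (S.el w c) u = u := S.ap_el_of_perp hw hwc huw huc
    have hb : S.ap (S.el w c) b = b + (c + (-(polar S.Q b c) - S.Q c) • w) := by
      rw [S.ap_el hw hwc, hbw]; simp; abel
    have hub' : polar S.Q u (b + (c + (-(polar S.Q b c) - S.Q c) • w)) = 0 := by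
      simp [polar_add_right, polar_smul_right, hub, huc, huw]
    have e := Subgroup.commutator_mem_commutator
      (Subgroup.subset_closure (show S.el w c ∈ S.gens p y from
        ⟨w, c, hw, hwp, hwc, hpw, hyw, hpc, hyc, rfl⟩) : S.el w c ∈ S.delta p y)
      (Subgroup.subset_closure (show S.el u b ∈ S.gens p y from
        ⟨u, b, hu, hup, hub, hpu, hyu, hpb, hyb, rfl⟩) : S.el u b ∈ S.delta p y)
    rwa [commutatorElement_def, S.el_conj hu hub, hh, hb, S.el_inv hu hub,
      S.el_add hu hub' (by rw [polar_neg_right, hub, neg_zero]), add_neg_cancel_comm] at e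
  set U := Submodule.span F (Set.range ![p, y, u])
  -- singular directions outside the span
  have step : ∀ w, S.Q w = 0 → polar S.Q p w = 0 → polar S.Q y w = 0 → polar S.Q u w = 0 → w ∉ U →
      ∀ t : F, S.el u (t • w) ∈ ⁅S.delta p y, S.delta p y⁆ := by
    intro w hw hpw hyw huw hwU t
    have hpU : p ∈ U := Submodule.subset_span ⟨0, rfl⟩
    have hwp : w ∉ Submodule.span F {p} := fun h =>
      hwU ((Submodule.span_singleton_le_iff_mem p U).2 hpU h)
    obtain ⟨c, hc, hcU⟩ : ∃ c ∈ S.orth (Submodule.span F (Set.range ![p, y, u, w])),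
        c ∉ Submodule.span F (Set.range ![p, y, u, w]) := by
      by_contra hc
      push Not at hc
      have h1 := Submodule.finrank_mono hc
      have h2 := finrank_range_le_card (R := F) ![p, y, u, w]
      rw [Set.finrank, Fintype.card_fin] at h2
      have h3 : Fintype.card ι - 4 ≤ _ := S.le_finrank_orth ![p, y, u, w]
      rcases hd with hd | ⟨hd, h2'⟩
      · omega
      · have heq := Submodule.eq_of_le_of_finrank_le hc (by omega)
        have hyo : y ∈ S.orth (Submodule.span F (Set.range ![p, y, u, w])) := by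
          rw [heq]; exact Submodule.subset_span ⟨1, rfl⟩
        have h4 := S.mem_orth.1 hyo y (Submodule.subset_span ⟨1, rfl⟩)
        rw [polar_self'] at h4
        exact mul_ne_zero h2' hy h4
    have hpc : polar S.Q p c = 0 := S.mem_orth_span.1 hc p ⟨0, rfl⟩
    have hyc : polar S.Q y c = 0 := S.mem_orth_span.1 hc y ⟨1, rfl⟩
    have huc : polar S.Q u c = 0 := S.mem_orth_span.1 hc u ⟨2, rfl⟩
    have hwc : polar S.Q w c = 0 := S.mem_orth_span.1 hc w ⟨3, rfl⟩
    obtain ⟨b, hb, hbw, -⟩ := POmega.exists_pair S.nondeg ![p, y, u] hw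
      (fun i => by fin_cases i <;> assumption) hwU
    have hpb : polar S.Q p b = 0 := hb 0
    have hyb : polar S.Q y b = 0 := hb 1
    have hub : polar S.Q u b = 0 := hb 2
    have hbw' : polar S.Q b w = 1 := by rw [polar_comm, hbw]
    obtain ⟨z, hz, hcz⟩ := CfsgLib.Forms.exists_orth_pair_one (σ := RingHom.id F)
      Function.surjective_id S.Q.polarBilin S.nondeg.1 ![p, y, u, w] c hcU
    have hpz : polar S.Q p z = 0 := hz 0
    have hyz : polar S.Q y z = 0 := hz 1
    have huz : polar S.Q u z = 0 := hz 2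
    have hwz : polar S.Q w z = 0 := hz 3
    have hzc : polar S.Q z c = 1 := by rw [polar_comm]; exact hcz
    have hub2 : polar S.Q u (b + t • z) = 0 := by simp [polar_add_right, polar_smul_right, hub, huz]
    have e1 := comm hw hwp huw hpw hyw huc hwc hpc hyc hub hpb hyb hbw'
    have e2 := comm hw hwp huw hpw hyw huc hwc hpc hyc hub2
      (by simp [polar_add_right, polar_smul_right, hpb, hpz])
      (by simp [polar_add_right, polar_smul_right, hyb, hyz])
      (by simp [polar_add_left, polar_smul_left, hbw', polar_comm (f := ⇑S.Q) z w, hwz])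
    rw [polar_add_left, polar_smul_left, hzc, smul_eq_mul, mul_one] at e2
    have hu1 : polar S.Q u (c + (-(polar S.Q b c + t) - S.Q c) • w) = 0 := by
      simp [polar_add_right, polar_smul_right, huc, huw]
    have hu2 : polar S.Q u (c + (-(polar S.Q b c) - S.Q c) • w) = 0 := by
      simp [polar_add_right, polar_smul_right, huc, huw]
    have e3 := mul_mem e1 (inv_mem e2)
    rwa [S.el_inv hu hu1, S.el_add hu hu2 (by rw [polar_neg_right, hu1, neg_zero]),
      show c + (-(polar S.Q b c) - S.Q c) • w + -(c + (-(polar S.Q b c + t) - S.Q c) • w) = t • w by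
        module] at e3
  set W := S.orth U
  let P : Submodule F (ι → F) :=
    { carrier := {v | polar S.Q u v = 0 ∧ ∀ t : F, S.el u (t • v) ∈ ⁅S.delta p y, S.delta p y⁆}
      zero_mem' := ⟨polar_zero_right _ _, fun t => by rw [smul_zero, S.el_zero hu]; exact one_mem _⟩
      add_mem' := fun {a b} ha hb => ⟨by rw [polar_add_right, ha.1, hb.1, add_zero], fun t => by
        rw [smul_add, ← S.el_add hu (by rw [polar_smul_right, ha.1, smul_zero])
          (by rw [polar_smul_right, hb.1, smul_zero])]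
        exact mul_mem (ha.2 t) (hb.2 t)⟩
      smul_mem' := fun c v hv => ⟨by rw [polar_smul_right, hv.1, smul_zero],
        fun t => by rw [smul_smul]; exact hv.2 _⟩ }
  obtain ⟨p', hpp', hp'⟩ := S.exists_partner hp hp0
  have hpyu : u ∉ Submodule.span F (Set.range ![p, y]) := by
    simp only [Matrix.range_cons, Matrix.range_empty, Set.union_empty, Set.singleton_union,
      Submodule.mem_span_pair]
    rintro ⟨α, β, rfl⟩
    simp only [QuadraticMap.map_add ⇑S.Q, QuadraticMap.map_smul, polar_smul_left, polar_smul_right,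
      hp, hpy, smul_eq_mul, mul_zero, add_zero, zero_add] at hu
    have hβ : β = 0 := mul_self_eq_zero.1 ((mul_eq_zero.1 hu).resolve_right hy)
    exact hup (Submodule.mem_span_singleton.2 ⟨α, by rw [hβ, zero_smul, add_zero]⟩)
  obtain ⟨v, hv, huv, -⟩ := POmega.exists_pair S.nondeg ![p, y] hu
    (fun i => by fin_cases i <;> assumption) hpyu
  obtain ⟨w, hw, hw0, hQw⟩ := S.exists_sing ![p, p', y, u, v] (by omega)
  have hwU : w ∉ U := by
    simp only [U, Matrix.range_cons, Matrix.range_empty, Set.union_empty, Set.singleton_union,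
      Submodule.mem_span_insert, Submodule.mem_span_singleton]
    rintro ⟨α, z, ⟨β, z', ⟨γ, rfl⟩, rfl⟩, rfl⟩
    have hvp : polar S.Q v p = 0 := by rw [polar_comm]; exact hv 0
    have hvy : polar S.Q v y = 0 := by rw [polar_comm]; exact hv 1
    have hvu : polar S.Q v u = 1 := by rw [polar_comm, huv]
    have hγ : γ = 0 := by
      have := hw 4
      simpa [polar_add_right, polar_smul_right, hvp, hvy, hvu] using this
    subst hγ
    have hβ : β = 0 := by
      simpa [QuadraticMap.map_add ⇑S.Q, QuadraticMap.map_smul, polar_smul_left, polar_smul_right,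
        hp, hpy, hy] using hQw
    subst hβ
    have hα : α = 0 := by
      have := hw 1
      simpa [polar_smul_right, polar_comm (f := ⇑S.Q) p' p, hpp'] using this
    exact hw0 (by simp [hα])
  have hwW : w ∈ W := S.mem_orth_span.2 (by
    rintro _ ⟨i, rfl⟩
    fin_cases i
    exacts [hw 0, hw 2, hw 3])
  obtain ⟨b, hb, hwb, -⟩ := POmega.exists_pair S.nondeg ![p, y, u] hQw
    (fun i => S.mem_orth_span.1 hwW _ ⟨i, rfl⟩) hwU
  have hbW : b ∈ W := S.mem_orth_span.2 (by rintro _ ⟨i, rfl⟩; exact hb i)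
  have hPw : ∀ z ∈ W, S.Q z = 0 → z ∉ U → z ∈ P := fun z hz hQz hzU =>
    ⟨S.mem_orth_span.1 hz u ⟨2, rfl⟩, step z hQz (S.mem_orth_span.1 hz p ⟨0, rfl⟩)
      (S.mem_orth_span.1 hz y ⟨1, rfl⟩) (S.mem_orth_span.1 hz u ⟨2, rfl⟩) hzU⟩
  have hWP : W ≤ P := S.le_of_sing hwW hQw hbW (by rw [hwb]; exact one_ne_zero) fun z hz hQz => by
    by_cases hzU : z ∈ U
    · have hzw : polar S.Q z w = 0 := by
        have : U ≤ LinearMap.ker (S.Q.polarBilin w) := Submodule.span_le.2 fun x hx => by
          show polar S.Q w x = 0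
          rw [polar_comm]; exact S.mem_orth_span.1 hwW x hx
        rw [polar_comm]; exact this hzU
      have h1 := hPw (z + w) (add_mem hz hwW)
        (by rw [QuadraticMap.map_add ⇑S.Q, hQz, hQw, hzw]; simp)
        (fun h => hwU ((U.add_mem_iff_right hzU).1 h))
      exact (P.add_mem_iff_left (hPw w hwW hQw hwU)).1 h1
    · exact hPw z hz hQz hzU
  have := (hWP (x := a) (S.mem_orth_span.2 (by
    rintro _ ⟨i, rfl⟩
    fin_cases i <;> assumption))).2 1
  rwa [one_smul] at this

/-- invariance when at most four orbits share a non-singular dual vector -/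
theorem inv_of_four [Fintype X] (hd : 9 ≤ Fintype.card ι ∨ 8 ≤ Fintype.card ι ∧ (2 : F) ≠ 0)
    (hc : ∀ p c, S.Q p = 0 → p ≠ 0 → c ≠ 0 → Nat.card {t : F // t * t = 1} * (Fintype.card F * Fintype.card X) ≤
      5 * ((Fintype.card F - 1) * S.cnt p c)) : S.Inv X := by
  classical
  intro ω p y u a hp hp0 hy hyd hu hua hpu hyu hpa hya
  by_cases hup : u ∈ Submodule.span F {p}
  · obtain ⟨t, rfl⟩ := Submodule.mem_span_singleton.1 hup
    by_cases ht : t = 0
    · subst ht
      rw [zero_smul, show S.el (0 : ι → F) a = 1 from Subtype.ext eich_zero_left, one_smul]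
      exact S.self_mem_orb ω hp
    · exact ⟨t • a, by rw [polar_smul_right, hpa, smul_zero], by rw [S.el_smul_left hp hpa]⟩
  have hpy : polar S.Q p y = 0 := S.mem_pp.1 (S.dl_le ω hp hyd)
  set Y := {o : Set X // o ∈ S.orbsAt (X := X) p y}
  have hY : Nat.card Y ≤ 4 := by
    rw [Nat.card_eq_finsetCard]
    exact Nat.lt_succ_iff.1 (S.orbsAt_lt 5 hc hp hp0 hy hyd)
  let Δ := S.delta p y
  have hmem : ∀ (g : Δ) (o : Set X), o ∈ S.orbsAt p y → (fun x => g.1 • x) '' o ∈ S.orbsAt (X := X) p y := by
    intro g o ho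
    obtain ⟨hgp, hgy⟩ := delta_fix g.2
    obtain ⟨hm, ω', hω', hy'⟩ := S.mem_orbsAt.1 ho
    obtain ⟨ω'', rfl⟩ := S.mem_orbs.1 hm
    refine S.mem_orbsAt.2 ⟨S.mem_orbs.2 ⟨g.1 • ω'', ?_⟩, g.1 • ω', ⟨ω', hω', rfl⟩, ?_⟩
    · have := S.orb_ap g.1 (ω := ω'') hp
      rwa [hgp] at this
    · have := (S.mem_dl_ap g.1 hp).2 hy'
      rwa [hgp, hgy] at this
  let _ : MulAction Δ Y :=
    { smul := fun g o => ⟨(fun x => g.1 • x) '' o.1, hmem g o.1 o.2⟩
      one_smul := fun o => Subtype.ext (show (fun x => (1 : S.G) • x) '' o.1 = o.1 by simp)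
      mul_smul := fun g h o => Subtype.ext (by
        show (fun x => (g * h : Δ).1 • x) '' o.1 = (fun x => g.1 • x) '' ((fun x => h.1 • x) '' o.1)
        rw [Set.image_image]
        simp [mul_smul]) }
  have hperf : commutator Δ = ⊤ := by
    apply Subgroup.map_injective Δ.subtype_injective
    rw [show commutator Δ = ⁅(⊤ : Subgroup Δ), ⊤⁆ from rfl, Subgroup.map_commutator,
      ← MonoidHom.range_eq_map, Subgroup.range_subtype]
    exact le_antisymm Δ.commutator_le_self (S.delta_perfect hd hp hp0 hy hpy)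
  let φ := MulAction.toPermHom Δ Y
  obtain ⟨n, hn⟩ := (CfsgLib.InvCharSmall.isSolvable_perm_of_card_le_four hY).solvable
  have hder : derivedSeries Δ n = ⊤ := by
    clear hn
    induction n with
    | zero => rfl
    | succ n ih => rw [derivedSeries_succ, ih]; exact hperf
  have htriv : ∀ g : Δ, φ g = 1 := fun g => by
    have := map_derivedSeries_le_derivedSeries φ n ⟨g, hder ▸ Subgroup.mem_top g, rfl⟩
    rwa [hn, Subgroup.mem_bot] at this
  have hg : S.el u a ∈ Δ := Subgroup.subset_closure ⟨u, a, hu, hup, hua, hpu, hyu, hpa, hya, rfl⟩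
  have h1 := congrArg (fun σ : Equiv.Perm Y => (σ ⟨_, S.orb_mem_orbsAt hp hyd⟩).1) (htriv ⟨_, hg⟩)
  have h2 : (fun x => S.el u a • x) '' S.orb ω p = S.orb ω p := h1
  rw [← h2]
  exact ⟨ω, S.self_mem_orb ω hp, rfl⟩

end Space

end CfsgLib.MinIndexOrth
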