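import Cfsg.Agent.Lib.MinIndexOrth.Small
import Cfsg.Agent.Lib.MinIndexOrth.Perfect
import Cfsg.Agent.Lib.MinIndexOrth.Index

/-!
The index bound over prime fields from numerical conditions, and the stabiliser of a non-singular point.
-/

set_option autoImplicit false
set_option linter.unusedSectionVars false

namespace CfsgLib.MinIndexOrth

open Matrix QuadraticMap CfsgLib.Orth

universe u

variable {ι : Type} [Fintype ι] [DecidableEq ι] {F : Type u} [Field F] [Fintype F]

namespace Space

variable (S : Space ι F)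

/-- the duals next to regular orbits are totally singular -/
theorem ts_of_reg {X : Type*} [MulAction S.G X] [Fintype X] {N : ℕ} (hq : (Fintype.card F).Prime)
    (hlt : Fintype.card X < N)
    (hex : ∀ p c, S.Q p = 0 → p ≠ 0 → c ≠ 0 →
      Nat.card {t : F // t * t = 1} * N ≤
        Nat.card {t : F // t * t = 1} * Fintype.card F ^ (Fintype.card ι - 2) + S.cnt p c)
    {ω₀ ω : X} {p y : ι → F} (hp : S.Q p = 0) (hp0 : p ≠ 0) (h₀ : S.Reg ω₀ p) (hnr : ¬ S.Reg ω p)
    (hy : S.Q y ≠ 0) : S.lsp ω p ≠ Submodule.span F {p, y} := by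
  intro hL
  have h1 := S.cnt_le_nonReg hq hp hp0 hy hnr hL
  have h2 := hex p _ hp hp0 hy
  have h3 := S.nonReg_add_le hp hp0 h₀
  have hs : 0 < Nat.card {t : F // t * t = 1} := by
    have : Nonempty {t : F // t * t = 1} := ⟨⟨1, one_mul 1⟩⟩
    exact Nat.card_pos
  have h4 : Nat.card {t : F // t * t = 1} * N ≤ Nat.card {t : F // t * t = 1} * Fintype.card X :=
    h2.trans ((Nat.add_le_add_left h1 _).trans (by rw [← mul_add]; exact Nat.mul_le_mul_left _ h3))
  exact absurd (Nat.le_of_mul_le_mul_left h4 hs) (not_le.2 hlt)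

/-- The index bound over a prime field. -/
theorem index_ge_prime {N w : ℕ} (hB : S.Bounds N w) (hq : (Fintype.card F).Prime)
    (hd : 9 ≤ Fintype.card ι ∨ 8 ≤ Fintype.card ι ∧ (2 : F) ≠ 0)
    (hfive : ∀ p c, S.Q p = 0 → p ≠ 0 → c ≠ 0 →
      Nat.card {t : F // t * t = 1} * (Fintype.card F * N) ≤ 5 * ((Fintype.card F - 1) * S.cnt p c))
    (hex : ∀ p c, S.Q p = 0 → p ≠ 0 → c ≠ 0 →
      Nat.card {t : F // t * t = 1} * N ≤
        Nat.card {t : F // t * t = 1} * Fintype.card F ^ (Fintype.card ι - 2) + S.cnt p c)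
    (hone : 2 * w = Fintype.card ι →
      N * ((Fintype.card F ^ w - Fintype.card F) * (Fintype.card F ^ w - Fintype.card F ^ 2)) ≤
        Fintype.card F ^ (w - 1) * ((S.y0 - Fintype.card F) * (S.y2 - Fintype.card F ^ 2)))
    (hall : ∀ (X : Type u) [MulAction S.G X] [Fintype X] [Nonempty X], Fintype.card X < N →
      (∀ (ω ω' : X) p, S.Q p = 0 → p ≠ 0 → ω' ∈ S.orb ω p) →
      (∀ (ω : X) p, S.Q p = 0 → p ≠ 0 → S.Reg ω p) → False)
    (H : Subgroup (Cfsg.POmega F ⇑S.Q)) (hH : H ≠ ⊤) : N ≤ H.index := by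
  refine S.index_ge (fun X _ _ _ hfree => ?_) H hH
  have hinv : Fintype.card X < N → S.Inv X := fun hlt => S.inv_of_four hd fun p c hp hp0 hc =>
    (Nat.mul_le_mul_left _ (Nat.mul_le_mul_left _ hlt.le)).trans (hfive p c hp hp0 hc)
  refine S.le_card_prime hB hfree hq ?_ ?_ hone (hall X)
  · intro hlt ω p hp hp0 hnr
    rcases S.lsp_cases (hinv hlt) hp hp0 hnr with ⟨y, -, -, h⟩ | h
    · right
      have h2 := finrank_range_le_card (R := F) ![p, y]
      rw [Set.finrank, Fintype.card_fin,
        show Set.range ![p, y] = ({p, y} : Set (ι → F)) by simp [Set.pair_comm], ← h] at h2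
      have := S.seven
      omega
    · exact Or.inl h
  · intro hlt ω₀ ω p hp hp0 h₀ hnr
    rcases S.lsp_cases (hinv hlt) hp hp0 hnr with ⟨y, hy, -, h⟩ | h
    · exact absurd h (S.ts_of_reg hq hlt hex hp hp0 h₀ hnr hy)
    · exact h

/-- the stabiliser of a non-singular point -/
theorem exists_index_ns {N : ℕ} {c : F} (hc : c ≠ 0) (hpos : 0 < N)
    (hN : S.zc c = Nat.card {t : F // t * t = 1} * N) :
    ∃ H : Subgroup (Cfsg.POmega F ⇑S.Q), H.index = N := by
  classical
  have hn := S.seven
  let act : MulAction S.G (Submodule F (ι → F)) :=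
    { smul := fun g W => S.mapW g W
      one_smul := mapW_one
      mul_smul := fun g g' W => mapW_mul g g' W }
  have hs : 0 < Nat.card {t : F // t * t = 1} := by
    have : Nonempty {t : F // t * t = 1} := ⟨⟨1, one_mul 1⟩⟩
    exact Nat.card_pos
  obtain ⟨⟨y, hy⟩⟩ : Nonempty {v : ι → F // S.Q v = c} := (Nat.card_pos_iff.1 (by
    rw [show Nat.card {v : ι → F // S.Q v = c} = S.zc c from rfl, hN]; exact Nat.mul_pos hs hpos)).1
  have hy0 : y ≠ 0 := fun h => hc (by rw [← hy, h, QuadraticMap.map_zero])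
  set P := Submodule.span F {y}
  let π : S.G →* Cfsg.POmega F ⇑S.Q := QuotientGroup.mk' (Subgroup.center S.G)
  have hπ : Function.Surjective π := QuotientGroup.mk'_surjective _
  have hsmul : ∀ (g : S.G) (v : ι → F), S.mapW g (Submodule.span F {v}) = Submodule.span F {S.ap g v} :=
    fun g v => by rw [mapW, Submodule.map_span, Set.image_singleton]
  refine ⟨(MulAction.stabilizer S.G P).map π, ?_⟩
  have hZ : π.ker ≤ MulAction.stabilizer S.G P := by
    intro z hz
    rw [QuotientGroup.ker_mk'] at hz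
    obtain ⟨e, he, hze⟩ := POmega.center_scalar S.nondeg hn (g := z) hz
    show S.mapW z P = P
    rw [hsmul, show S.ap z y = e • y from hze y,
      Submodule.span_singleton_smul_eq (IsUnit.mk0 e (by rintro rfl; simp at he))]
  rw [Subgroup.index_map, sup_of_le_left hZ, MonoidHom.range_eq_top.2 hπ, Subgroup.index_top, mul_one,
    MulAction.index_stabilizer]
  set V := Finset.univ.filter fun v : ι → F => S.Q v = c
  set L := V.image fun v => Submodule.span F {v}
  have horb : MulAction.orbit S.G P = (L : Set (Submodule F (ι → F))) := by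
    ext W
    simp only [L, V, Finset.coe_image, Set.mem_image, Finset.coe_filter, Finset.mem_univ, true_and,
      Set.mem_setOf_eq]
    constructor
    · rintro ⟨g, rfl⟩
      exact ⟨S.ap g y, by rw [S.Q_ap, hy], (hsmul g y).symm⟩
    · rintro ⟨v, hv, rfl⟩
      have hv0 : v ≠ 0 := fun h => hc (by rw [← hv, h, QuadraticMap.map_zero])
      obtain ⟨g, hg⟩ := S.exists_ap_eq hy0 hv0 (by rw [hy, hv])
      exact ⟨g, (hsmul g y).trans (by rw [hg])⟩
  have hL : V.card = Nat.card {t : F // t * t = 1} * L.card := by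
    rw [Finset.card_eq_sum_card_image (fun v => Submodule.span F {v}) V, mul_comm, Finset.sum_const_nat]
    intro W hW
    obtain ⟨v, hv, rfl⟩ := Finset.mem_image.1 hW
    have hQv : S.Q v = c := (Finset.mem_filter.1 hv).2
    have hv0 : v ≠ 0 := fun h => hc (by rw [← hQv, h, QuadraticMap.map_zero])
    rw [Nat.card_eq_fintype_card, ← Finset.card_univ]
    refine (Finset.card_bij (fun (t : {t : F // t * t = 1}) _ => t.1 • v) ?_ ?_ ?_).symm
    · intro t _
      refine Finset.mem_filter.2 ⟨Finset.mem_filter.2 ⟨Finset.mem_univ _, ?_⟩, ?_⟩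
      · rw [QuadraticMap.map_smul, hQv, smul_eq_mul, t.2, one_mul]
      · exact Submodule.span_singleton_smul_eq (IsUnit.mk0 t.1 fun h => by
          have := t.2; rw [h, mul_zero] at this; exact zero_ne_one this) v
    · exact fun t _ t' _ h => Subtype.ext (smul_left_injective F hv0 h)
    · intro z hz
      obtain ⟨hzV, hzs⟩ := Finset.mem_filter.1 hz
      have hzm : z ∈ Submodule.span F {v} := hzs ▸ Submodule.mem_span_singleton_self z
      obtain ⟨t, ht⟩ := Submodule.mem_span_singleton.1 hzm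
      have h1 : S.Q z = c := (Finset.mem_filter.1 hzV).2
      rw [← ht, QuadraticMap.map_smul, hQv, smul_eq_mul] at h1
      exact ⟨⟨t, (mul_eq_right₀ hc).1 h1⟩, Finset.mem_univ _, ht⟩
  have hV : V.card = S.zc c := by
    rw [zc, Nat.card_eq_fintype_card, Fintype.card_subtype]
  rw [horb, Set.ncard_coe_finset]
  exact Nat.eq_of_mul_eq_mul_left hs (by omega)

end Space

end CfsgLib.MinIndexOrth
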