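import Cfsg.Agent.Lib.MinIndexOrth.FormsSmall
import Cfsg.Agent.Lib.MinIndexOrth2.Index

/-!
The minimal index for minus type in dimension eight over two elements.
-/

set_option autoImplicit false
set_option linter.unusedSectionVars false

namespace CfsgLib.MinIndexOrth

open Matrix QuadraticMap CfsgLib.Orth

universe u

variable {F : Type u} [Field F] [Fintype F]

theorem minus_two_eight_min_index (hF : Fintype.card F = 2) {a b : F}
    (hab : ∀ z₁ z₂ : F, z₁ ^ 2 + a * z₁ * z₂ + b * z₂ ^ 2 = 0 → z₁ = 0 ∧ z₂ = 0) {N : ℕ}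
    (hN : N = (2 ^ 4 + 1) * (2 ^ 3 - 1) / (2 - 1)) :
    (∀ H : Subgroup (Cfsg.POmega F (Cfsg.quadFormMinus 3 F a b)), H ≠ ⊤ → N ≤ H.index) ∧
      ∃ H : Subgroup (Cfsg.POmega F (Cfsg.quadFormMinus 3 F a b)), H.index = N := by
  obtain ⟨hB, hz, hfive, hex⟩ := minus_small_data (Or.inl hF) 1 le_rfl le_rfl hab (N := N)
    (by rw [hF]; exact hN)
  set S := minusSpace F 3 le_rfl hab
  have hs := card_sqrt_two hF
  have key : (∀ H : Subgroup (Cfsg.POmega F ⇑S.Q), H ≠ ⊤ → N ≤ H.index) ∧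
      ∃ H : Subgroup (Cfsg.POmega F ⇑S.Q), H.index = N := by
    refine ⟨CfsgLib.MinIndexOrth2.Space2.index_ge_two S hF hB (by simp) ?_ ?_ ?_, S.exists_index_eq hz⟩
    · intro p hp hp0
      have h := hfive p 1 hp hp0 one_ne_zero
      rw [hF, hs] at h
      norm_num at h
      exact h
    · intro p hp hp0
      have h := hex p 1 hp hp0 one_ne_zero
      rw [hF, hs, one_mul, one_mul] at h
      exact h
    · intro h
      exfalso
      simp at h
  have e : (⇑S.Q : ((Fin 3 ⊕ Fin 3) ⊕ Fin 2 → F) → F) = Cfsg.quadFormMinus 3 F a b := minusQ_coe 3 a b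
  rw [e] at key
  exact key

end CfsgLib.MinIndexOrth
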