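import Cfsg.Agent.Lib.MinIndexOrth.Space
import Cfsg.Agent.Lib.KnownSimple.ModulePermOrbits

/-!
The orbits of the abelian unipotent radical of a singular point in an action of `Ω`, and their dual
subgroups for a fixed non-trivial additive character of the field.
-/

set_option autoImplicit false
set_option linter.unusedSectionVars false

namespace CfsgLib.MinIndexOrth

open Matrix QuadraticMap CfsgLib.Orth CfsgLib.KnownSimple.ModulePerm

variable {ι : Type} [Fintype ι] [DecidableEq ι] {F : Type*} [Field F] [Fintype F]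

namespace Space

variable (S : Space ι F)

/-! ### Duality -/

theorem chi_zero_iff {z : F} : (∀ t : F, chi F (t * z) = 1) ↔ z = 0 := by
  refine ⟨fun h => ?_, fun h t => by rw [h, mul_zero, AddChar.map_zero_eq_one]⟩
  by_contra hz
  obtain ⟨x, hx⟩ := (exists_char F).choose_spec z hz
  exact hx (by rw [mul_comm]; exact h x)

theorem card_V : Nat.card (ι → F) = Fintype.card F ^ Fintype.card ι := by
  rw [Nat.card_eq_fintype_card, Fintype.card_fun]

theorem card_sub (W : Submodule F (ι → F)) :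
    Nat.card W = Fintype.card F ^ Module.finrank F W := by
  rw [Module.natCard_eq_pow_finrank (K := F), Nat.card_eq_fintype_card]

/-- the annihilator for the character of the polar form -/
def cperp (A : AddSubgroup (ι → F)) : AddSubgroup (ι → F) where
  carrier := {y | ∀ v ∈ A, chi F (polar S.Q v y) = 1}
  zero_mem' v _ := by rw [polar_zero_right, AddChar.map_zero_eq_one]
  add_mem' {a b} ha hb v hv := by
    rw [polar_add_right, AddChar.map_add_eq_mul, ha v hv, hb v hv, mul_one]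
  neg_mem' {a} ha v hv := by
    rw [polar_neg_right, AddChar.map_neg_eq_inv, ha v hv, inv_one]

theorem mem_cperp {A : AddSubgroup (ι → F)} {y : ι → F} :
    y ∈ S.cperp A ↔ ∀ v ∈ A, chi F (polar S.Q v y) = 1 := Iff.rfl

theorem card_cperp (A : AddSubgroup (ι → F)) :
    Nat.card (S.cperp A) * Nat.card A = Fintype.card F ^ Fintype.card ι := by
  classical
  let f : (ι → F) → ι → F := fun y => Cfsg.polarVec (⇑S.Q) y
  have hdot : ∀ y v, f y ⬝ᵥ v = polar S.Q v y := fun y v => by
    rw [polarVec_dotProduct, polar_comm]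
  have hinj : Function.Injective f := fun y y' h => sub_eq_zero.1 (S.nondeg.1 _ fun v => by
    show polar S.Q (y - y') v = 0
    rw [polar_sub_left, polar_comm, ← hdot, polar_comm (f := ⇑S.Q) y', ← hdot, h, sub_self])
  have hsurj := Finite.injective_iff_surjective.1 hinj
  have hmem : ∀ y, y ∈ S.cperp A ↔ f y ∈ dual A := fun y => by
    rw [mem_cperp, mem_dual]
    simp only [hdot]
  rw [Nat.card_congr ((Equiv.ofBijective f ⟨hinj, hsurj⟩).subtypeEquiv
    (p := fun y => y ∈ S.cperp A) (q := fun z => z ∈ dual A) hmem), card_dual, ← card_V,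
    ← AddSubgroup.card_eq_card_quotient_mul_card_addSubgroup]

theorem cperp_cperp (A : AddSubgroup (ι → F)) : S.cperp (S.cperp A) = A := by
  refine (AddSubgroup.eq_of_le_of_card_ge (fun v hv y hy => by rw [polar_comm]; exact hy v hv) ?_).symm
  have h1 := S.card_cperp (S.cperp A)
  have h2 := S.card_cperp A
  have hpos : 0 < Nat.card (S.cperp A) := Nat.card_pos
  refine le_of_eq (Nat.eq_of_mul_eq_mul_right hpos ?_)
  rw [h1, ← h2, mul_comm]

theorem cperp_sub (W : Submodule F (ι → F)) :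
    S.cperp W.toAddSubgroup = (S.orth W).toAddSubgroup := by
  ext y
  rw [mem_cperp, Submodule.mem_toAddSubgroup, mem_orth]
  refine ⟨fun h w hw => chi_zero_iff.1 fun t => ?_, fun h v hv => ?_⟩
  · have := h (t • w) (W.smul_mem t hw)
    rwa [polar_smul_left, smul_eq_mul] at this
  · rw [h v hv, AddChar.map_zero_eq_one]

theorem cperp_anti {A B : AddSubgroup (ι → F)} (h : A ≤ B) : S.cperp B ≤ S.cperp A :=
  fun _ hy v hv => hy v (h hv)

/-! ### The orbits of the radical of a point -/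

/-- the orthogonal complement of a vector -/
noncomputable def pp (p : ι → F) : Submodule F (ι → F) := S.orth (Submodule.span F {p})

theorem mem_pp {p v : ι → F} : v ∈ S.pp p ↔ polar S.Q p v = 0 := by
  rw [pp, S.mem_orth_span]; simp

theorem finrank_pp {p : ι → F} (hp : p ≠ 0) :
    Module.finrank F (S.pp p) = Fintype.card ι - 1 := by
  rw [pp, S.finrank_orth, finrank_span_singleton hp]

theorem card_pp {p : ι → F} (hp : p ≠ 0) :
    Nat.card (S.pp p) * Fintype.card F = Fintype.card F ^ Fintype.card ι := by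
  rw [card_sub, S.finrank_pp hp, ← pow_succ]
  congr 1
  have := S.seven
  omega

variable {X : Type*} [MulAction S.G X]

/-- the stabiliser of `ω` in the radical of `p` -/
def stab (ω : X) (p : ι → F) : AddSubgroup (ι → F) where
  carrier := {v | polar S.Q p v = 0 ∧ (S.Q p = 0 → S.el p v • ω = ω)}
  zero_mem' := ⟨polar_zero_right _ _, fun h => by rw [S.el_zero h, one_smul]⟩
  add_mem' {a b} ha hb := ⟨by rw [polar_add_right, ha.1, hb.1, add_zero], fun h => by
    rw [← S.el_add h ha.1 hb.1, mul_smul, hb.2 h, ha.2 h]⟩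
  neg_mem' {a} ha := ⟨by rw [polar_neg_right, ha.1, neg_zero], fun h => by
    rw [← S.el_inv h ha.1, inv_smul_eq_iff, ha.2 h]⟩

theorem mem_stab {ω : X} {p v : ι → F} (hp : S.Q p = 0) :
    v ∈ S.stab ω p ↔ polar S.Q p v = 0 ∧ S.el p v • ω = ω :=
  ⟨fun h => ⟨h.1, h.2 hp⟩, fun h => ⟨h.1, fun _ => h.2⟩⟩

theorem stab_le (ω : X) (p : ι → F) : S.stab ω p ≤ (S.pp p).toAddSubgroup :=
  fun _ h => S.mem_pp.2 h.1

theorem span_le_stab (ω : X) {p : ι → F} (hp : S.Q p = 0) (t : F) : t • p ∈ S.stab ω p :=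
  (S.mem_stab hp).2 ⟨by rw [polar_smul_right, S.polar_self_zero hp, smul_zero],
    by rw [S.el_smul_self hp, one_smul]⟩

/-- the dual of the stabiliser -/
def dl (ω : X) (p : ι → F) : AddSubgroup (ι → F) := S.cperp (S.stab ω p)

theorem dl_le (ω : X) {p : ι → F} (hp : S.Q p = 0) : S.dl ω p ≤ (S.pp p).toAddSubgroup := by
  intro y hy
  refine S.mem_pp.2 (chi_zero_iff.1 fun t => ?_)
  have := hy _ (S.span_le_stab ω hp t)
  rwa [polar_smul_left, smul_eq_mul] at this

theorem smul_self_mem_dl (ω : X) (p : ι → F) (t : F) : t • p ∈ S.dl ω p := fun v hv => by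
  rw [polar_comm, polar_smul_left, hv.1, smul_zero, AddChar.map_zero_eq_one]

theorem stab_eq_cperp_dl (ω : X) (p : ι → F) : S.stab ω p = S.cperp (S.dl ω p) :=
  (S.cperp_cperp _).symm

/-- the orbit of the radical -/
def orb (ω : X) (p : ι → F) : Set X := {x | ∃ v, polar S.Q p v = 0 ∧ S.el p v • ω = x}

theorem self_mem_orb (ω : X) {p : ι → F} (hp : S.Q p = 0) : ω ∈ S.orb ω p :=
  ⟨0, polar_zero_right _ _, by rw [S.el_zero hp, one_smul]⟩

theorem orb_eq {ω ω' : X} {p : ι → F} (hp : S.Q p = 0) (h : ω' ∈ S.orb ω p) :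
    S.orb ω' p = S.orb ω p := by
  obtain ⟨v, hv, rfl⟩ := h
  ext x
  constructor
  · rintro ⟨w, hw, rfl⟩
    exact ⟨w + v, by rw [polar_add_right, hw, hv, add_zero], by rw [← S.el_add hp hw hv, mul_smul]⟩
  · rintro ⟨w, hw, rfl⟩
    have hwv : polar S.Q p (w - v) = 0 := by rw [polar_sub_right, hw, hv, sub_zero]
    exact ⟨w - v, hwv, by rw [← mul_smul, S.el_add hp hwv hv, sub_add_cancel]⟩

theorem stab_of_mem_orb {ω ω' : X} {p : ι → F} (hp : S.Q p = 0) (h : ω' ∈ S.orb ω p) :
    S.stab ω' p = S.stab ω p := by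
  obtain ⟨v, hv, rfl⟩ := h
  ext w
  rw [S.mem_stab hp, S.mem_stab hp]
  refine and_congr_right fun hw => ?_
  rw [← mul_smul, S.el_add hp hw hv, add_comm, ← S.el_add hp hv hw, mul_smul]
  exact (MulAction.injective (S.el p v)).eq_iff

theorem dl_of_mem_orb {ω ω' : X} {p : ι → F} (hp : S.Q p = 0) (h : ω' ∈ S.orb ω p) :
    S.dl ω' p = S.dl ω p := by rw [dl, dl, S.stab_of_mem_orb hp h]

theorem card_orb [Finite X] (ω : X) {p : ι → F} (hp : S.Q p = 0) :
    (S.orb ω p).ncard * Nat.card (S.stab ω p) = Nat.card (S.pp p) := by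
  classical
  let A := (S.pp p).toAddSubgroup
  let K : AddSubgroup A := (S.stab ω p).addSubgroupOf A
  let f : A ⧸ K → S.orb ω p := Quotient.lift
    (fun v : A => (⟨S.el p (v : ι → F) • ω, v, S.mem_pp.1 v.2, rfl⟩ : S.orb ω p)) (by
    intro a b hab
    have hm : ((-a + b : A) : ι → F) ∈ S.stab ω p :=
      (QuotientAddGroup.leftRel_apply (s := K)).1 hab
    have ha : polar S.Q p (a : ι → F) = 0 := S.mem_pp.1 a.2
    have hb : polar S.Q p (b : ι → F) = 0 := S.mem_pp.1 b.2
    apply Subtype.ext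
    show S.el p (a : ι → F) • ω = S.el p (b : ι → F) • ω
    conv_rhs => rw [show (b : ι → F) = (a : ι → F) + ((-a + b : A) : ι → F) by simp]
    rw [← S.el_add hp ha hm.1, mul_smul, hm.2 hp])
  have hf : Function.Bijective f := by
    constructor
    · rintro ⟨a⟩ ⟨b⟩ h
      apply Quotient.sound
      refine QuotientAddGroup.leftRel_apply.2 ?_
      have ha : polar S.Q p (a : ι → F) = 0 := S.mem_pp.1 a.2
      have hb : polar S.Q p (b : ι → F) = 0 := S.mem_pp.1 b.2
      have h' : S.el p (a : ι → F) • ω = S.el p (b : ι → F) • ω := congrArg Subtype.val h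
      show ((-a + b : A) : ι → F) ∈ S.stab ω p
      have hna : polar S.Q p (-(a : ι → F)) = 0 := by rw [polar_neg_right, ha, neg_zero]
      refine (S.mem_stab hp).2 ⟨by simp [polar_add_right, hna, hb], ?_⟩
      show S.el p (-(a : ι → F) + (b : ι → F)) • ω = ω
      rw [← S.el_add hp hna hb, mul_smul, ← h', ← mul_smul, S.el_add hp hna ha, neg_add_cancel,
        S.el_zero hp, one_smul]
    · rintro ⟨_, v, hv, rfl⟩
      exact ⟨Quotient.mk _ ⟨v, S.mem_pp.2 hv⟩, rfl⟩
  have h1 : Nat.card K = Nat.card (S.stab ω p) :=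
    Nat.card_congr (AddSubgroup.addSubgroupOfEquivOfLe (S.stab_le ω p)).toEquiv
  rw [← Nat.card_coe_set_eq, ← Nat.card_congr (Equiv.ofBijective f hf), ← h1]
  exact (AddSubgroup.card_eq_card_quotient_mul_card_addSubgroup K).symm

theorem card_dl [Finite X] (ω : X) {p : ι → F} (hp : S.Q p = 0) (hp0 : p ≠ 0) :
    Nat.card (S.dl ω p) = Fintype.card F * (S.orb ω p).ncard := by
  have h1 := S.card_cperp (S.stab ω p)
  have h2 := S.card_orb ω hp
  have h3 := S.card_pp hp0
  have hpos : 0 < Nat.card (S.stab ω p) := Nat.card_pos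
  refine Nat.eq_of_mul_eq_mul_right hpos ?_
  rw [dl, h1, ← h3, ← h2]
  ring

/-! ### Equivariance -/

theorem mem_stab_ap (g : S.G) {ω : X} {p v : ι → F} (hp : S.Q p = 0) :
    S.ap g v ∈ S.stab (g • ω) (S.ap g p) ↔ v ∈ S.stab ω p := by
  rw [S.mem_stab hp, S.mem_stab (by rw [S.Q_ap, hp]), S.polar_ap]
  refine and_congr_right fun hv => ?_
  rw [← S.el_conj hp hv g, ← mul_smul, inv_mul_cancel_right, mul_smul]
  exact (MulAction.injective g).eq_iff

theorem mem_dl_ap (g : S.G) {ω : X} {p y : ι → F} (hp : S.Q p = 0) :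
    S.ap g y ∈ S.dl (g • ω) (S.ap g p) ↔ y ∈ S.dl ω p := by
  constructor
  · intro h v hv
    have := h _ ((S.mem_stab_ap g hp).2 hv)
    rwa [S.polar_ap] at this
  · intro h v hv
    rw [← S.ap_ap_inv g v] at hv ⊢
    rw [S.polar_ap]
    exact h _ ((S.mem_stab_ap g hp).1 hv)

theorem orb_ap (g : S.G) {ω : X} {p : ι → F} (hp : S.Q p = 0) :
    S.orb (g • ω) (S.ap g p) = (fun x => g • x) '' S.orb ω p := by
  have key : ∀ w, polar S.Q p w = 0 →
      S.el (S.ap g p) (S.ap g w) • g • ω = g • S.el p w • ω := fun w hw => by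
    rw [← S.el_conj hp hw g, ← mul_smul, inv_mul_cancel_right, mul_smul]
  ext x
  constructor
  · rintro ⟨v, hv, rfl⟩
    rw [← S.ap_ap_inv g v, S.polar_ap] at hv
    refine ⟨_, ⟨_, hv, rfl⟩, ?_⟩
    show g • S.el p (S.ap g⁻¹ v) • ω = _
    rw [← key _ hv, S.ap_ap_inv]
  · rintro ⟨_, ⟨w, hw, rfl⟩, rfl⟩
    exact ⟨S.ap g w, by rw [S.polar_ap, hw], key w hw⟩

theorem mem_stab_smul {ω : X} {p v : ι → F} (hp : S.Q p = 0) {c : F} (hc : c ≠ 0) :
    v ∈ S.stab ω (c • p) ↔ c • v ∈ S.stab ω p := by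
  rw [S.mem_stab hp, S.mem_stab (by rw [QuadraticMap.map_smul, hp, smul_zero]), polar_smul_left,
    polar_smul_right]
  constructor
  · rintro ⟨h1, h2⟩
    refine ⟨h1, ?_⟩
    rwa [← S.el_smul_left hp ((smul_eq_zero.1 h1).resolve_left hc) c]
  · rintro ⟨h1, h2⟩
    refine ⟨h1, ?_⟩
    rwa [S.el_smul_left hp ((smul_eq_zero.1 h1).resolve_left hc) c]

theorem orb_smul {ω : X} {p : ι → F} (hp : S.Q p = 0) {c : F} (hc : c ≠ 0) :
    S.orb ω (c • p) = S.orb ω p := by
  ext x
  constructor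
  · rintro ⟨v, hv, rfl⟩
    rw [polar_smul_left, smul_eq_zero, or_iff_right hc] at hv
    exact ⟨c • v, by rw [polar_smul_right, hv, smul_zero], by rw [S.el_smul_left hp hv]⟩
  · rintro ⟨v, hv, rfl⟩
    refine ⟨c⁻¹ • v, by simp [polar_smul_left, polar_smul_right, hv], ?_⟩
    rw [S.el_smul_left hp (by rw [polar_smul_right, hv, smul_zero]), smul_smul, mul_inv_cancel₀ hc,
      one_smul]

theorem mem_dl_smul {ω : X} {p y : ι → F} (hp : S.Q p = 0) {c : F} (hc : c ≠ 0) :
    y ∈ S.dl ω (c • p) ↔ c⁻¹ • y ∈ S.dl ω p := by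
  constructor
  · intro h v hv
    have := h (c⁻¹ • v) ((S.mem_stab_smul hp hc).2
      (by rwa [smul_smul, mul_inv_cancel₀ hc, one_smul]))
    rw [polar_smul_left] at this
    rwa [polar_smul_right]
  · intro h v hv
    have := h (c • v) ((S.mem_stab_smul hp hc).1 hv)
    rwa [polar_smul_left, polar_smul_right, smul_smul, mul_inv_cancel₀ hc, one_smul] at this

end Space

end CfsgLib.MinIndexOrth
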