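import Cfsg.Agent.Lib.MinIndexOrth.Endgame

/-!
Duals over prime fields are subspaces; translates of a dual and the degrees they force.
-/

set_option autoImplicit false
set_option linter.unusedSectionVars false

namespace CfsgLib.MinIndexOrth

open Matrix QuadraticMap CfsgLib.Orth

variable {ι : Type} [Fintype ι] [DecidableEq ι] {F : Type*} [Field F] [Fintype F]

namespace Space

variable (S : Space ι F) {X : Type*} [MulAction S.G X]

theorem lsp_ap (g : S.G) {ω : X} {p : ι → F} (hp : S.Q p = 0) :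
    S.mapW g (S.lsp ω p) = S.lsp (g • ω) (S.ap g p) := by
  rw [mapW, lsp, Submodule.map_span, lsp]
  congr 1
  ext y
  constructor
  · rintro ⟨z, hz, rfl⟩; exact (S.mem_dl_ap g hp).2 hz
  · intro hy
    rw [SetLike.mem_coe, ← S.ap_ap_inv g y, S.mem_dl_ap g hp] at hy
    exact ⟨_, hy, S.ap_ap_inv g y⟩

theorem lsp_of_mem_orb {ω ω' : X} {p : ι → F} (hp : S.Q p = 0) (h : ω' ∈ S.orb ω p) :
    S.lsp ω' p = S.lsp ω p := by rw [lsp, lsp, S.dl_of_mem_orb hp h]

theorem reg_of_mem_orb {ω ω' : X} {p : ι → F} (hp : S.Q p = 0) (h : ω' ∈ S.orb ω p) (hr : S.Reg ω p) :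
    S.Reg ω' p := by
  rw [S.reg_iff hp] at hr ⊢
  rw [S.stab_of_mem_orb hp h, hr]

theorem reg_ap (g : S.G) {ω : X} {p : ι → F} (hp : S.Q p = 0) (hr : S.Reg ω p) :
    S.Reg (g • ω) (S.ap g p) := by
  intro v hv hfix
  have h1 : v ∈ S.stab (g • ω) (S.ap g p) := (S.mem_stab (by rw [S.Q_ap, hp])).2 ⟨hv, hfix⟩
  rw [← S.ap_ap_inv g v, S.mem_stab_ap g hp, (S.reg_iff hp).1 hr, Submodule.mem_toAddSubgroup,
    Submodule.mem_span_singleton] at h1
  obtain ⟨t, ht⟩ := h1
  exact Submodule.mem_span_singleton.2 ⟨t, by rw [← map_smul, ht, S.ap_ap_inv]⟩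

theorem not_reg_of_mem_stab {ω : X} {p v : ι → F} (hp : S.Q p = 0) (h : v ∈ S.stab ω p)
    (hv : v ∉ Submodule.span F {p}) : ¬ S.Reg ω p := fun hr => hv (hr v h.1 (h.2 hp))

/-- over a prime field the duals are subspaces -/
theorem dl_smul_mem (hq : (Fintype.card F).Prime) {ω : X} {p y : ι → F} (hy : y ∈ S.dl ω p) (t : F) :
    t • y ∈ S.dl ω p := by
  have : Fact (Fintype.card F).Prime := ⟨hq⟩
  have h1 : AddSubgroup.zmultiples (1 : F) = ⊤ :=
    zmultiples_eq_top_of_prime_card (p := Fintype.card F) (Nat.card_eq_fintype_card) one_ne_zero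
  obtain ⟨n, hn⟩ := AddSubgroup.mem_zmultiples_iff.1 (show t ∈ AddSubgroup.zmultiples (1 : F) by
    rw [h1]; exact AddSubgroup.mem_top t)
  rw [← hn, smul_assoc, one_smul]
  exact zsmul_mem hy n

theorem dl_eq_lsp (hq : (Fintype.card F).Prime) (ω : X) (p : ι → F) :
    S.dl ω p = (S.lsp ω p).toAddSubgroup := by
  refine le_antisymm (fun y hy => Submodule.subset_span hy) fun y hy => ?_
  induction hy using Submodule.span_induction with
  | mem x hx => exact hx
  | zero => exact zero_mem _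
  | add a b _ _ ha hb => exact add_mem ha hb
  | smul t x _ hx => exact S.dl_smul_mem hq hx t

theorem lsp_eq_pp_iff (hq : (Fintype.card F).Prime) {ω : X} {p : ι → F} (hp : S.Q p = 0) :
    S.Reg ω p ↔ S.lsp ω p = S.pp p := by
  constructor
  · intro h
    apply Submodule.toAddSubgroup_injective
    rw [← S.dl_eq_lsp hq, S.dl_of_reg hp h]
  · intro h
    refine S.reg_of_dl hp fun v hv => ?_
    rw [S.dl_eq_lsp hq, Submodule.mem_toAddSubgroup, h]
    exact S.mem_pp.2 hv

theorem orb_card_prime [Finite X] (hq : (Fintype.card F).Prime) (ω : X) {p : ι → F} (hp : S.Q p = 0)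
    (hp0 : p ≠ 0) :
    Fintype.card F * (S.orb ω p).ncard = Fintype.card F ^ Module.finrank F (S.lsp ω p) := by
  rw [← S.card_dl ω hp hp0, S.dl_eq_lsp hq, ← card_sub]
  rfl

/-- the points whose orbit is not regular -/
noncomputable def nonReg (X : Type*) [MulAction S.G X] [Fintype X] (p : ι → F) : ℕ :=
  Nat.card {x : X // ¬ S.Reg x p}

theorem nonReg_add_le [Fintype X] {ω : X} {p : ι → F} (hp : S.Q p = 0) (hp0 : p ≠ 0) (hr : S.Reg ω p) :
    Fintype.card F ^ (Fintype.card ι - 2) + S.nonReg X p ≤ Fintype.card X := by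
  classical
  rw [← S.orb_card_reg hp hp0 hr, nonReg, ← Nat.card_coe_set_eq (S.orb ω p), ← Nat.card_sum,
    ← Nat.card_eq_fintype_card]
  refine Nat.card_le_card_of_injective
    (Sum.elim (fun x : S.orb ω p => x.1) (fun x : {x : X // ¬ S.Reg x p} => x.1))
    (Subtype.val_injective.sumElim Subtype.val_injective fun a b h => b.2 ?_)
  rw [← h]
  exact S.reg_of_mem_orb hp a.2 hr

/-- translates of the orbits of one point dual cover at least as many points -/
theorem translates_le [Fintype X] (hq : (Fintype.card F).Prime) {ω : X} {p : ι → F} (hp : S.Q p = 0)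
    (hp0 : p ≠ 0) (hnr : ¬ S.Reg ω p) (T : Finset (Submodule F (ι → F)))
    (hT : ∀ W ∈ T, ∃ g : S.G, S.ap g p = p ∧ W = S.mapW g (S.lsp ω p)) :
    T.card * Fintype.card F ^ Module.finrank F (S.lsp ω p) ≤ Fintype.card F * S.nonReg X p := by
  classical
  set e := Module.finrank F (S.lsp ω p)
  have h1 : ∀ W ∈ T, Fintype.card F ^ e ≤
      Fintype.card F * (Finset.univ.filter fun x : X => ¬ S.Reg x p ∧ S.lsp x p = W).card := by
    intro W hW
    obtain ⟨g, hg, rfl⟩ := hT W hW
    have e1 : S.lsp (g • ω) p = S.mapW g (S.lsp ω p) := by rw [S.lsp_ap g hp, hg]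
    have e2 := S.orb_card_prime hq (g • ω) hp hp0
    rw [e1, finrank_mapW] at e2
    rw [← e2, ← Set.ncard_coe_finset]
    refine Nat.mul_le_mul_left _ (Set.ncard_le_ncard (fun x hx => ?_) (Finset.finite_toSet _))
    have e3 := S.lsp_of_mem_orb hp hx
    simp only [Finset.coe_filter, Finset.mem_univ, true_and, Set.mem_setOf_eq]
    refine ⟨fun hr => hnr ?_, e3.trans e1⟩
    have hr' : S.Reg (g • ω) (S.ap g p) := by
      rw [hg, S.lsp_eq_pp_iff hq hp, ← e3]
      exact (S.lsp_eq_pp_iff hq hp).1 hr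
    have := S.reg_ap g⁻¹ (by rw [S.Q_ap, hp]) hr'
    rwa [inv_smul_smul, S.ap_inv_ap] at this
  rw [nonReg, Nat.card_eq_fintype_card, Fintype.card_subtype]
  refine le_trans (b := Fintype.card F * ∑ W ∈ T,
    (Finset.univ.filter fun x : X => ¬ S.Reg x p ∧ S.lsp x p = W).card) ?_ (Nat.mul_le_mul_left _ ?_)
  · rw [Finset.mul_sum, ← smul_eq_mul, ← Finset.sum_const]
    exact Finset.sum_le_sum h1
  · rw [← Finset.card_biUnion]
    · refine Finset.card_le_card fun x hx => ?_
      simp only [Finset.mem_biUnion, Finset.mem_filter, Finset.mem_univ, true_and] at hx ⊢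
      obtain ⟨-, -, hx, -⟩ := hx
      exact hx
    · intro a _ b _ hab
      rw [Function.onFun, Finset.disjoint_left]
      intro x hx hx'
      exact hab ((Finset.mem_filter.1 hx).2.2.symm.trans (Finset.mem_filter.1 hx').2.2)

/-- a dual spanned by `p` and a non-singular vector forces as many points as vectors of its value -/
theorem cnt_le_nonReg [Fintype X] (hq : (Fintype.card F).Prime) {ω : X} {p y : ι → F} (hp : S.Q p = 0)
    (hp0 : p ≠ 0) (hy : S.Q y ≠ 0) (hnr : ¬ S.Reg ω p) (hL : S.lsp ω p = Submodule.span F {p, y}) :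
    S.cnt p (S.Q y) ≤ Nat.card {t : F // t * t = 1} * S.nonReg X p := by
  classical
  set c := S.Q y with hc
  have hyL : y ∈ S.lsp ω p := by rw [hL]; exact Submodule.subset_span (by simp)
  have hpy : polar S.Q p y = 0 := S.mem_pp.1 (S.lsp_le_pp ω hp hyL)
  have hind : ∀ z, S.Q z ≠ 0 → LinearIndependent F ![p, z] := fun z hz =>
    LinearIndependent.pair_iff' hp0 |>.2 fun t ht => hz (by
      rw [← ht, QuadraticMap.map_smul, hp, smul_zero])
  set V := Finset.univ.filter fun z : ι → F => polar S.Q p z = 0 ∧ S.Q z = c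
  have hV : ∀ z ∈ V, polar S.Q p z = 0 ∧ S.Q z = c := fun z hz => by simpa [V] using hz
  have hg : ∀ z, z ∈ V → ∃ g : S.G, S.ap g p = p ∧ Submodule.span F {p, z} = S.mapW g (S.lsp ω p) := by
    intro z hz
    obtain ⟨hpz, hQz⟩ := hV z hz
    obtain ⟨g, hg⟩ := S.exists_map ![p, y] ![p, z] (hind y hy) (hind z (hQz.symm ▸ hy))
      (by have := S.seven; omega) (fun i => by fin_cases i <;> simp [hQz, c])
      (fun i j => by
        fin_cases i <;> fin_cases j <;>
          simp [hpz, hpy, polar_comm (f := ⇑S.Q) z p, polar_comm (f := ⇑S.Q) y p, polar_self', hQz, c, hp])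
    have e0 : S.ap g p = p := hg 0
    have e1 : S.ap g y = z := hg 1
    refine ⟨g, e0, ?_⟩
    rw [hL, mapW, Submodule.map_span, Set.image_insert_eq, Set.image_singleton, e0, e1]
  set T := V.image fun z => Submodule.span F {p, z}
  have hT := S.translates_le hq hp hp0 hnr T fun W hW => by
    obtain ⟨z, hz, rfl⟩ := Finset.mem_image.1 hW
    exact hg z hz
  have he : Module.finrank F (S.lsp ω p) = 2 := by
    rw [hL, show ({p, y} : Set (ι → F)) = Set.range ![p, y] by simp [Set.pair_comm],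
      finrank_span_eq_card (hind y hy), Fintype.card_fin]
  rw [he] at hT
  have hfib : V.card ≤ Fintype.card F * Nat.card {t : F // t * t = 1} * T.card := by
    refine Finset.card_le_mul_card_image V _ fun W hW => ?_
    obtain ⟨z₀, hz₀, rfl⟩ := Finset.mem_image.1 hW
    obtain ⟨hpz₀, hQz₀⟩ := hV z₀ hz₀
    rw [Nat.card_eq_fintype_card, ← Fintype.card_prod]
    refine (Finset.card_le_card (t := (Finset.univ : Finset (F × {t : F // t * t = 1})).image
      fun ab => ab.1 • p + ab.2.1 • z₀) fun z hz => ?_).trans Finset.card_image_le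
    obtain ⟨hzV, hzs⟩ := Finset.mem_filter.1 hz
    have hzm : z ∈ Submodule.span F {p, z₀} := hzs ▸ Submodule.subset_span (by simp)
    obtain ⟨α, β, rfl⟩ := Submodule.mem_span_pair.1 hzm
    have h1 := (hV _ hzV).2
    simp only [QuadraticMap.map_add ⇑S.Q, QuadraticMap.map_smul, polar_smul_left, polar_smul_right,
      hp, hpz₀, hQz₀, smul_eq_mul, mul_zero, zero_add, add_zero] at h1
    exact Finset.mem_image.2 ⟨(α, ⟨β, (mul_eq_right₀ hy).1 h1⟩), Finset.mem_univ _, rfl⟩
  have hcnt : S.cnt p c = V.card := by rw [cnt, Nat.card_eq_fintype_card, Fintype.card_subtype]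
  rw [hcnt]
  refine hfib.trans ?_
  refine Nat.le_of_mul_le_mul_left ?_ (Fintype.card_pos (α := F))
  calc Fintype.card F * (Fintype.card F * Nat.card {t : F // t * t = 1} * T.card)
      = Nat.card {t : F // t * t = 1} * (T.card * Fintype.card F ^ 2) := by ring
    _ ≤ Nat.card {t : F // t * t = 1} * (Fintype.card F * S.nonReg X p) := Nat.mul_le_mul_left _ hT
    _ = _ := by ring

/-- a totally singular dual of the largest dimension forces many points -/
theorem lag_le_nonReg [Fintype X] (hq : (Fintype.card F).Prime) {ω : X} {p : ι → F} {k : ℕ}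
    (hp : S.Q p = 0) (hp0 : p ≠ 0) (hnr : ¬ S.Reg ω p) (hts : S.TS (S.lsp ω p))
    (hk : Module.finrank F (S.lsp ω p) = k) (hk3 : 3 ≤ k) :
    Fintype.card F ^ (k - 1) * ((S.y0 - Fintype.card F) * (S.y2 - Fintype.card F ^ 2)) ≤
      S.nonReg X p * ((Fintype.card F ^ k - Fintype.card F) * (Fintype.card F ^ k - Fintype.card F ^ 2)) := by
  classical
  have : Fintype S.G := Fintype.ofFinite _
  let 𝒲 : Finset (Submodule F (ι → F)) :=
    (Finset.univ.filter fun g : S.G => S.ap g p = p).image fun g => S.mapW g (S.lsp ω p)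
  have hmem : ∀ W ∈ 𝒲, Module.finrank F W = k ∧ S.TS W ∧ p ∈ W := by
    intro W hW
    obtain ⟨g, hg, rfl⟩ := Finset.mem_image.1 hW
    exact ⟨by rw [finrank_mapW, hk], hts.map g, p, S.self_mem_lsp ω p, (Finset.mem_filter.1 hg).2⟩
  obtain ⟨-, hcount⟩ := S.point_family_count hp hp0 𝒲 hmem (fun g hg W hW => by
    obtain ⟨g', hg', rfl⟩ := Finset.mem_image.1 hW
    refine Finset.mem_image.2 ⟨g * g', Finset.mem_filter.2 ⟨Finset.mem_univ _, ?_⟩, mapW_mul g g' _⟩
    rw [ap_mul, (Finset.mem_filter.1 hg').2, hg])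
    ⟨_, Finset.mem_image.2 ⟨1, Finset.mem_filter.2 ⟨Finset.mem_univ _, S.ap_one p⟩, mapW_one _⟩⟩
  have h1 := S.translates_le hq hp hp0 hnr 𝒲 fun W hW => by
    obtain ⟨g, hg, rfl⟩ := Finset.mem_image.1 hW
    exact ⟨g, (Finset.mem_filter.1 hg).2, rfl⟩
  rw [hk, show k = k - 1 + 1 by omega, pow_succ', Nat.mul_left_comm] at h1
  have h2 := Nat.le_of_mul_le_mul_left h1 Fintype.card_pos
  calc _ ≤ Fintype.card F ^ (k - 1) * (𝒲.card * (Fintype.card F ^ k - Fintype.card F) *
        (Fintype.card F ^ k - Fintype.card F ^ 2)) := Nat.mul_le_mul_left _ (hcount hk3)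
    _ = 𝒲.card * Fintype.card F ^ (k - 1) *
        ((Fintype.card F ^ k - Fintype.card F) * (Fintype.card F ^ k - Fintype.card F ^ 2)) := by ring
    _ ≤ _ := Nat.mul_le_mul_right _ h2

end Space

end CfsgLib.MinIndexOrth
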