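import Cfsg.Agent.Lib.MinIndexOrth.Translates
import Cfsg.Agent.Lib.MinIndexOrth.SmallIndex

/-!
The index bound in dimension seven over three elements: the duals are excluded by counting translates.
-/

set_option autoImplicit false
set_option linter.unusedSectionVars false

namespace CfsgLib.MinIndexOrth

open Matrix QuadraticMap CfsgLib.Orth

universe u

variable {ι : Type} [Fintype ι] [DecidableEq ι] {F : Type u} [Field F] [Fintype F]

namespace Space

variable (S : Space ι F)

/-- a space of dimension three through `p` whose classes have few translates is totally singular -/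
theorem ts_of_few_trn (hF : Fintype.card F = 3) (h2 : (2 : F) ≠ 0) {p : ι → F} (hp : S.Q p = 0) (hp0 : p ≠ 0)
    (L : Submodule F (ι → F)) (Φ : Submodule F (ι → F) → Submodule F (ι → F))
    (hΦ : ∀ (g : S.G) (W : Submodule F (ι → F)) (v : ι → F), v ∈ Φ W → S.ap g v ∈ Φ (S.mapW g W))
    (hk : Module.finrank F (Φ L) = 3) (hpp : Φ L ≤ S.pp p) (hpL : p ∈ Φ L)
    (hbig : ∀ c : F, 216 ≤ (S.cls p c).card) (hT : (S.trn p L).card ≤ 12) : S.TS (Φ L) := by
  classical
  have hdich : ∀ c : F, S.clsIn p c (Φ L) = 0 ∨ 18 ≤ S.clsIn p c (Φ L) := by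
    intro c
    rcases Nat.eq_zero_or_pos (S.clsIn p c (Φ L)) with h | h
    · exact Or.inl h
    right
    obtain ⟨v, hv⟩ := Finset.card_pos.1 h
    obtain ⟨hvc, hvL⟩ := Finset.mem_filter.1 hv
    have h1 := S.cover_trn hp hp0 L Φ hΦ hvc {L} (Finset.singleton_subset_iff.2 (S.self_mem_trn p L))
      (fun W hW => by rwa [Finset.mem_singleton.1 hW])
    rw [Finset.card_singleton, one_mul] at h1
    have h2' := (hbig c).trans (h1.trans (Nat.mul_le_mul_right _ hT))
    omega
  have htot := S.clsIn_total hp0 hpp hpL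
  rw [hF, hk] at htot
  norm_num at htot
  -- all outside vectors have the same value
  have hsame : ∀ v ∈ Φ L, ∀ w ∈ Φ L, v ∉ Submodule.span F {p} → w ∉ Submodule.span F {p} →
      S.Q v = S.Q w := by
    intro v hv w hw hvs hws
    by_contra hne
    have hpos : ∀ z ∈ Φ L, z ∉ Submodule.span F {p} → 18 ≤ S.clsIn p (S.Q z) (Φ L) := fun z hz hzs =>
      (hdich (S.Q z)).resolve_left fun h0 => by
        have hz' : z ∈ (S.cls p (S.Q z)).filter fun x => x ∈ Φ L :=
          Finset.mem_filter.2 ⟨S.mem_cls.2 ⟨⟨S.mem_pp.1 (hpp hz), rfl⟩, hzs⟩, hz⟩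
        rw [clsIn, Finset.card_eq_zero] at h0
        rw [h0] at hz'
        exact Finset.notMem_empty _ hz'
    have h1 := hpos v hv hvs
    have h1' := hpos w hw hws
    have h2' : ∑ c ∈ ({S.Q v, S.Q w} : Finset F), S.clsIn p c (Φ L) ≤ ∑ c : F, S.clsIn p c (Φ L) :=
      Finset.sum_le_sum_of_subset (Finset.subset_univ _)
    rw [Finset.sum_pair hne] at h2'
    omega
  -- two independent directions
  obtain ⟨z, hz, hzs⟩ : ∃ z ∈ Φ L, z ∉ Submodule.span F {p} := by
    by_contra hc
    push Not at hc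
    have := Submodule.finrank_mono hc
    rw [hk, finrank_span_singleton hp0] at this
    omega
  obtain ⟨w, hw, hws⟩ : ∃ w ∈ Φ L, w ∉ Submodule.span F {p, z} := by
    by_contra hc
    push Not at hc
    have := Submodule.finrank_mono hc
    have h2' := finrank_range_le_card (R := F) ![p, z]
    rw [Set.finrank, Fintype.card_fin,
      show Set.range ![p, z] = ({p, z} : Set (ι → F)) by simp [Set.pair_comm]] at h2'
    omega
  have hle : Submodule.span F {p} ≤ Submodule.span F {p, z} := Submodule.span_mono (by simp)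
  have hzm : z ∈ Submodule.span F {p, z} := Submodule.subset_span (by simp)
  have e0 := hsame w hw z hz (fun h => hws (hle h)) hzs
  have e1 := hsame (w + z) (add_mem hw hz) z hz
    (fun h => hws ((Submodule.add_mem_iff_left _ hzm).1 (hle h))) hzs
  have e2 := hsame (w + -z) (add_mem hw (neg_mem hz)) z hz
    (fun h => hws ((Submodule.add_mem_iff_left _ (neg_mem hzm)).1 (hle h))) hzs
  rw [QuadraticMap.map_add ⇑S.Q] at e1 e2
  rw [QuadraticMap.map_neg, polar_neg_right] at e2
  have hc : S.Q z = 0 := by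
    have : (2 : F) * S.Q z = 0 := by linear_combination e1 + e2 - 2 * e0
    exact (mul_eq_zero.1 this).resolve_left h2
  intro v hv
  by_cases hvs : v ∈ Submodule.span F {p}
  · obtain ⟨t, rfl⟩ := Submodule.mem_span_singleton.1 hvs
    rw [QuadraticMap.map_smul, hp, smul_zero]
  · rw [hsame v hv z hz hvs hzs, hc]

theorem two_mul_finrank_ts {W : Submodule F (ι → F)} (hW : S.TS W) :
    2 * Module.finrank F W ≤ Fintype.card ι := by
  have hle : W ≤ S.orth W := fun v hv => S.mem_orth.2 fun z hz => hW.polar_eq hz hv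
  have h1 := Submodule.finrank_mono hle
  rw [S.finrank_orth] at h1
  omega

/-- the duals in dimension seven over three elements -/
theorem seven_three_cases {X : Type*} [MulAction S.G X] [Fintype X] (hF : Fintype.card F = 3)
    (h2 : (2 : F) ≠ 0) (hd : Fintype.card ι = 7) (hy0 : S.y0 = 243) (hy2 : S.y2 = 81)
    (hcnt : ∀ p c, S.Q p = 0 → p ≠ 0 → c ≠ 0 → 216 ≤ S.cnt p c) {ω : X} {p : ι → F} (hp : S.Q p = 0)
    (hp0 : p ≠ 0) (hnr : ¬ S.Reg ω p) {n : ℕ} (hn : S.nonReg X p ≤ n) (hn' : n ≤ 350) :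
    Module.finrank F (S.lsp ω p) ≤ 3 ∧
      (n ≤ 107 → Module.finrank F (S.lsp ω p) = 3 → S.TS (S.lsp ω p)) := by
  classical
  have hq : (Fintype.card F).Prime := by rw [hF]; exact Nat.prime_three
  have hbig : ∀ c : F, 216 ≤ (S.cls p c).card := fun c => by
    by_cases hc : c = 0
    · subst hc
      rw [S.card_cls_zero hp hp0, hy0, hF]
      norm_num
    · rw [S.card_cls hp hc]
      exact hcnt p c hp hp0 hc
  have hT := S.trn_le hq hp hp0 hnr
  rw [hF] at hT
  set L := S.lsp ω p with hL
  set e := Module.finrank F L with he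
  have hLpp : L ≤ S.pp p := S.lsp_le_pp ω hp
  have hpL : p ∈ L := S.self_mem_lsp ω p
  have hKpp : S.orth L ≤ S.pp p := fun v hv => S.mem_pp.2 (S.mem_orth.1 hv p hpL)
  have hpK : p ∈ S.orth L := S.mem_orth.2 fun z hz => by
    rw [polar_comm]
    exact S.mem_pp.1 (hLpp hz)
  have hKe : Module.finrank F (S.orth L) = 7 - e := by rw [S.finrank_orth, hd]
  have hΦ : ∀ (g : S.G) (W : Submodule F (ι → F)) (v : ι → F),
      v ∈ S.orth W → S.ap g v ∈ S.orth (S.mapW g W) := fun g W v hv => by
    rw [S.orth_mapW]; exact ⟨v, hv, rfl⟩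
  have h6 : e ≤ 6 := (Submodule.finrank_mono hLpp).trans (by rw [S.finrank_pp hp0, hd])
  have hlow : e ≤ 3 := by
    rcases (show e ≤ 3 ∨ e = 4 ∨ e = 5 ∨ e = 6 by omega) with h | h | h | h
    · exact h
    all_goals exfalso
    · rw [h] at hT
      norm_num at hT
      rw [h] at hKe
      have hts := S.ts_of_few_trn hF h2 hp hp0 L S.orth hΦ hKe hKpp hpK hbig (by omega)
      have h40 := S.cover_trn_ts hp hp0 L S.orth S.orth_mapW hKe le_rfl hts hpK
      rw [hy0, hy2, hF] at h40
      norm_num at h40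
      omega
    · rw [h] at hT
      norm_num at hT
      rw [h] at hKe
      obtain ⟨z, hz, hzs⟩ : ∃ z ∈ S.orth L, z ∉ Submodule.span F {p} := by
        by_contra hc
        push Not at hc
        have := Submodule.finrank_mono hc
        rw [hKe, finrank_span_singleton hp0] at this
        omega
      have hzc : z ∈ S.cls p (S.Q z) := S.mem_cls.2 ⟨⟨S.mem_pp.1 (hKpp hz), rfl⟩, hzs⟩
      have h1 := S.cover_trn hp hp0 L S.orth hΦ hzc {L} (Finset.singleton_subset_iff.2 (S.self_mem_trn p L))
        (fun W hW => by rwa [Finset.mem_singleton.1 hW])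
      rw [Finset.card_singleton, one_mul] at h1
      have htot := S.clsIn_total hp0 hKpp hpK
      rw [hF, hKe] at htot
      have hle : S.clsIn p (S.Q z) (S.orth L) ≤ ∑ c : F, S.clsIn p c (S.orth L) :=
        Finset.single_le_sum (f := fun c => S.clsIn p c (S.orth L)) (fun _ _ => Nat.zero_le _)
          (Finset.mem_univ _)
      have hb := (hbig (S.Q z)).trans (h1.trans (Nat.mul_le_mul_left _
        (show S.clsIn p (S.Q z) (S.orth L) ≤ 6 by norm_num at htot; omega)))
      omega
    · refine hnr ((S.lsp_eq_pp_iff hq hp).2 (Submodule.eq_of_le_of_finrank_eq hLpp ?_))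
      rw [S.finrank_pp hp0, hd, ← hL, ← he, h]
  refine ⟨hlow, fun hn2 h => ?_⟩
  rw [h] at hT
  norm_num at hT
  exact S.ts_of_few_trn hF h2 hp hp0 L (fun W => W) (fun g W v hv => ⟨v, hv, rfl⟩) h hLpp hpL hbig
    (by omega)

/-- the index bound in dimension seven over three elements -/
theorem index_ge_seven_three {w : ℕ} (hB : S.Bounds 351 w) (hF : Fintype.card F = 3) (h2 : (2 : F) ≠ 0)
    (hs : Nat.card {t : F // t * t = 1} = 2)
    (hd : Fintype.card ι = 7) (hy0 : S.y0 = 243) (hy2 : S.y2 = 81)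
    (hcnt : ∀ p c, S.Q p = 0 → p ≠ 0 → c ≠ 0 → 216 ≤ S.cnt p c)
    (hall : ∀ (X : Type u) [MulAction S.G X] [Fintype X] [Nonempty X],
      (∀ (ω ω' : X) p, S.Q p = 0 → p ≠ 0 → ω' ∈ S.orb ω p) →
      (∀ (ω : X) p, S.Q p = 0 → p ≠ 0 → S.Reg ω p) → False)
    (H : Subgroup (Cfsg.POmega F ⇑S.Q)) (hH : H ≠ ⊤) : 351 ≤ H.index := by
  refine S.index_ge (fun X _ _ _ hfree => ?_) H hH
  have hq : (Fintype.card F).Prime := by rw [hF]; exact Nat.prime_three
  have hnle : ∀ p, S.nonReg X p ≤ Fintype.card X := fun p => by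
    rw [nonReg, ← Nat.card_eq_fintype_card]
    exact Nat.card_le_card_of_injective _ Subtype.val_injective
  refine S.le_card_prime hB hfree hq ?_ ?_ (fun h => absurd h (by omega)) (fun _ => hall X)
  · intro hlt ω p hp hp0 hnr
    refine Or.inr ?_
    have h := (S.seven_three_cases hF h2 hd hy0 hy2 hcnt hp hp0 hnr (hnle p) (by omega)).1
    omega
  · intro hlt ω₀ ω p hp hp0 h₀ hnr
    have h4 := S.nonReg_add_le hp hp0 h₀
    rw [hF, hd] at h4
    norm_num at h4
    obtain ⟨h3, h3'⟩ := S.seven_three_cases hF h2 hd hy0 hy2 hcnt hp hp0 hnr (le_refl _) (by omega)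
    by_contra hts
    obtain ⟨y, hy, hQy⟩ : ∃ y ∈ S.lsp ω p, S.Q y ≠ 0 := by simpa [TS] using hts
    have hys : y ∉ Submodule.span F {p} := fun h => by
      obtain ⟨t, rfl⟩ := Submodule.mem_span_singleton.1 h
      rw [QuadraticMap.map_smul, hp, smul_zero] at hQy
      exact hQy rfl
    have hle : Submodule.span F {p, y} ≤ S.lsp ω p := Submodule.span_le.2 (by
      intro z hz
      simp only [Set.mem_insert_iff, Set.mem_singleton_iff] at hz
      rcases hz with rfl | rfl
      exacts [S.self_mem_lsp ω _, hy])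
    have hex : ∀ p c, S.Q p = 0 → p ≠ 0 → c ≠ 0 →
        Nat.card {t : F // t * t = 1} * 351 ≤
          Nat.card {t : F // t * t = 1} * Fintype.card F ^ (Fintype.card ι - 2) + S.cnt p c := by
      intro p c hp hp0 hc
      have := hcnt p c hp hp0 hc
      rw [hs, hF, hd]
      norm_num
      omega
    have hne : S.lsp ω p ≠ Submodule.span F {p, y} := S.ts_of_reg hq hlt hex hp hp0 h₀ hnr hQy
    have h2f : 2 ≤ Module.finrank F (Submodule.span F {p, y}) := by
      have e := finrank_span_eq_card (AutPOmega.independent_pair hp0 hys)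
      rw [show Set.range ![p, y] = ({p, y} : Set (ι → F)) by simp [Set.pair_comm], Fintype.card_fin] at e
      omega
    have hlt' : Module.finrank F (Submodule.span F {p, y}) < Module.finrank F (S.lsp ω p) :=
      Submodule.finrank_lt_finrank_of_lt (lt_of_le_of_ne hle (Ne.symm hne))
    exact hts (h3' (by omega) (by omega))

end Space

end CfsgLib.MinIndexOrth
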