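import Cfsg.Agent.Lib.MinIndexOrth.Prime
import Cfsg.Agent.Lib.MinIndexOrth.Main

/-!
The minimal degree for prime fields: an action with all orbits of all radicals regular is impossible,
the totally singular duals next to regular ones give an equivariant singular subspace, and without
regular orbits the duals are Lagrangian.
-/

set_option autoImplicit false
set_option linter.unusedSectionVars false

namespace CfsgLib.MinIndexOrth

open Matrix QuadraticMap CfsgLib.Orth
open scoped commutatorElement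

variable {ι : Type} [Fintype ι] [DecidableEq ι] {F : Type*} [Field F] [Fintype F]

namespace Space

variable (S : Space ι F) {X : Type*} [MulAction S.G X]

theorem not_reg_smul {ω : X} {p : ι → F} (hp : S.Q p = 0) {t : F} (ht : t ≠ 0) (h : ¬ S.Reg ω p) :
    ¬ S.Reg ω (t • p) := by
  intro hr
  apply h
  intro v hv hfix
  have hv' : v ∈ S.stab ω p := (S.mem_stab hp).2 ⟨hv, hfix⟩
  have h1 : t⁻¹ • v ∈ S.stab ω (t • p) :=
    (S.mem_stab_smul hp ht).2 (by rwa [smul_smul, mul_inv_cancel₀ ht, one_smul])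
  rw [(S.reg_iff (by rw [QuadraticMap.map_smul, hp, smul_zero])).1 hr, Submodule.mem_toAddSubgroup,
    Submodule.mem_span_singleton] at h1
  obtain ⟨c, hc⟩ := h1
  refine Submodule.mem_span_singleton.2 ⟨t * (c * t), ?_⟩
  have h2 := congrArg (fun z => t • z) hc
  simp only [smul_smul, mul_inv_cancel₀ ht, one_smul] at h2
  exact h2

/-- the elements fixing a pair of vectors -/
def fix2 (p r : ι → F) : Subgroup S.G where
  carrier := {g | S.ap g p = p ∧ S.ap g r = r}
  one_mem' := ⟨S.ap_one p, S.ap_one r⟩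
  mul_mem' := fun {g h} hg hh => ⟨by rw [ap_mul, hh.1, hg.1], by rw [ap_mul, hh.2, hg.2]⟩
  inv_mem' := fun {g} hg =>
    ⟨by conv_lhs => rw [← hg.1, S.ap_inv_ap], by conv_lhs => rw [← hg.2, S.ap_inv_ap]⟩

/-- a regular orbit gives no cocycle on the derived group of a pair fixer -/
theorem commutator_shift {ω : X} {p r : ι → F} (hp : S.Q p = 0)
    (hcover : ∀ g : S.G, S.ap g p = p → g • ω ∈ S.orb ω p) {g : S.G}
    (hg : g ∈ ⁅S.fix2 p r, S.fix2 p r⁆) :
    ∃ e, polar S.Q p e = 0 ∧ polar S.Q r e = 0 ∧ g • ω = S.el p e • ω := by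
  let R : S.G → F → Prop := fun g l => ∃ e, polar S.Q p e = 0 ∧ polar S.Q r e = l ∧ g • ω = S.el p e • ω
  have hmul : ∀ {g h : S.G} {l m : F}, g ∈ S.fix2 p r → R g l → R h m → R (g * h) (l + m) := by
    rintro g h l m ⟨hgp, hgr⟩ ⟨e, he, hel, hge⟩ ⟨e', he', hel', hhe⟩
    have hge' : polar S.Q p (S.ap g e') = 0 := by rw [← hgp, S.polar_ap, he']
    refine ⟨S.ap g e' + e, by rw [polar_add_right, hge', he, add_zero], ?_, ?_⟩
    · rw [polar_add_right, hel, ← hgr, S.polar_ap, hel', add_comm]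
    · have e2 : g * S.el p e' = S.el p (S.ap g e') * g := by
        have e1 := S.el_conj hp he' g
        rw [hgp] at e1
        rw [← e1, inv_mul_cancel_right]
      rw [mul_smul, hhe, ← mul_smul, e2, mul_smul, hge, ← mul_smul, S.el_add hp hge' he]
  have hinvR : ∀ {a : S.G} {l : F}, a ∈ S.fix2 p r → R a l → R a⁻¹ (-l) := by
    rintro a l ha ⟨e, he, hel, hae⟩
    have ha' := (S.fix2 p r).inv_mem ha
    have hpe : polar S.Q p (S.ap a⁻¹ e) = 0 := by rw [← ha'.1, S.polar_ap, he]
    have hre : polar S.Q r (S.ap a⁻¹ e) = l := by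
      have := S.polar_ap a⁻¹ r e
      rwa [ha'.2, hel] at this
    refine ⟨-S.ap a⁻¹ e, by rw [polar_neg_right, hpe, neg_zero], by rw [polar_neg_right, hre], ?_⟩
    have e1 := S.el_conj hp he a⁻¹
    rw [ha'.1, inv_inv] at e1
    calc a⁻¹ • ω = (S.el p (S.ap a⁻¹ e))⁻¹ • S.el p (S.ap a⁻¹ e) • a⁻¹ • ω := (inv_smul_smul _ _).symm
      _ = (S.el p (S.ap a⁻¹ e))⁻¹ • ω := by
          congr 1
          rw [← e1, ← mul_smul, mul_assoc (a⁻¹ * S.el p e), mul_inv_cancel, mul_one, mul_smul, ← hae,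
            inv_smul_smul]
      _ = _ := by rw [S.el_inv hp hpe]
  suffices g ∈ S.fix2 p r ∧ R g 0 from this.2
  rw [Subgroup.commutator_def] at hg
  induction hg using Subgroup.closure_induction with
  | mem x hx =>
    obtain ⟨a, ha, b, hb, rfl⟩ := hx
    have hex : ∀ a ∈ S.fix2 p r, ∃ l, R a l ∧ R a⁻¹ (-l) := by
      intro a ha
      obtain ⟨e, he, hae⟩ := hcover a ha.1
      have hR : R a (polar S.Q r e) := ⟨e, he, rfl, hae.symm⟩
      exact ⟨_, hR, hinvR ha hR⟩
    obtain ⟨l, hl, hl'⟩ := hex a ha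
    obtain ⟨m, hm, hm'⟩ := hex b hb
    refine ⟨mul_mem (mul_mem (mul_mem ha hb) (inv_mem ha)) (inv_mem hb), ?_⟩
    have h := hmul (mul_mem (mul_mem ha hb) (inv_mem ha))
      (hmul (mul_mem ha hb) (hmul ha hl hm) hl') hm'
    rwa [show l + m + -l + -m = 0 by ring, ← commutatorElement_def] at h
  | one => exact ⟨one_mem _, 0, polar_zero_right _ _, polar_zero_right _ _, by rw [S.el_zero hp]⟩
  | mul a b _ _ ha hb =>
    refine ⟨mul_mem ha.1 hb.1, ?_⟩
    have := hmul ha.1 ha.2 hb.2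
    rwa [add_zero] at this
  | inv a _ ha =>
    refine ⟨inv_mem ha.1, ?_⟩
    have := hinvR ha.1 ha.2
    rwa [neg_zero] at this

/-- not all orbits of all radicals are regular -/
theorem no_all_regular (hd : 9 ≤ Fintype.card ι) [Nonempty X]
    (huniq : ∀ (ω ω' : X) p, S.Q p = 0 → p ≠ 0 → ω' ∈ S.orb ω p)
    (hall : ∀ (ω : X) p, S.Q p = 0 → p ≠ 0 → S.Reg ω p) : False := by
  classical
  obtain ⟨ω⟩ := ‹Nonempty X›
  obtain ⟨p, -, hp0, hp⟩ := S.exists_sing (Fin.elim0 : Fin 0 → ι → F) (by omega)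
  obtain ⟨p', hpp', hp'⟩ := S.exists_partner hp hp0
  have hp'p : polar S.Q p' p = 1 := by rw [polar_comm, hpp']
  obtain ⟨r, hrx, hr0, hr⟩ := S.exists_sing ![p, p'] (by omega)
  have hpr : polar S.Q p r = 0 := hrx 0
  have hp'r : polar S.Q p' r = 0 := hrx 1
  have hrp : polar S.Q r p = 0 := by rw [polar_comm, hpr]
  obtain ⟨r', hrr', hr'⟩ := S.exists_partner hr hr0
  have hr'r : polar S.Q r' r = 1 := by rw [polar_comm, hrr']
  obtain ⟨u, hux, hu0, hu⟩ := S.exists_sing ![p, p', r, r'] (by omega)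
  have hpu : polar S.Q p u = 0 := hux 0
  have hp'u : polar S.Q p' u = 0 := hux 1
  have hru : polar S.Q r u = 0 := hux 2
  have hr'u : polar S.Q r' u = 0 := hux 3
  have hup : polar S.Q u p = 0 := by rw [polar_comm, hpu]
  have hur : polar S.Q u r = 0 := by rw [polar_comm, hru]
  obtain ⟨u', huu', hu'⟩ := S.exists_partner hu hu0
  have hu'u : polar S.Q u' u = 1 := by rw [polar_comm, huu']
  have hrnp : r ∉ Submodule.span F {p} := fun h => by
    obtain ⟨t, rfl⟩ := Submodule.mem_span_singleton.1 h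
    rw [polar_smul_right, hp'p, smul_eq_mul, mul_one] at hp'r
    exact hr0 (by rw [hp'r, zero_smul])
  have hupr : u ∉ Submodule.span F {p, r} := fun h => by
    obtain ⟨α, β, rfl⟩ := Submodule.mem_span_pair.1 h
    simp [polar_add_right, polar_smul_right, hp'p, hp'r] at hp'u
    subst hp'u
    simp [polar_smul_right, hr'r] at hr'u
    exact hu0 (by simp [hr'u])
  -- the element of the line radical fixing `ω`
  obtain ⟨c₀, hc₀, hcω⟩ : ∃ c, polar S.Q p c = 0 ∧ S.el p c • ω = S.el r u • ω := huniq ω _ p hp hp0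
  set c := -c₀ with hcdef
  have hpc : polar S.Q p c = 0 := by rw [hcdef, polar_neg_right, hc₀, neg_zero]
  have hk : S.el p c • S.el r u • ω = ω := by
    rw [← hcω, ← mul_smul, S.el_add hp hpc hc₀, hcdef, neg_add_cancel, S.el_zero hp, one_smul]
  have hru' : S.el r u • ω = S.el p (-c) • ω := by rw [hcdef, neg_neg, hcω]
  set U := Submodule.span F (Set.range ![p, r, u])
  -- equations from the derived group of the fixer
  have key : ∀ w, w ∈ S.orth U → S.Q w = 0 → w ∉ U → polar S.Q c u = 0 ∧ polar S.Q c w = 0 := by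
    intro w hwo hQw hwU
    have hpw : polar S.Q p w = 0 := S.mem_orth_span.1 hwo p ⟨0, rfl⟩
    have hrw : polar S.Q r w = 0 := S.mem_orth_span.1 hwo r ⟨1, rfl⟩
    have huw : polar S.Q u w = 0 := S.mem_orth_span.1 hwo u ⟨2, rfl⟩
    obtain ⟨z₀, hz₀, hz₀U⟩ : ∃ z ∈ S.orth (Submodule.span F (Set.range ![p, r, u, w])),
        z ∉ Submodule.span F (Set.range ![p, r, u, w]) := by
      by_contra hc
      push Not at hc
      have h1 := Submodule.finrank_mono hc
      have h2 := finrank_range_le_card (R := F) ![p, r, u, w]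
      rw [Set.finrank, Fintype.card_fin] at h2
      have h3 : Fintype.card ι - 4 ≤ _ := S.le_finrank_orth ![p, r, u, w]
      omega
    have hpz : polar S.Q p z₀ = 0 := S.mem_orth_span.1 hz₀ p ⟨0, rfl⟩
    have hrz : polar S.Q r z₀ = 0 := S.mem_orth_span.1 hz₀ r ⟨1, rfl⟩
    have huz : polar S.Q u z₀ = 0 := S.mem_orth_span.1 hz₀ u ⟨2, rfl⟩
    have hwz : polar S.Q w z₀ = 0 := S.mem_orth_span.1 hz₀ w ⟨3, rfl⟩
    obtain ⟨b, hb, hwb, -⟩ := POmega.exists_pair S.nondeg ![p, r, u] hQw
      (fun i => by fin_cases i <;> assumption) hwU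
    obtain ⟨x, hx, hzx⟩ := CfsgLib.Forms.exists_orth_pair_one (σ := RingHom.id F)
      Function.surjective_id S.Q.polarBilin S.nondeg.1 ![p, r, u, w] z₀ hz₀U
    have hpb : polar S.Q p b = 0 := hb 0
    have hrb : polar S.Q r b = 0 := hb 1
    have hub : polar S.Q u b = 0 := hb 2
    have hbw : polar S.Q b w = 1 := by rw [polar_comm, hwb]
    have hpx : polar S.Q p x = 0 := hx 0
    have hrx' : polar S.Q r x = 0 := hx 1
    have hux' : polar S.Q u x = 0 := hx 2
    have hwx : polar S.Q w x = 0 := hx 3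
    have hxz : polar S.Q x z₀ = 1 := by rw [polar_comm]; exact hzx
    have comm : ∀ {b : ι → F}, polar S.Q p b = 0 → polar S.Q r b = 0 → polar S.Q u b = 0 →
        polar S.Q b w = 1 →
        S.el u (z₀ + (-(polar S.Q b z₀) - S.Q z₀) • w) ∈ ⁅S.fix2 p r, S.fix2 p r⁆ := by
      intro b hpb hrb hub hbw
      have hh : S.ap (S.el w z₀) u = u := S.ap_el_of_perp hQw hwz huw huz
      have hb : S.ap (S.el w z₀) b = b + (z₀ + (-(polar S.Q b z₀) - S.Q z₀) • w) := by
        rw [S.ap_el hQw hwz, hbw]; simp; abel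
      have hub' : polar S.Q u (b + (z₀ + (-(polar S.Q b z₀) - S.Q z₀) • w)) = 0 := by
        simp [polar_add_right, polar_smul_right, hub, huz, huw]
      have e := Subgroup.commutator_mem_commutator
        (show S.el w z₀ ∈ S.fix2 p r from
          ⟨S.ap_el_of_perp hQw hwz hpw hpz, S.ap_el_of_perp hQw hwz hrw hrz⟩)
        (show S.el u b ∈ S.fix2 p r from
          ⟨S.ap_el_of_perp hu hub hpu hpb, S.ap_el_of_perp hu hub hru hrb⟩)
      rwa [commutatorElement_def, S.el_conj hu hub, hh, hb, S.el_inv hu hub,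
        S.el_add hu hub' (by rw [polar_neg_right, hub, neg_zero]), add_neg_cancel_comm] at e
    have hmem : S.el u w ∈ ⁅S.fix2 p r, S.fix2 p r⁆ := by
      have e1 := comm hpb hrb hub hbw
      have e2 := comm (b := b + x) (by rw [polar_add_right, hpb, hpx, add_zero])
        (by rw [polar_add_right, hrb, hrx', add_zero]) (by rw [polar_add_right, hub, hux', add_zero])
        (by rw [polar_add_left, hbw, polar_comm (f := ⇑S.Q) x w, hwx, add_zero])
      rw [polar_add_left, hxz] at e2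
      have hu1 : polar S.Q u (z₀ + (-(polar S.Q b z₀ + 1) - S.Q z₀) • w) = 0 := by
        simp [polar_add_right, polar_smul_right, huz, huw]
      have hu2 : polar S.Q u (z₀ + (-(polar S.Q b z₀) - S.Q z₀) • w) = 0 := by
        simp [polar_add_right, polar_smul_right, huz, huw]
      have e3 := mul_mem e1 (inv_mem e2)
      rwa [S.el_inv hu hu1, S.el_add hu hu2 (by rw [polar_neg_right, hu1, neg_zero]),
        show z₀ + (-(polar S.Q b z₀) - S.Q z₀) • w + -(z₀ + (-(polar S.Q b z₀ + 1) - S.Q z₀) • w) = w by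
          module] at e3
    obtain ⟨e, hpe, hre, hge⟩ := S.commutator_shift (ω := ω) hp (fun g _ => huniq ω _ p hp hp0) hmem
    set g := S.el u w
    have hgp : S.ap g p = p := S.ap_el_of_perp hu huw hpu hpw
    have hgr : S.ap g r = r := S.ap_el_of_perp hu huw hru hrw
    have hgu : S.ap g u = u := S.ap_el_of_perp hu huw (S.polar_self_zero hu) huw
    set h := S.el r u
    have hhp : S.ap h p = p := S.ap_el_of_perp hr hru hpr hpu
    have e1 : g * S.el p c = S.el p (S.ap g c) * g := by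
      have e0 := S.el_conj hp hpc g
      rw [hgp] at e0
      rw [← e0, inv_mul_cancel_right]
    have e2 : g * h = h * g := by
      have e0 := S.el_conj hr hru g
      rw [hgr, hgu] at e0
      exact mul_inv_eq_iff_eq_mul.1 e0
    have e3 : h * S.el p e = S.el p (S.ap h e) * h := by
      have e0 := S.el_conj hp hpe h
      rw [hhp] at e0
      rw [← e0, inv_mul_cancel_right]
    have hgc : polar S.Q p (S.ap g c) = 0 := by rw [← hgp, S.polar_ap, hpc]
    have hhe : polar S.Q p (S.ap h e) = 0 := by rw [← hhp, S.polar_ap, hpe]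
    have hnc : polar S.Q p (-c) = 0 := by rw [polar_neg_right, hpc, neg_zero]
    have h1 : S.el p (S.ap g c) • S.el p (S.ap h e) • S.el p (-c) • ω = S.el p e • ω := by
      conv_rhs => rw [← hge, ← hk, ← mul_smul, e1, mul_smul, ← mul_smul g h, e2, mul_smul, hge,
        ← mul_smul h, e3, mul_smul, hru']
    have hne : polar S.Q p (-e) = 0 := by rw [polar_neg_right, hpe, neg_zero]
    have hx1 : polar S.Q p (S.ap g c + S.ap h e + -c) = 0 := by
      simp [polar_add_right, hgc, hhe, hnc]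
    rw [← mul_smul (S.el p (S.ap g c)), S.el_add hp hgc hhe, ← mul_smul,
      S.el_add hp (by rw [polar_add_right, hgc, hhe, add_zero]) hnc] at h1
    have h2 : S.el p (-e + (S.ap g c + S.ap h e + -c)) • ω = ω := by
      rw [← S.el_add hp hne hx1, mul_smul, h1, ← mul_smul, S.el_add hp hne hpe, neg_add_cancel,
        S.el_zero hp, one_smul]
    obtain ⟨t, ht⟩ := Submodule.mem_span_singleton.1
      (hall ω p hp hp0 _ (by rw [polar_add_right, hne, hx1, add_zero]) h2)
    rw [S.ap_el hu huw, S.ap_el hr hru, hQw, hu, polar_comm (f := ⇑S.Q) e r, hre] at ht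
    have h3 : t • p = polar S.Q c u • w + (-polar S.Q c w) • u + (-polar S.Q e u) • r := by
      linear_combination (norm := module) ht
    have hcu : polar S.Q c u = 0 := by
      by_contra hne
      apply hwU
      refine (U.smul_mem_iff hne).1 ?_
      rw [show polar S.Q c u • w = t • p + polar S.Q c w • u + polar S.Q e u • r by
        linear_combination (norm := module) -h3]
      exact add_mem (add_mem (U.smul_mem _ (Submodule.subset_span ⟨0, rfl⟩))
        (U.smul_mem _ (Submodule.subset_span ⟨2, rfl⟩))) (U.smul_mem _ (Submodule.subset_span ⟨1, rfl⟩))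
    refine ⟨hcu, ?_⟩
    by_contra hne
    apply hupr
    refine ((Submodule.span F {p, r}).smul_mem_iff hne).1 (Submodule.mem_span_pair.2 ⟨-t, -polar S.Q e u, ?_⟩)
    rw [hcu] at h3
    linear_combination (norm := module) -h3
  -- hence `c` lies in the plane
  obtain ⟨w, hwx, hw0, hQw⟩ := S.exists_sing ![p, p', r, r', u, u'] (by omega)
  have hwo : w ∈ S.orth U := S.mem_orth_span.2 (by
    rintro _ ⟨i, rfl⟩
    fin_cases i
    exacts [hwx 0, hwx 2, hwx 4])
  have hwU : w ∉ U := by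
    simp only [U, Matrix.range_cons, Matrix.range_empty, Set.union_empty, Set.singleton_union,
      Submodule.mem_span_insert, Submodule.mem_span_singleton]
    rintro ⟨α, z, ⟨β, z', ⟨γ, rfl⟩, rfl⟩, rfl⟩
    have hα : α = 0 := by
      have := hwx 1
      simpa [polar_add_right, polar_smul_right, hp'p, hp'r, hp'u] using this
    subst hα
    have hβ : β = 0 := by
      have := hwx 3
      simpa [polar_add_right, polar_smul_right, hr'r, hr'u] using this
    subst hβ
    have hγ : γ = 0 := by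
      have := hwx 5
      simpa [polar_smul_right, hu'u] using this
    exact hw0 (by simp [hγ])
  obtain ⟨b, hb, hwb, -⟩ := POmega.exists_pair S.nondeg ![p, r, u] hQw
    (fun i => S.mem_orth_span.1 hwo _ ⟨i, rfl⟩) hwU
  have hcU : c ∈ U := by
    rw [← S.orth_orth U]
    have hle : S.orth U ≤ S.pp c := S.le_of_sing hwo hQw
      (S.mem_orth_span.2 (by rintro _ ⟨i, rfl⟩; exact hb i)) (by rw [hwb]; exact one_ne_zero)
      fun z hz hQz => by
        refine S.mem_pp.2 ?_
        by_cases hzU : z ∈ U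
        · have hzw : polar S.Q z w = 0 := S.mem_orth.1 hwo z hzU
          have h1 := (key (z + w) (add_mem hz hwo)
            (by rw [QuadraticMap.map_add ⇑S.Q, hQz, hQw, hzw]; simp)
            (fun h => hwU ((U.add_mem_iff_right hzU).1 h))).2
          rw [polar_add_right, (key w hwo hQw hwU).2, add_zero] at h1
          exact h1
        · exact (key z hz hQz hzU).2
    refine S.mem_orth.2 fun z hz => ?_
    rw [polar_comm]
    exact S.mem_pp.1 (hle hz)
  simp only [U, Matrix.range_cons, Matrix.range_empty, Set.union_empty, Set.singleton_union,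
    Submodule.mem_span_insert, Submodule.mem_span_singleton] at hcU
  obtain ⟨α, z, ⟨β, z', ⟨γ, rfl⟩, rfl⟩, hc⟩ := hcU
  set v := γ • p + r
  have hQv : S.Q v = 0 := by
    simp [v, QuadraticMap.map_add ⇑S.Q, QuadraticMap.map_smul, polar_smul_left, hp, hr, hpr]
  have hv0 : v ≠ 0 := fun h => hrnp (Submodule.mem_span_singleton.2 ⟨-γ, by
    linear_combination (norm := module) -h⟩)
  have hva : polar S.Q v u = 0 := by simp [v, polar_add_left, polar_smul_left, hpu, hru]
  have hvp : polar S.Q v p = 0 := by simp [v, polar_add_left, polar_smul_left, S.polar_self_zero hp, hrp]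
  have q1 : polar S.Q p (α • p) = 0 := by rw [polar_smul_right, S.polar_self_zero hp, smul_zero]
  have q2 : polar S.Q p (β • r) = 0 := by rw [polar_smul_right, hpr, smul_zero]
  have q3 : polar S.Q p (γ • u) = 0 := by rw [polar_smul_right, hpu, smul_zero]
  have w1 : polar S.Q u (-(γ • p)) = 0 := by rw [polar_neg_right, polar_smul_right, hup, smul_zero, neg_zero]
  have w2 : polar S.Q u (-r) = 0 := by rw [polar_neg_right, hur, neg_zero]
  have hpf : S.el p c * S.el r u = S.el v (u + (-β) • p) := by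
    have s1 : S.el p (γ • u) = S.el u (-(γ • p)) := by
      rw [← S.el_smul_left hp hpu, S.el_swap (u := u) (a := γ • p) hu
        (by rw [QuadraticMap.map_smul, hp, smul_zero]) (by rw [polar_smul_right, hup, smul_zero])]
    have s2 : S.el r u = S.el u (-r) := S.el_swap hu hr hur
    have s3 : S.el v u = S.el u (-v) := S.el_swap hu hQv (by rw [polar_comm, hva])
    have s4 : S.el v ((-β) • p) = S.el p (β • r) := by
      rw [← S.el_smul_left hQv hvp, S.el_swap (u := p) (a := (-β) • v) hp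
        (by rw [QuadraticMap.map_smul, hQv, smul_zero])
        (by rw [polar_smul_right, polar_comm, hvp, smul_zero]),
        show -((-β) • v) = (β * γ) • p + β • r by simp only [v]; module,
        ← S.el_add hp (by rw [polar_smul_right, S.polar_self_zero hp, smul_zero]) q2,
        S.el_smul_self hp, one_mul]
    rw [hc, ← S.el_add hp q1 (by rw [polar_add_right, q2, q3, add_zero]), S.el_smul_self hp, one_mul,
      ← S.el_add hp q2 q3, mul_assoc, s1, s2, S.el_add hu w1 w2,
      show -(γ • p) + -r = -v by simp only [v]; abel, ← s3, ← s4,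
      S.el_add hQv (by rw [polar_smul_right, hvp, smul_zero]) hva, add_comm]
  have h5 : S.el v (u + (-β) • p) • ω = ω := by rw [← hpf, mul_smul, hk]
  obtain ⟨t, ht⟩ := Submodule.mem_span_singleton.1
    (hall ω v hQv hv0 _ (by rw [polar_add_right, hva, polar_smul_right, hvp, smul_zero, add_zero]) h5)
  exact hupr (Submodule.mem_span_pair.2 ⟨t * γ + β, t, by
    simp only [v] at ht
    linear_combination (norm := module) ht⟩)

/-- totally singular duals next to regular orbits give an equivariant singular subspace -/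
theorem le_card_of_ts [Fintype X] {N w : ℕ} (hB : S.Bounds N w)
    (hnf : ∀ (ω : X) p, S.Q p = 0 → p ≠ 0 → ¬ S.Fixed ω p)
    (hts : ∀ (ω : X) p, S.Q p = 0 → p ≠ 0 → ¬ S.Reg ω p →
      S.TS (S.lsp ω p) ∧ 2 * Module.finrank F (S.lsp ω p) < Fintype.card ι)
    {ω : X} {p₁ : ι → F} (hp₁ : S.Q p₁ = 0) (hp₁0 : p₁ ≠ 0) (h₁ : ¬ S.Reg ω p₁) : N ≤ Fintype.card X := by
  classical
  -- non-regular points orthogonal to the dual, and conversely
  have F1 : ∀ {p z : ι → F}, S.Q p = 0 → p ≠ 0 → ¬ S.Reg ω p → S.Q z = 0 → z ≠ 0 →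
      z ∈ S.orth (S.lsp ω p) → ¬ S.Reg ω z := by
    intro p z hp hp0 hnr hz hz0 hzo
    by_cases hzp : z ∈ Submodule.span F {p}
    · obtain ⟨t, rfl⟩ := Submodule.mem_span_singleton.1 hzp
      exact S.not_reg_smul hp (by rintro rfl; simp at hz0) hnr
    have hpz : polar S.Q p z = 0 := S.mem_orth.1 hzo p (S.self_mem_lsp ω p)
    refine S.not_reg_of_mem_stab (v := p) hz ?_ fun hc => ?_
    · refine (S.mem_stab hz).2 ⟨by rw [polar_comm, hpz], ?_⟩
      rw [S.el_swap (u := p) (a := z) hp hz hpz]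
      exact (S.orth_lsp_le ω p ((S.orth _).neg_mem hzo)).2 hp
    · obtain ⟨t, rfl⟩ := Submodule.mem_span_singleton.1 hc
      refine hzp (Submodule.mem_span_singleton.2 ⟨t⁻¹, ?_⟩)
      rw [smul_smul, inv_mul_cancel₀ (by rintro rfl; simp at hp0), one_smul]
  have F2 : ∀ {p z : ι → F}, S.Q p = 0 → p ≠ 0 → ¬ S.Reg ω p → S.Q z = 0 → z ≠ 0 → ¬ S.Reg ω z →
      polar S.Q p z = 0 → z ∈ S.orth (S.lsp ω p) := by
    intro p z hp hp0 hnr hz hz0 hnz hpz
    by_contra hc
    have := (S.pair_bound hp hp0 hz hpz hc).2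
    have := (hts ω p hp hp0 hnr).2
    have := (hts ω z hz hz0 hnz).2
    omega
  -- a point whose dual has least dimension
  have hex : ∃ e, ∃ p, S.Q p = 0 ∧ p ≠ 0 ∧ ¬ S.Reg ω p ∧ Module.finrank F (S.lsp ω p) = e :=
    ⟨_, p₁, hp₁, hp₁0, h₁, rfl⟩
  obtain ⟨p, hp, hp0, hnr, he⟩ := Nat.find_spec hex
  have hmin : ∀ {r}, S.Q r = 0 → r ≠ 0 → ¬ S.Reg ω r →
      Module.finrank F (S.lsp ω p) ≤ Module.finrank F (S.lsp ω r) := fun hr hr0 hnr' => by
    rw [he]; exact Nat.find_min' hex ⟨_, hr, hr0, hnr', rfl⟩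
  obtain ⟨htsL, hdim⟩ := hts ω p hp hp0 hnr
  set L := S.lsp ω p with hLdef
  have hLo : L ≤ S.orth L := fun v hv => S.mem_orth.2 fun z hz => htsL.polar_eq hz hv
  have hLnr : ∀ r ∈ L, r ≠ 0 → ¬ S.Reg ω r := fun r hr hr0 => F1 hp hp0 hnr (htsL r hr) hr0 (hLo hr)
  have hLeq : ∀ r ∈ L, r ≠ 0 → S.lsp ω r = L := by
    intro r hr hr0
    have hQr := htsL r hr
    have hnr' := hLnr r hr hr0
    obtain ⟨htsR, -⟩ := hts ω r hQr hr0 hnr'
    have hsing : ∀ z ∈ S.orth L, S.Q z = 0 → z ∈ S.orth (S.lsp ω r) := fun z hz hQz => by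
      by_cases hz0 : z = 0
      · rw [hz0]; exact zero_mem _
      exact F2 hQr hr0 hnr' hQz hz0 (F1 hp hp0 hnr hQz hz0 hz) (S.mem_orth.1 hz r hr)
    refine Submodule.eq_of_le_of_finrank_le ?_ (hmin hQr hr0 hnr')
    by_cases hout : ∃ z ∈ S.orth L, S.Q z = 0 ∧ z ∉ L
    · obtain ⟨z, hz, hQz, hzL⟩ := hout
      let B := Module.finBasis F L
      have hBspan : Submodule.span F (Set.range fun i => (B i : ι → F)) = L := by
        rw [show (fun i => (B i : ι → F)) = L.subtype ∘ B from rfl, Set.range_comp, Submodule.span_image,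
          B.span_eq, Submodule.map_top, Submodule.range_subtype]
      obtain ⟨v, hv, hzv, -⟩ := POmega.exists_pair S.nondeg (fun i => (B i : ι → F)) hQz
        (fun i => S.mem_orth.1 hz _ (B i).2) (by rwa [hBspan])
      have hle : S.orth L ≤ S.orth (S.lsp ω r) := S.le_of_sing hz hQz
        (by rw [← hBspan]; exact S.mem_orth_span.2 (by rintro _ ⟨i, rfl⟩; exact hv i))
        (by rw [hzv]; exact one_ne_zero) hsing
      rw [← S.orth_orth (S.lsp ω r), ← S.orth_orth L]
      exact fun x hx => S.mem_orth.2 fun y hy => S.mem_orth.1 hx y (hle hy)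
    · push Not at hout
      intro x hx
      refine hout x (S.mem_orth.2 fun y hy => ?_) (htsR x hx)
      rw [polar_comm]
      exact S.mem_orth.1 (hsing y (hLo hy) (htsL y hy)) x hx
  -- it is orthogonal to all non-regular points
  have hperp : ∀ z, S.Q z = 0 → z ≠ 0 → ¬ S.Reg ω z → polar S.Q p z = 0 := by
    intro z hz hz0 hnz
    by_contra hne
    obtain ⟨l, hl, hlp⟩ : ∃ l ∈ L, l ∉ Submodule.span F {p} := by
      by_contra hc
      push Not at hc
      exact S.lsp_ne_span hp (hnf ω p hp hp0)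
        (le_antisymm hc ((Submodule.span_singleton_le_iff_mem _ _).2 (S.self_mem_lsp ω p)))
    set r := l + (-(polar S.Q l z / polar S.Q p z)) • p
    have hr : r ∈ L := add_mem hl (L.smul_mem _ (S.self_mem_lsp ω p))
    have hr0 : r ≠ 0 := fun h => hlp (Submodule.mem_span_singleton.2 ⟨polar S.Q l z / polar S.Q p z, by
      simp only [r] at h
      linear_combination (norm := module) -h⟩)
    have hrz : polar S.Q r z = 0 := by
      simp only [r, polar_add_left, polar_smul_left, smul_eq_mul]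
      field_simp
      ring
    have h1 := F2 (htsL r hr) hr0 (hLnr r hr hr0) hz hz0 hnz hrz
    rw [hLeq r hr hr0] at h1
    exact hne (S.mem_orth.1 h1 p (S.self_mem_lsp ω p))
  -- the equivariant assignment
  refine S.le_card_of_assign hB
    (fun x => {r | S.Q r = 0 ∧ r ≠ 0 ∧ ¬ S.Reg x r ∧ ∀ z, S.Q z = 0 → z ≠ 0 → ¬ S.Reg x z → polar S.Q r z = 0})
    (fun _ _ h => h.1) (fun _ r hr r' hr' => hr.2.2.2 r' hr'.1 hr'.2.1 hr'.2.2.1) ?_ hp0
    ⟨hp, hp0, hnr, hperp⟩
  intro g x r hr
  have hback : ∀ {z}, S.Q z = 0 → S.Reg (g • x) (S.ap g z) → S.Reg x z := fun {z} hz h => by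
    have := S.reg_ap g⁻¹ (by rw [S.Q_ap, hz]) h
    rwa [inv_smul_smul, S.ap_inv_ap] at this
  refine ⟨by rw [S.Q_ap, hr.1], fun h => hr.2.1 (S.ap_injective g (by rw [h, map_zero])),
    fun h => hr.2.2.1 (hback hr.1 h), fun z hz hz0 hnz => ?_⟩
  rw [← S.ap_ap_inv g z, S.polar_ap]
  refine hr.2.2.2 _ (by rw [S.Q_ap, hz]) (fun h => hz0 ?_) fun h => hnz ?_
  · rw [← S.ap_ap_inv g z, h, map_zero]
  · have := S.reg_ap g (by rw [S.Q_ap, hz]) h
    rwa [S.ap_ap_inv] at this

/-- The degree of a non-trivial action over a prime field. -/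
theorem le_card_prime [Fintype X] [Nonempty X] {N w : ℕ} (hB : S.Bounds N w)
    (hfree : ∀ ω : X, ∃ g : S.G, g • ω ≠ ω) (hq : (Fintype.card F).Prime)
    (hsmall : Fintype.card X < N → ∀ (ω : X) p, S.Q p = 0 → p ≠ 0 → ¬ S.Reg ω p →
      S.TS (S.lsp ω p) ∨ 2 * Module.finrank F (S.lsp ω p) < Fintype.card ι)
    (hexcl : Fintype.card X < N → ∀ (ω₀ ω : X) p, S.Q p = 0 → p ≠ 0 → S.Reg ω₀ p → ¬ S.Reg ω p →
      S.TS (S.lsp ω p))
    (hone : 2 * w = Fintype.card ι →
      N * ((Fintype.card F ^ w - Fintype.card F) * (Fintype.card F ^ w - Fintype.card F ^ 2)) ≤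
        Fintype.card F ^ (w - 1) * ((S.y0 - Fintype.card F) * (S.y2 - Fintype.card F ^ 2)))
    (hall : Fintype.card X < N → (∀ (ω ω' : X) p, S.Q p = 0 → p ≠ 0 → ω' ∈ S.orb ω p) →
      (∀ (ω : X) p, S.Q p = 0 → p ≠ 0 → S.Reg ω p) → False) :
    N ≤ Fintype.card X := by
  classical
  by_contra hlt
  push Not at hlt
  have hn := S.seven
  set q := Fintype.card F
  have hq2 : 2 ≤ q := hq.two_le
  have hnf : ∀ (ω : X) p, S.Q p = 0 → p ≠ 0 → ¬ S.Fixed ω p := fun ω p hp hp0 hf =>
    absurd (S.le_card_of_fixed hB hfree hp hp0 hf) (not_le.2 hlt)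
  have hP : ∀ {k : ℕ}, 3 ≤ k → 0 < (q ^ k - q) * (q ^ k - q ^ 2) := fun {k} hk => by
    have e1 : q ^ 1 < q ^ k := Nat.pow_lt_pow_right hq2 (by omega)
    have e2 : q ^ 2 < q ^ k := Nat.pow_lt_pow_right hq2 (by omega)
    rw [pow_one] at e1
    exact Nat.mul_pos (by omega) (by omega)
  have hlagc : ∀ (ω : X) p, S.Q p = 0 → p ≠ 0 → ¬ S.Reg ω p → S.TS (S.lsp ω p) →
      Fintype.card ι ≤ 2 * Module.finrank F (S.lsp ω p) →
      2 * w = Fintype.card ι ∧ q ^ (w - 1) * ((S.y0 - q) * (S.y2 - q ^ 2)) ≤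
        S.nonReg X p * ((q ^ w - q) * (q ^ w - q ^ 2)) := by
    intro ω p hp hp0 hnr hts hbig
    have h1 := hB.witt _ hts
    have h2 := hB.half
    exact ⟨by omega, S.lag_le_nonReg hq hp hp0 hnr hts (by omega) (by omega)⟩
  have hnle : ∀ p, S.nonReg X p ≤ Fintype.card X := fun p => by
    rw [nonReg, ← Nat.card_eq_fintype_card]
    exact Nat.card_le_card_of_injective _ Subtype.val_injective
  by_cases hreg : ∃ (ω : X) (p : ι → F), S.Q p = 0 ∧ p ≠ 0 ∧ S.Reg ω p
  · obtain ⟨ω₀, p₀, hp₀, hp₀0, hr₀⟩ := hreg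
    have hex : ∀ p, S.Q p = 0 → p ≠ 0 → ∃ ω, S.Reg ω p := fun p hp hp0 => by
      obtain ⟨g, rfl⟩ := S.exists_ap_eq hp₀0 hp0 (by rw [hp₀, hp])
      exact ⟨g • ω₀, S.reg_ap g hp₀ hr₀⟩
    have hts : ∀ (ω : X) p, S.Q p = 0 → p ≠ 0 → ¬ S.Reg ω p →
        S.TS (S.lsp ω p) ∧ 2 * Module.finrank F (S.lsp ω p) < Fintype.card ι := by
      intro ω p hp hp0 hnr
      obtain ⟨ω', hr'⟩ := hex p hp hp0
      have hts := hexcl hlt ω' ω p hp hp0 hr' hnr
      refine ⟨hts, ?_⟩
      by_contra hbig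
      push Not at hbig
      obtain ⟨h2w, hcount⟩ := hlagc ω p hp hp0 hnr hts hbig
      have h2 : N * ((q ^ w - q) * (q ^ w - q ^ 2)) ≤
          2 * S.nonReg X p * ((q ^ w - q) * (q ^ w - q ^ 2)) :=
        (hB.lag h2w).trans (by rw [mul_assoc, mul_assoc 2]; exact Nat.mul_le_mul_left 2 hcount)
      have h3 := Nat.le_of_mul_le_mul_right h2 (hP (k := w) (by omega))
      have h4 := S.nonReg_add_le hp hp0 hr'
      have h5 := hB.reg
      omega
    by_cases hsome : ∃ (ω : X) (p : ι → F), S.Q p = 0 ∧ p ≠ 0 ∧ ¬ S.Reg ω p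
    · obtain ⟨ω, p, hp, hp0, hnr⟩ := hsome
      exact absurd (S.le_card_of_ts hB hnf hts hp hp0 hnr) (not_le.2 hlt)
    · push Not at hsome
      refine hall hlt (fun ω ω' p hp hp0 => ?_) hsome
      by_contra hne
      have hne' : S.orb ω p ≠ S.orb ω' p := fun e => hne (e ▸ S.self_mem_orb ω' hp)
      have h1 := S.card_orb_add hp hne'
      rw [S.orb_card_reg hp hp0 (hsome ω p hp hp0), S.orb_card_reg hp hp0 (hsome ω' p hp hp0)] at h1
      have h5 := hB.reg
      omega
  · push Not at hreg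
    obtain ⟨p, -, hp0, hp⟩ := S.exists_sing (Fin.elim0 : Fin 0 → ι → F) (by omega)
    obtain ⟨ω⟩ := ‹Nonempty X›
    have hnr : ∀ (ω : X) p, S.Q p = 0 → p ≠ 0 → ¬ S.Reg ω p := fun ω p hp hp0 h => hreg ω p hp hp0 h
    obtain ⟨r, hr, hpr, hrl⟩ := S.sing_notMem_exists hp hp0 (P := S.orth (S.lsp ω p)) (by
      intro hle
      apply S.lsp_ne_span hp (hnf ω p hp hp0)
      refine le_antisymm ?_ ((Submodule.span_singleton_le_iff_mem _ _).2 (S.self_mem_lsp ω p))
      rw [← S.orth_orth (S.lsp ω p), ← S.orth_orth (Submodule.span F {p})]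
      exact fun v hv => S.mem_orth.2 fun z hz => S.mem_orth.1 hv z (hle hz))
    have hr0 : r ≠ 0 := by rintro rfl; exact hrl (zero_mem _)
    obtain ⟨-, hsum⟩ := S.pair_bound hp hp0 hr hpr hrl
    have h2 := hB.half
    have hb : ∀ (ω : X) p, S.Q p = 0 → p ≠ 0 → 2 * Module.finrank F (S.lsp ω p) < Fintype.card ι ∨
        S.TS (S.lsp ω p) ∧ Fintype.card ι ≤ 2 * Module.finrank F (S.lsp ω p) ∧
          2 * Module.finrank F (S.lsp ω p) ≤ Fintype.card ι := fun ω p hp hp0 => by
      rcases lt_or_ge (2 * Module.finrank F (S.lsp ω p)) (Fintype.card ι) with h | h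
      · exact Or.inl h
      · have hts := (hsmall hlt ω p hp hp0 (hnr ω p hp hp0)).resolve_right (not_lt.2 h)
        exact Or.inr ⟨hts, h, by have := hB.witt _ hts; omega⟩
    have hbp := hb ω p hp hp0
    have hbr := hb ω r hr hr0
    rcases hbp with h | ⟨hts, hbig, -⟩
    · rcases hbr with h' | ⟨-, -, h'⟩ <;> omega
    obtain ⟨h2w, hcount⟩ := hlagc ω p hp hp0 (hnr ω p hp hp0) hts hbig
    have := Nat.le_of_mul_le_mul_right ((hone h2w).trans hcount) (hP (k := w) (by omega))
    have := hnle p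
    omega

end Space

end CfsgLib.MinIndexOrth
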