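import Cfsg.Agent.Lib.POmega.Simple
import Cfsg.Agent.Lib.AutPOmega.Eich

/-!
Orthogonal spaces of dimension at least seven for the minimal index argument: orthogonal complements,
singular vectors with prescribed pairings, and transitivity of Eichler transformations on singular points.
-/

set_option autoImplicit false
set_option linter.unusedSectionVars false

namespace CfsgLib.MinIndexOrth

open Matrix QuadraticMap CfsgLib.Orth

/-- A non-degenerate quadratic space of dimension at least seven. -/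
structure Space (ι : Type) [Fintype ι] [DecidableEq ι] (F : Type*) [Field F] [Fintype F] where
  Q : QuadraticForm F (ι → F)
  nondeg : Q.polarBilin.Nondegenerate
  seven : 7 ≤ Fintype.card ι

variable {ι : Type} [Fintype ι] [DecidableEq ι] {F : Type*} [Field F] [Fintype F]

namespace Space

variable (S : Space ι F)

/-- the group `Ω` -/
abbrev G : Subgroup (O S.Q) := commutator (O S.Q)

/-- Eichler transformation as an element of `Ω` (`1` outside its domain) -/
noncomputable def el (u a : ι → F) : S.G :=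
  ⟨eich S.Q u a, by
    by_cases h : S.Q u = 0 ∧ polar S.Q u a = 0
    · exact POmega.eich_mem_commutator S.nondeg (by have := S.seven; omega) h.1 h.2
    · rw [eich, dif_neg h]; exact one_mem _⟩

/-- the linear action -/
def ap (g : S.G) : (ι → F) →ₗ[F] (ι → F) := app g.1

@[simp] theorem coe_el (u a : ι → F) : (S.el u a).1 = eich S.Q u a := rfl

@[simp] theorem ap_one (x : ι → F) : S.ap 1 x = x := app_one x

@[simp] theorem ap_mul (g h : S.G) (x : ι → F) : S.ap (g * h) x = S.ap g (S.ap h x) := app_mul _ _ x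

theorem ap_inv_ap (g : S.G) (x : ι → F) : S.ap g⁻¹ (S.ap g x) = x := app_inv_app g.1 x

theorem ap_ap_inv (g : S.G) (x : ι → F) : S.ap g (S.ap g⁻¹ x) = x := app_app_inv g.1 x

theorem ap_injective (g : S.G) : Function.Injective (S.ap g) := app_injective g.1

@[simp] theorem Q_ap (g : S.G) (x : ι → F) : S.Q (S.ap g x) = S.Q x := Q_app g.1 x

@[simp] theorem polar_ap (g : S.G) (x y : ι → F) :
    polar S.Q (S.ap g x) (S.ap g y) = polar S.Q x y := polar_app g.1 x y

theorem ext_ap {g h : S.G} (H : ∀ x, S.ap g x = S.ap h x) : g = h := Subtype.ext (ext_app H)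

theorem ap_el {u a : ι → F} (hu : S.Q u = 0) (ha : polar S.Q u a = 0) (x : ι → F) :
    S.ap (S.el u a) x =
      x + polar S.Q x u • a + (-(polar S.Q x a) - S.Q a * polar S.Q x u) • u :=
  app_eich hu ha x

theorem el_add {u a b : ι → F} (hu : S.Q u = 0) (ha : polar S.Q u a = 0) (hb : polar S.Q u b = 0) :
    S.el u a * S.el u b = S.el u (a + b) := Subtype.ext (eich_add hu ha hb)

theorem el_smul_self {u : ι → F} (hu : S.Q u = 0) (t : F) : S.el u (t • u) = 1 :=
  Subtype.ext (eich_smul_self hu t)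

theorem el_zero {u : ι → F} (hu : S.Q u = 0) : S.el u 0 = 1 := Subtype.ext (POmega.eich_zero_right hu)

theorem el_inv {u a : ι → F} (hu : S.Q u = 0) (ha : polar S.Q u a = 0) :
    (S.el u a)⁻¹ = S.el u (-a) := Subtype.ext (POmega.eich_neg_inv hu ha)

theorem el_smul_left {u a : ι → F} (hu : S.Q u = 0) (ha : polar S.Q u a = 0) (t : F) :
    S.el (t • u) a = S.el u (t • a) := Subtype.ext (POmega.eich_smul hu ha t)

theorem el_conj {u a : ι → F} (hu : S.Q u = 0) (ha : polar S.Q u a = 0) (g : S.G) :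
    g * S.el u a * g⁻¹ = S.el (S.ap g u) (S.ap g a) := Subtype.ext (eich_conj hu ha g.1)

theorem el_swap {u a : ι → F} (hu : S.Q u = 0) (ha : S.Q a = 0) (hua : polar S.Q u a = 0) :
    S.el a u = S.el u (-a) := by
  have hau : polar S.Q a u = 0 := by rw [polar_comm, hua]
  refine S.ext_ap fun x => ?_
  rw [S.ap_el ha hau, S.ap_el hu (by rw [polar_neg_right, hua, neg_zero]), hu, QuadraticMap.map_neg, ha,
    polar_neg_right]
  module

theorem el_pow {u a : ι → F} (hu : S.Q u = 0) (ha : polar S.Q u a = 0) (k : ℕ) :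
    S.el u a ^ k = S.el u ((k : F) • a) := by
  apply Subtype.ext
  rw [SubmonoidClass.coe_pow]
  exact AutPOmega.app_pow_one hu ha k

theorem ap_el_of_perp {u a x : ι → F} (hu : S.Q u = 0) (ha : polar S.Q u a = 0)
    (h1 : polar S.Q x u = 0) (h2 : polar S.Q x a = 0) : S.ap (S.el u a) x = x := by
  rw [S.ap_el hu ha, h1, h2]; simp

theorem polar_self_zero {u : ι → F} (hu : S.Q u = 0) : polar S.Q u u = 0 := by
  rw [polar_self', hu, mul_zero]

/-- the Eichler transformation carrying `v` to `w` -/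
theorem ap_el_move {v w s : ι → F} (hs : S.Q s = 0) (hv : polar S.Q v s = 1) (hw : polar S.Q w s = 1)
    (hvw : S.Q v = S.Q w) : S.ap (S.el s (w - v)) v = w := by
  have ha : polar S.Q s (w - v) = 0 := by
    rw [polar_sub_right, polar_comm, hw, polar_comm, hv, sub_self]
  rw [S.ap_el hs ha, hv, one_smul, polar_sub_right, polar_self', sub_eq_add_neg w v,
    QuadraticMap.map_add ⇑S.Q, QuadraticMap.map_neg, polar_neg_right, polar_comm (f := ⇑S.Q) w v, hvw]
  module

/-! ### Orthogonal complements -/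

/-- the orthogonal complement -/
noncomputable def orth (W : Submodule F (ι → F)) : Submodule F (ι → F) :=
  LinearMap.BilinForm.orthogonal S.Q.polarBilin W

theorem mem_orth {W : Submodule F (ι → F)} {v : ι → F} :
    v ∈ S.orth W ↔ ∀ w ∈ W, polar S.Q w v = 0 := LinearMap.BilinForm.mem_orthogonal_iff

theorem mem_orth_span {s : Set (ι → F)} {v : ι → F} :
    v ∈ S.orth (Submodule.span F s) ↔ ∀ w ∈ s, polar S.Q w v = 0 := by
  rw [S.mem_orth]
  refine ⟨fun h w hw => h w (Submodule.subset_span hw), fun h w hw => ?_⟩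
  have : Submodule.span F s ≤ LinearMap.ker (S.Q.polarBilin v) := by
    refine Submodule.span_le.2 fun x hx => ?_
    show polar S.Q v x = 0
    rw [polar_comm]; exact h x hx
  have h2 : polar S.Q v w = 0 := this hw
  rw [polar_comm]; exact h2

theorem finrank_orth (W : Submodule F (ι → F)) :
    Module.finrank F (S.orth W) = Fintype.card ι - Module.finrank F W := by
  rw [orth, LinearMap.BilinForm.finrank_orthogonal S.nondeg, Module.finrank_fintype_fun_eq_card]

theorem orth_orth (W : Submodule F (ι → F)) : S.orth (S.orth W) = W :=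
  LinearMap.BilinForm.orthogonal_orthogonal S.nondeg (fun x y h => by
    show polar S.Q y x = 0
    rw [polar_comm]; exact h) W

theorem finrank_le_n (W : Submodule F (ι → F)) : Module.finrank F W ≤ Fintype.card ι := by
  simpa using Submodule.finrank_le W

theorem le_finrank_orth {k : ℕ} (x : Fin k → ι → F) :
    Fintype.card ι - k ≤ Module.finrank F (S.orth (Submodule.span F (Set.range x))) := by
  have h2 := finrank_range_le_card (R := F) x
  rw [Set.finrank, Fintype.card_fin] at h2
  rw [S.finrank_orth]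
  omega

theorem exists_partner {u : ι → F} (hu : S.Q u = 0) (hu0 : u ≠ 0) :
    ∃ u', polar S.Q u u' = 1 ∧ S.Q u' = 0 := POmega.exists_partner S.nondeg hu hu0

theorem exists_sing {k : ℕ} (x : Fin k → ι → F) (hk : k + 3 ≤ Fintype.card ι) :
    ∃ w, (∀ i, polar S.Q (x i) w = 0) ∧ w ≠ 0 ∧ S.Q w = 0 := by
  obtain ⟨w, hw, hw0, hQ⟩ := POmega.exists_singular_mem (Q := S.Q) (S.orth (Submodule.span F (Set.range x)))
    (le_trans (by omega) (S.le_finrank_orth x))
  exact ⟨w, fun i => S.mem_orth_span.1 hw _ ⟨i, rfl⟩, hw0, hQ⟩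

theorem exists_not_orth {s : ι → F} {W : Submodule F (ι → F)} (h : s ∉ S.orth W) :
    ∃ w ∈ W, polar S.Q w s ≠ 0 := by
  by_contra hc
  push Not at hc
  exact h (S.mem_orth.2 hc)

/-- a singular vector of `W` pairing with `x` -/
theorem exists_sing_pairing {W : Submodule F (ι → F)} {s w x v : ι → F} (hs : s ∈ W) (hQs : S.Q s = 0)
    (hw : w ∈ W) (hsw : polar S.Q s w ≠ 0) (hv : v ∈ W) (hxv : polar S.Q x v ≠ 0) :
    ∃ u ∈ W, S.Q u = 0 ∧ polar S.Q x u ≠ 0 := by
  by_contra hc
  push Not at hc
  have key : ∀ z ∈ W, polar S.Q s z ≠ 0 → polar S.Q x z = 0 := by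
    intro z hz hsz
    have h1 := hc (z + (-S.Q z / polar S.Q s z) • s) (add_mem hz (W.smul_mem _ hs)) (by
      rw [QuadraticMap.map_add ⇑S.Q, QuadraticMap.map_smul, hQs, polar_smul_right,
        polar_comm (f := ⇑S.Q) z s]
      simp only [smul_eq_mul, mul_zero, add_zero]
      field_simp
      ring)
    rwa [polar_add_right, polar_smul_right, hc s hs hQs, smul_zero, add_zero] at h1
  by_cases h : polar S.Q s v = 0
  · have h1 := key (v + w) (add_mem hv hw) (by rwa [polar_add_right, h, zero_add])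
    rw [polar_add_right, key w hw hsw, add_zero] at h1
    exact hxv h1
  · exact hxv (key v hv h)

/-- a subspace with a hyperbolic pair is spanned by its singular vectors -/
theorem le_of_sing {W P : Submodule F (ι → F)} {s w : ι → F} (hs : s ∈ W) (hQs : S.Q s = 0)
    (hw : w ∈ W) (hsw : polar S.Q s w ≠ 0) (hP : ∀ u ∈ W, S.Q u = 0 → u ∈ P) : W ≤ P := by
  have key : ∀ z ∈ W, polar S.Q s z ≠ 0 → z ∈ P := by
    intro z hz hsz
    have h1 := hP (z + (-S.Q z / polar S.Q s z) • s) (add_mem hz (W.smul_mem _ hs)) (by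
      rw [QuadraticMap.map_add ⇑S.Q, QuadraticMap.map_smul, hQs, polar_smul_right,
        polar_comm (f := ⇑S.Q) z s]
      simp only [smul_eq_mul, mul_zero, add_zero]
      field_simp
      ring)
    exact (P.add_mem_iff_left (P.smul_mem _ (hP s hs hQs))).1 h1
  intro v hv
  by_cases h : polar S.Q s v = 0
  · have h1 := key (v + w) (add_mem hv hw) (by rwa [polar_add_right, h, zero_add])
    exact (P.add_mem_iff_left (key w hw hsw)).1 h1
  · exact key v hv h

/-! ### Connectedness of singular points -/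

/-- the group generated by the Eichler transformations inside the complement of `x` -/
noncomputable def gamma {k : ℕ} (x : Fin k → ι → F) : Subgroup S.G :=
  Subgroup.closure {g | ∃ u a, S.Q u = 0 ∧ polar S.Q u a = 0 ∧ (∀ i, polar S.Q (x i) u = 0) ∧
    (∀ i, polar S.Q (x i) a = 0) ∧ g = S.el u a}

theorem el_mem_gamma {k : ℕ} {x : Fin k → ι → F} {u a : ι → F} (hu : S.Q u = 0)
    (ha : polar S.Q u a = 0) (hxu : ∀ i, polar S.Q (x i) u = 0) (hxa : ∀ i, polar S.Q (x i) a = 0) :
    S.el u a ∈ S.gamma x := Subgroup.subset_closure ⟨u, a, hu, ha, hxu, hxa, rfl⟩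

theorem gamma_fix {k : ℕ} {x : Fin k → ι → F} {g : S.G} (hg : g ∈ S.gamma x) (i : Fin k) :
    S.ap g (x i) = x i := by
  induction hg using Subgroup.closure_induction with
  | mem y hy =>
    obtain ⟨u, a, hu, ha, hxu, hxa, rfl⟩ := hy
    exact S.ap_el_of_perp hu ha (hxu i) (hxa i)
  | one => simp
  | mul y z _ _ hy hz => rw [ap_mul, hz, hy]
  | inv y _ hy =>
    conv_lhs => rw [← hy]
    exact S.ap_inv_ap y _

theorem gamma_perp {k : ℕ} {x : Fin k → ι → F} {g : S.G} (hg : g ∈ S.gamma x) {v : ι → F}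
    (hv : ∀ i, polar S.Q (x i) v = 0) (i : Fin k) : polar S.Q (x i) (S.ap g v) = 0 := by
  rw [← S.gamma_fix hg i, S.polar_ap, hv]

variable {k : ℕ} {x : Fin k → ι → F}

/-- two non-orthogonal singular points are conjugate -/
theorem conn_step (hk : 2 * k + 2 < Fintype.card ι) {v w : ι → F} (hv : S.Q v = 0) (hw : S.Q w = 0)
    (hxv : ∀ i, polar S.Q (x i) v = 0) (hxw : ∀ i, polar S.Q (x i) w = 0)
    (hvw : polar S.Q v w ≠ 0) : ∃ g ∈ S.gamma x, ∃ c : F, c ≠ 0 ∧ S.ap g v = c • w := by
  classical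
  obtain ⟨z, hz, hQz⟩ : ∃ z, (∀ i, polar S.Q ((Fin.snoc (Fin.snoc x v : Fin (k + 1) → ι → F) w :
      Fin (k + 2) → ι → F) i) z = 0) ∧ S.Q z ≠ 0 := by
    by_contra hc
    push Not at hc
    let P := Submodule.span F (Set.range (Fin.snoc (Fin.snoc x v : Fin (k + 1) → ι → F) w :
      Fin (k + 2) → ι → F))
    have h0 : ∀ z ∈ S.orth P, S.Q z = 0 := fun z hz =>
      hc z fun i => S.mem_orth_span.1 hz _ ⟨i, rfl⟩
    have hts : S.orth P ≤ S.orth (S.orth P) := fun z hz => S.mem_orth.2 fun y hy => by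
      have h := h0 (y + z) (add_mem hy hz)
      rwa [QuadraticMap.map_add ⇑S.Q, h0 y hy, h0 z hz, add_zero, zero_add] at h
    rw [S.orth_orth] at hts
    have hsub : S.orth P ≤ Submodule.span F (Set.range x) := by
      intro z hz
      have hzP := hts hz
      simp only [P, Fin.range_snoc, Submodule.mem_span_insert] at hzP
      obtain ⟨β, y, ⟨α, y', hy', rfl⟩, rfl⟩ := hzP
      have hyv : ∀ t, (∀ i, polar S.Q (x i) t = 0) → polar S.Q t y' = 0 := fun t ht => by
        have h : y' ∈ LinearMap.ker (S.Q.polarBilin t) :=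
          Submodule.span_le.2 (by
            rintro _ ⟨i, rfl⟩
            show polar S.Q t (x i) = 0
            rw [polar_comm]; exact ht i) hy'
        exact h
      have e1 := S.mem_orth.1 hz v (Submodule.subset_span (by simp))
      have e2 := S.mem_orth.1 hz w (Submodule.subset_span (by simp))
      simp only [polar_add_right, polar_smul_right, S.polar_self_zero hv, hyv v hxv, smul_zero,
        add_zero, smul_eq_mul, mul_eq_zero, hvw, or_false] at e1
      simp only [polar_add_right, polar_smul_right, S.polar_self_zero hw, hyv w hxw, smul_zero,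
        add_zero, zero_add, smul_eq_mul, mul_eq_zero, polar_comm (f := ⇑S.Q) w v, hvw, or_false] at e2
      rw [mul_zero, add_zero, mul_eq_zero] at e1
      rw [mul_zero, zero_add, mul_eq_zero] at e2
      rw [e1.resolve_right hvw, e2.resolve_right hvw, zero_smul, zero_add, zero_smul, zero_add]
      exact hy'
    have h1 := Submodule.finrank_mono hsub
    have h2 := finrank_range_le_card (R := F) x
    rw [Set.finrank, Fintype.card_fin] at h2
    have h3 : Fintype.card ι - (k + 2) ≤ Module.finrank F (S.orth P) := S.le_finrank_orth _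
    omega
  have hzw : polar S.Q w z = 0 := by simpa using hz (Fin.last (k + 1))
  have hzv : polar S.Q v z = 0 := by simpa using hz (Fin.last k).castSucc
  have hzx : ∀ i, polar S.Q (x i) z = 0 := fun i => by simpa using hz i.castSucc.castSucc
  have hzv' : polar S.Q z v = 0 := by rw [polar_comm, hzv]
  have hzw' : polar S.Q z w = 0 := by rw [polar_comm, hzw]
  set β := polar S.Q v w with hβ
  set c := -S.Q z / β
  have hc : c ≠ 0 := div_ne_zero (neg_ne_zero.2 hQz) hvw
  set s := v + z + c • w
  have hs : S.Q s = 0 := by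
    simp only [s, QuadraticMap.map_add ⇑S.Q, QuadraticMap.map_smul, polar_add_left, polar_smul_right,
      hv, hw, hzv, hzw', ← hβ, smul_eq_mul]
    simp only [c]
    field_simp
    ring
  have hvs : polar S.Q v s = c * β := by
    simp [s, polar_add_right, polar_smul_right, S.polar_self_zero hv, hzv, ← hβ]
  have hws : polar S.Q w s = β := by
    simp [s, polar_add_right, polar_smul_right, S.polar_self_zero hw, hzw, polar_comm (f := ⇑S.Q) w v,
      ← hβ]
  have hcb : c * β ≠ 0 := mul_ne_zero hc hvw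
  set v₁ := (c * β)⁻¹ • v
  set w₁ := β⁻¹ • w
  have h1 : polar S.Q v₁ s = 1 := by
    rw [polar_smul_left, hvs, smul_eq_mul, inv_mul_cancel₀ hcb]
  have h2 : polar S.Q w₁ s = 1 := by simp [w₁, polar_smul_left, hws, hvw]
  have hxs : ∀ i, polar S.Q (x i) s = 0 := fun i => by
    simp [s, polar_add_right, polar_smul_right, hxv i, hxw i, hzx i]
  have hmove := S.ap_el_move hs h1 h2 (by simp [v₁, w₁, QuadraticMap.map_smul, hv, hw])
  refine ⟨S.el s (w₁ - v₁), S.el_mem_gamma hs ?_ hxs (fun i => ?_), c, hc, ?_⟩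
  · rw [polar_sub_right, polar_comm, h2, polar_comm, h1, sub_self]
  · simp [v₁, w₁, polar_sub_right, polar_smul_right, hxv i, hxw i]
  · rw [map_smul] at hmove
    calc _ = (c * β) • ((c * β)⁻¹ • S.ap (S.el s (w₁ - v₁)) v) := by
          rw [smul_smul, mul_inv_cancel₀ hcb, one_smul]
      _ = c • w := by rw [hmove, smul_smul, mul_assoc, mul_inv_cancel₀ hvw, mul_one]

/-- `gamma x` is transitive on the singular points of the complement outside the span -/
theorem conn (hk : 2 * k + 2 < Fintype.card ι) {v w : ι → F} (hv : S.Q v = 0) (hw : S.Q w = 0)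
    (hxv : ∀ i, polar S.Q (x i) v = 0) (hxw : ∀ i, polar S.Q (x i) w = 0)
    (hv1 : v ∉ Submodule.span F (Set.range x)) (hw1 : w ∉ Submodule.span F (Set.range x)) :
    ∃ g ∈ S.gamma x, ∃ c : F, c ≠ 0 ∧ S.ap g v = c • w := by
  obtain ⟨v', hxv', hvv', hv'⟩ := POmega.exists_pair S.nondeg x hv hxv hv1
  obtain ⟨w', hxw', hww', hw'⟩ := POmega.exists_pair S.nondeg x hw hxw hw1
  have trans : ∀ {a b c : ι → F}, (∃ g ∈ S.gamma x, ∃ r : F, r ≠ 0 ∧ S.ap g a = r • b) →
      (∃ g ∈ S.gamma x, ∃ r : F, r ≠ 0 ∧ S.ap g b = r • c) →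
      ∃ g ∈ S.gamma x, ∃ r : F, r ≠ 0 ∧ S.ap g a = r • c := by
    rintro a b c ⟨g, hg, r, hr, e⟩ ⟨g', hg', r', hr', e'⟩
    exact ⟨g' * g, mul_mem hg' hg, r * r', mul_ne_zero hr hr',
      by rw [ap_mul, e, map_smul, e', smul_smul]⟩
  have e1 : polar S.Q v v' ≠ 0 := by rw [hvv']; exact one_ne_zero
  have e2 : polar S.Q w' w ≠ 0 := by rw [polar_comm, hww']; exact one_ne_zero
  by_cases h1 : polar S.Q v' w = 0
  swap
  · exact trans (S.conn_step hk hv hv' hxv hxv' e1) (S.conn_step hk hv' hw hxv' hxw h1)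
  by_cases h2 : polar S.Q v w' = 0
  swap
  · exact trans (S.conn_step hk hv hw' hxv hxw' h2) (S.conn_step hk hw' hw hxw' hxw e2)
  by_cases h3 : polar S.Q v' w' = 0
  swap
  · exact trans (S.conn_step hk hv hv' hxv hxv' e1)
      (trans (S.conn_step hk hv' hw' hxv' hxw' h3) (S.conn_step hk hw' hw hxw' hxw e2))
  have hu : S.Q (v' + w') = 0 := by rw [QuadraticMap.map_add ⇑S.Q, hv', hw', h3]; simp
  have hxu : ∀ i, polar S.Q (x i) (v' + w') = 0 := fun i => by simp [polar_add_right, hxv' i, hxw' i]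
  refine trans (S.conn_step hk hv hu hxv hxu ?_) (S.conn_step hk hu hw hxu hxw ?_)
  · rw [polar_add_right, hvv', h2, add_zero]; exact one_ne_zero
  · rw [polar_add_left, h1, zero_add]; exact e2

/-- transitivity on vectors of a given non-zero value orthogonal to `p` -/
theorem exists_map {k : ℕ} (x y : Fin k → ι → F) (hx : LinearIndependent F x)
    (hy : LinearIndependent F y) (hn : 2 * (k + 1) < Fintype.card ι) (hq : ∀ i, S.Q (x i) = S.Q (y i))
    (hp : ∀ i j, polar S.Q (x i) (x j) = polar S.Q (y i) (y j)) :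
    ∃ g : S.G, ∀ i, S.ap g (x i) = y i := by
  obtain ⟨g, hg⟩ := POmega.exists_O_map S.nondeg x y hx hy hq hp
  obtain ⟨h, hh, hhx⟩ := POmega.omega_agree S.nondeg x hn (by have := S.seven; omega) g
  exact ⟨⟨h, hh⟩, fun i => (hhx i).trans (hg i)⟩

end Space

end CfsgLib.MinIndexOrth
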