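import Cfsg.Agent.Lib.MinIndexOrth.Translates
import Cfsg.Agent.Lib.POmega.Forms

/-!
No action with all orbits of all radicals regular in dimensions seven and eight over three elements:
explicit involutions.
-/

set_option autoImplicit false
set_option linter.unusedSectionVars false

namespace CfsgLib.MinIndexOrth

open Matrix QuadraticMap CfsgLib.Orth
open scoped commutatorElement

variable {ι : Type} [Fintype ι] [DecidableEq ι] {F : Type*} [Field F] [Fintype F]

namespace Space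

variable (S : Space ι F) {X : Type*} [MulAction S.G X]

/-- three orthogonal hyperbolic pairs -/
structure Hyp3 where
  e : Fin 3 → ι → F
  f : Fin 3 → ι → F
  Qe : ∀ i, S.Q (e i) = 0
  Qf : ∀ i, S.Q (f i) = 0
  ee : ∀ i j, polar S.Q (e i) (e j) = 0
  ff : ∀ i j, polar S.Q (f i) (f j) = 0
  ef : ∀ i j, polar S.Q (e i) (f j) = if i = j then 1 else 0

variable {S} in
theorem Hyp3.fe (H : S.Hyp3) (i j : Fin 3) : polar S.Q (H.f i) (H.e j) = if i = j then 1 else 0 := by
  rw [polar_comm, H.ef]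
  simp only [eq_comm]

/-- a family with a dual family is a basis -/
theorem span_of_dual {k : ℕ} (b c : Fin k → ι → F) (hk : k = Fintype.card ι)
    (h : ∀ i j, polar S.Q (c i) (b j) = if i = j then 1 else 0) :
    Submodule.span F (Set.range b) = ⊤ := by
  classical
  have hli : LinearIndependent F b := by
    rw [Fintype.linearIndependent_iff]
    intro g hg i
    have h1 := congrArg (fun v => S.Q.polarBilin (c i) v) hg
    simp only [map_sum, map_smul, map_zero] at h1
    change (∑ x, g x • polar S.Q (c i) (b x)) = 0 at h1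
    simpa [h] using h1
  exact hli.span_eq_top_of_card_eq_finrank' (by simp [hk])

theorem eq_zero_of_dual {k : ℕ} (b c : Fin k → ι → F) (hk : k = Fintype.card ι)
    (h : ∀ i j, polar S.Q (c i) (b j) = if i = j then 1 else 0) {v : ι → F}
    (hv : ∀ i, polar S.Q (b i) v = 0) : v = 0 := by
  refine S.nondeg.1 v fun x => ?_
  show polar S.Q v x = 0
  rw [polar_comm]
  have hx : x ∈ LinearMap.ker (S.Q.polarBilin v) := by
    refine (?_ : (⊤ : Submodule F (ι → F)) ≤ _) Submodule.mem_top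
    rw [← S.span_of_dual b c hk h]
    refine Submodule.span_le.2 ?_
    rintro _ ⟨i, rfl⟩
    show polar S.Q v (b i) = 0
    rw [polar_comm]; exact hv i
  have : polar S.Q v x = 0 := hx
  rwa [polar_comm] at this

theorem eq_one_of_dual {k : ℕ} (b c : Fin k → ι → F) (hk : k = Fintype.card ι)
    (h : ∀ i j, polar S.Q (c i) (b j) = if i = j then 1 else 0) {g : S.G}
    (hg : ∀ i, S.ap g (b i) = b i) : g = 1 := by
  refine S.ext_ap fun x => ?_
  rw [ap_one]
  have he := LinearMap.ext_on (f := S.ap g) (g := LinearMap.id) (S.span_of_dual b c hk h)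
    (by rintro _ ⟨i, rfl⟩; exact hg i)
  exact LinearMap.congr_fun he x

theorem el_comm {h : S.G} {u a u' a' : ι → F} (hu : S.Q u = 0) (hua : polar S.Q u a = 0)
    (h1 : S.ap h u = u') (h2 : S.ap h a = a') (h3 : S.el u' a' = S.el u a) :
    h * S.el u a = S.el u a * h := by
  have e := S.el_conj hu hua h
  rw [h1, h2, h3] at e
  exact mul_inv_eq_iff_eq_mul.1 e

/-- negation of an orthogonal pair of equal values -/
theorem exists_neg_pair {x y : ι → F} (hx : S.Q x ≠ 0) (hxy : S.Q x = S.Q y) (ho : polar S.Q x y = 0) :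
    ∃ g : S.G, S.ap g x = -x ∧ S.ap g y = -y ∧
      ∀ v, polar S.Q x v = 0 → polar S.Q y v = 0 → S.ap g v = v := by
  have hx0 : x ≠ 0 := fun h => hx (by rw [h, QuadraticMap.map_zero])
  have hy0 : y ≠ 0 := fun h => hx (by rw [hxy, h, QuadraticMap.map_zero])
  obtain ⟨g, hg⟩ := POmega.exists_O_map S.nondeg (fun _ : Fin 1 => x) (fun _ => y)
    (LinearIndependent.of_subsingleton 0 hx0) (LinearIndependent.of_subsingleton 0 hy0) (fun _ => hxy)
    (fun _ _ => by rw [polar_self', polar_self', hxy])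
  have hgy : app g x = y := hg 0
  have he : ⁅g, refl S.Q x⁆ = refl S.Q y * refl S.Q x := by
    rw [commutatorElement_def, refl_conj, refl_inv, hgy]
  have happ : ∀ v, app ⁅g, refl S.Q x⁆ v = app (refl S.Q y) (app (refl S.Q x) v) := fun v => by
    rw [he, app_mul]
  have hyx : polar S.Q y x = 0 := by rw [polar_comm, ho]
  refine ⟨⟨⁅g, refl S.Q x⁆, Subgroup.commutator_mem_commutator (Subgroup.mem_top _) (Subgroup.mem_top _)⟩,
    ?_, ?_, fun v h1 h2 => ?_⟩
  · show app _ x = _
    rw [happ, app_refl_self hx, map_neg, app_refl_of_ortho ho]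
  · show app _ y = _
    rw [happ, app_refl_of_ortho hyx, app_refl_self (hxy ▸ hx)]
  · show app _ v = _
    rw [happ, show app (refl S.Q x) v = v from app_refl_of_ortho (by rw [polar_comm]; exact h1),
      app_refl_of_ortho (by rw [polar_comm]; exact h2)]

/-- the involution negating two hyperbolic planes -/
theorem exists_neg_planes (H : S.Hyp3) (h2 : (2 : F) ≠ 0) :
    ∃ g : S.G, (∀ i : Fin 3, i ≠ 0 → S.ap g (H.e i) = -H.e i ∧ S.ap g (H.f i) = -H.f i) ∧
      ∀ v, (∀ i : Fin 3, i ≠ 0 → polar S.Q (H.e i) v = 0 ∧ polar S.Q (H.f i) v = 0) → S.ap g v = v := by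
  obtain ⟨g₁, a1, b1, c1⟩ := S.exists_neg_pair (x := H.e 1 + H.f 1) (y := H.e 2 + H.f 2)
    (by simp [QuadraticMap.map_add ⇑S.Q, H.Qe, H.Qf, H.ef])
    (by simp [QuadraticMap.map_add ⇑S.Q, H.Qe, H.Qf, H.ef])
    (by simp [polar_add_left, polar_add_right, H.ee, H.ff, H.ef, H.fe])
  obtain ⟨g₂, a2, b2, c2⟩ := S.exists_neg_pair (x := H.e 1 + -H.f 1) (y := H.e 2 + -H.f 2)
    (by simp [QuadraticMap.map_add ⇑S.Q, QuadraticMap.map_neg, polar_neg_right, H.Qe, H.Qf, H.ef])
    (by simp [QuadraticMap.map_add ⇑S.Q, QuadraticMap.map_neg, polar_neg_right, H.Qe, H.Qf, H.ef])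
    (by simp [polar_add_left, polar_add_right, polar_neg_left, polar_neg_right, H.ee, H.ff, H.ef, H.fe])
  have hsum : ∀ i : Fin 3, i ≠ 0 → S.ap (g₁ * g₂) (H.e i + H.f i) = -(H.e i + H.f i) ∧
      S.ap (g₁ * g₂) (H.e i + -H.f i) = -(H.e i + -H.f i) := by
    intro i hi
    have hi' : i = 1 ∨ i = 2 := by fin_cases i <;> simp_all
    rw [ap_mul, ap_mul]
    rcases hi' with rfl | rfl
    · refine ⟨?_, ?_⟩
      · rw [c2 _ (by simp [polar_add_left, polar_add_right, polar_neg_left, H.ee, H.ff, H.ef, H.fe])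
          (by simp [polar_add_left, polar_add_right, polar_neg_left, H.ee, H.ff, H.ef, H.fe]), a1]
      · rw [a2, map_neg, c1 _ (by simp [polar_add_left, polar_add_right, polar_neg_right, H.ee, H.ff, H.ef, H.fe])
          (by simp [polar_add_left, polar_add_right, polar_neg_right, H.ee, H.ff, H.ef, H.fe])]
    · refine ⟨?_, ?_⟩
      · rw [c2 _ (by simp [polar_add_left, polar_add_right, polar_neg_left, H.ee, H.ff, H.ef, H.fe])
          (by simp [polar_add_left, polar_add_right, polar_neg_left, H.ee, H.ff, H.ef, H.fe]), b1]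
      · rw [b2, map_neg, c1 _ (by simp [polar_add_left, polar_add_right, polar_neg_right, H.ee, H.ff, H.ef, H.fe])
          (by simp [polar_add_left, polar_add_right, polar_neg_right, H.ee, H.ff, H.ef, H.fe])]
  refine ⟨g₁ * g₂, fun i hi => ?_, fun v hv => ?_⟩
  · obtain ⟨s1, s2⟩ := hsum i hi
    rw [map_add] at s1 s2
    rw [map_neg] at s2
    constructor
    · refine smul_right_injective _ h2 ?_
      show (2 : F) • _ = (2 : F) • _
      linear_combination (norm := module) s1 + s2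
    · refine smul_right_injective _ h2 ?_
      show (2 : F) • _ = (2 : F) • _
      linear_combination (norm := module) s1 - s2
  · obtain ⟨u1, u2⟩ := hv 1 (by decide)
    obtain ⟨w1, w2⟩ := hv 2 (by decide)
    rw [ap_mul, c2 v (by simp [polar_add_left, polar_neg_left, u1, u2])
      (by simp [polar_add_left, polar_neg_left, w1, w2]), c1 v (by simp [polar_add_left, u1, u2])
      (by simp [polar_add_left, w1, w2])]

/-- a negated vector is orthogonal to the fixed cosets -/
theorem perp_of_neg {h : S.G} (h2 : (2 : F) ≠ 0) {p v g : ι → F} (hg : S.ap h g = -g)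
    (hpg : polar S.Q p g = 0) (hv : S.ap h v - v ∈ Submodule.span F {p}) : polar S.Q g v = 0 := by
  obtain ⟨t, ht⟩ := Submodule.mem_span_singleton.1 hv
  have e1 := S.polar_ap h g v
  rw [hg, polar_neg_left, show S.ap h v = v + t • p by rw [ht]; abel, polar_add_right, polar_smul_right,
    polar_comm (f := ⇑S.Q) g p, hpg, smul_zero, add_zero] at e1
  exact mul_left_cancel₀ h2 (by linear_combination -e1)

/-- all regular in dimension seven over three elements -/
theorem hall_odd_seven [Fintype X] [Nonempty X] (h3 : Fintype.card F = 3) (hd : Fintype.card ι = 7)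
    (H : S.Hyp3) {z : ι → F} (hz : S.Q z = 1) (hze : ∀ i, polar S.Q (H.e i) z = 0)
    (hzf : ∀ i, polar S.Q (H.f i) z = 0)
    (huniq : ∀ (ω ω' : X) p, S.Q p = 0 → p ≠ 0 → ω' ∈ S.orb ω p)
    (hall : ∀ (ω : X) p, S.Q p = 0 → p ≠ 0 → S.Reg ω p) : False := by
  have h2 : (2 : F) ≠ 0 := CfsgLib.POmega.two_ne_zero_of_odd (by rw [h3]; decide)
  obtain ⟨h, hneg, hfx⟩ := S.exists_neg_planes H h2
  obtain ⟨a1, b1⟩ := hneg 1 (by decide)
  obtain ⟨a2, b2⟩ := hneg 2 (by decide)
  have hez : ∀ i, polar S.Q z (H.e i) = 0 := fun i => by rw [polar_comm, hze]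
  have hfz : ∀ i, polar S.Q z (H.f i) = 0 := fun i => by rw [polar_comm, hzf]
  have hzz : polar S.Q z z = 2 := by rw [polar_self', hz, mul_one]
  let b : Fin 7 → ι → F := ![H.e 0, H.f 0, H.e 1, H.f 1, H.e 2, H.f 2, z]
  let c : Fin 7 → ι → F := ![H.f 0, H.e 0, H.f 1, H.e 1, H.f 2, H.e 2, (2 : F)⁻¹ • z]
  have hdual : ∀ i j, polar S.Q (c i) (b j) = if i = j then 1 else 0 := by
    intro i j
    fin_cases i <;> fin_cases j <;>
      simp [b, c, H.ee, H.ff, H.ef, H.fe, hez, hfz, hze, hzf, hzz, polar_smul_left, h2]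
  have hp : S.ap h (H.e 0) = H.e 0 := hfx _ fun i hi => ⟨H.ee i 0, by simp [H.fe, hi]⟩
  have hp' : S.ap h (H.f 0) = H.f 0 := hfx _ fun i hi => ⟨by simp [H.ef, hi], H.ff i 0⟩
  have hhz : S.ap h z = z := hfx _ fun i _ => ⟨hze i, hzf i⟩
  have hh2 : h ^ 2 = 1 := by
    refine S.eq_one_of_dual b c hd.symm hdual fun i => ?_
    rw [pow_two, ap_mul]
    fin_cases i <;> simp [b, hp, hp', hhz, a1, b1, a2, b2, map_neg]
  have hp0 : H.e 0 ≠ 0 := fun h0 => by have := H.ef 0 0; simp [h0] at this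
  have hu0 : H.e 1 ≠ 0 := fun h0 => by have := H.ef 1 1; simp [h0] at this
  refine S.no_all_regular_elt huniq hall Nat.prime_two (by rw [h3]; decide) hh2 (H.Qe 0) hp0 hp
    (z := z) (a := H.e 2) (b := H.f 2) (fun v hv hvs => ?_) (hze 0) (H.Qe 1) hu0 (H.ee 1 2)
    (by simp [H.ef]) (fun s t hst => ?_) (fun s t => ?_) (H.ee 0 1) (hez 1) (hez 2) (hfz 2) (H.ee 0 2)
    (by simp [H.ef]) (by rw [h3]; exact Nat.prime_three)
  · have f1 := S.perp_of_neg h2 a1 (H.ee 0 1) hvs
    have f2 := S.perp_of_neg h2 b1 (by simp [H.ef]) hvs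
    have f3 := S.perp_of_neg h2 a2 (H.ee 0 2) hvs
    have f4 := S.perp_of_neg h2 b2 (by simp [H.ef]) hvs
    set w := v + (-polar S.Q (H.f 0) v) • H.e 0 + (-(polar S.Q z v / 2)) • z
    have hw : w = 0 := by
      refine S.eq_zero_of_dual b c hd.symm hdual fun i => ?_
      fin_cases i <;>
        simp [b, w, polar_add_right, polar_smul_right, hv, f1, f2, f3, f4, H.ee, H.fe, H.ef, hze, hzf,
          hez, hzz, h2]
    refine Submodule.mem_span_pair.2 ⟨polar S.Q (H.f 0) v, polar S.Q z v / 2, ?_⟩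
    linear_combination (norm := module) -hw
  · obtain ⟨k, hk⟩ := Submodule.mem_span_singleton.1 hst
    have e1 := congrArg (fun v => polar S.Q (H.f 2) v) hk
    have e2 := congrArg (fun v => polar S.Q (H.e 2) v) hk
    simp [polar_add_right, polar_smul_right, H.fe, H.ef, H.ee, H.ff] at e1 e2
    exact ⟨e1.symm, e2.symm⟩
  · have hua : polar S.Q (H.e 1) (s • H.e 2 + t • H.f 2) = 0 := by
      simp [polar_add_right, polar_smul_right, H.ee, H.ef]
    refine S.el_comm (H.Qe 1) hua (u' := -H.e 1) (a' := -(s • H.e 2 + t • H.f 2)) a1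
      (by rw [map_add, map_smul, map_smul, a2, b2]; module) ?_
    rw [← neg_one_smul F (H.e 1), S.el_smul_left (H.Qe 1) (by rw [polar_neg_right, hua, neg_zero]),
      neg_one_smul, neg_neg]

/-- all regular for minus type in dimension eight over three elements -/
theorem hall_minus_three [Fintype X] [Nonempty X] (h3 : Fintype.card F = 3) (hd : Fintype.card ι = 8)
    (H : S.Hyp3) {x y : ι → F} (hx : S.Q x = 1) (hy : S.Q y = 1) (hxy : polar S.Q x y = 0)
    (hxe : ∀ i, polar S.Q (H.e i) x = 0) (hxf : ∀ i, polar S.Q (H.f i) x = 0)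
    (hye : ∀ i, polar S.Q (H.e i) y = 0) (hyf : ∀ i, polar S.Q (H.f i) y = 0)
    (huniq : ∀ (ω ω' : X) p, S.Q p = 0 → p ≠ 0 → ω' ∈ S.orb ω p)
    (hall : ∀ (ω : X) p, S.Q p = 0 → p ≠ 0 → S.Reg ω p) : False := by
  have h2 : (2 : F) ≠ 0 := CfsgLib.POmega.two_ne_zero_of_odd (by rw [h3]; decide)
  obtain ⟨g, hneg, hfx⟩ := S.exists_neg_planes H h2
  obtain ⟨g', ax, ay, hfx'⟩ := S.exists_neg_pair (x := x) (y := y) (by rw [hx]; exact one_ne_zero)
    (by rw [hx, hy]) hxy
  set h := g * g'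
  have hex : ∀ i, polar S.Q x (H.e i) = 0 := fun i => by rw [polar_comm, hxe]
  have hfx0 : ∀ i, polar S.Q x (H.f i) = 0 := fun i => by rw [polar_comm, hxf]
  have hey : ∀ i, polar S.Q y (H.e i) = 0 := fun i => by rw [polar_comm, hye]
  have hfy : ∀ i, polar S.Q y (H.f i) = 0 := fun i => by rw [polar_comm, hyf]
  have hyx : polar S.Q y x = 0 := by rw [polar_comm, hxy]
  have he' : ∀ i, S.ap g' (H.e i) = H.e i := fun i => hfx' _ (hex i) (hey i)
  have hf' : ∀ i, S.ap g' (H.f i) = H.f i := fun i => hfx' _ (hfx0 i) (hfy i)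
  have hE : ∀ i : Fin 3, i ≠ 0 → S.ap h (H.e i) = -H.e i ∧ S.ap h (H.f i) = -H.f i := fun i hi =>
    ⟨by rw [ap_mul, he', (hneg i hi).1], by rw [ap_mul, hf', (hneg i hi).2]⟩
  obtain ⟨a1, b1⟩ := hE 1 (by decide)
  obtain ⟨a2, b2⟩ := hE 2 (by decide)
  have hhx : S.ap h x = -x := by rw [ap_mul, ax, map_neg, hfx x fun i _ => ⟨hxe i, hxf i⟩]
  have hhy : S.ap h y = -y := by rw [ap_mul, ay, map_neg, hfx y fun i _ => ⟨hye i, hyf i⟩]
  have hp : S.ap h (H.e 0) = H.e 0 := by
    rw [ap_mul, he', hfx _ fun i hi => ⟨H.ee i 0, by simp [H.fe, hi]⟩]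
  have hp' : S.ap h (H.f 0) = H.f 0 := by
    rw [ap_mul, hf', hfx _ fun i hi => ⟨by simp [H.ef, hi], H.ff i 0⟩]
  let b : Fin 8 → ι → F := ![H.e 0, H.f 0, H.e 1, H.f 1, H.e 2, H.f 2, x, y]
  let c : Fin 8 → ι → F := ![H.f 0, H.e 0, H.f 1, H.e 1, H.f 2, H.e 2, (2 : F)⁻¹ • x, (2 : F)⁻¹ • y]
  have hdual : ∀ i j, polar S.Q (c i) (b j) = if i = j then 1 else 0 := by
    intro i j
    fin_cases i <;> fin_cases j <;>
      simp [b, c, H.ee, H.ff, H.ef, H.fe, hex, hfx0, hey, hfy, hxe, hxf, hye, hyf, hxy, hyx, hx, hy,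
        polar_self', polar_smul_left, h2]
  have hh2 : h ^ 2 = 1 := by
    refine S.eq_one_of_dual b c hd.symm hdual fun i => ?_
    rw [pow_two, S.ap_mul h h]
    fin_cases i <;> simp only [b] <;> simp [hp, hp', hhx, hhy, a1, b1, a2, b2, map_neg]
  have hp0 : H.e 0 ≠ 0 := fun h0 => by have := H.ef 0 0; simp [h0] at this
  have hu0 : H.e 1 ≠ 0 := fun h0 => by have := H.ef 1 1; simp [h0] at this
  refine S.no_all_regular_elt huniq hall Nat.prime_two (by rw [h3]; decide) hh2 (H.Qe 0) hp0 hp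
    (z := 0) (a := H.e 2) (b := H.f 2) (fun v hv hvs => ?_) (by simp) (H.Qe 1) hu0 (H.ee 1 2)
    (by simp [H.ef]) (fun s t hst => ?_) (fun s t => ?_) (H.ee 0 1) (by simp) (by simp) (by simp) (H.ee 0 2)
    (by simp [H.ef]) (by rw [h3]; exact Nat.prime_three)
  · have f1 := S.perp_of_neg h2 a1 (H.ee 0 1) hvs
    have f2 := S.perp_of_neg h2 b1 (by simp [H.ef]) hvs
    have f3 := S.perp_of_neg h2 a2 (H.ee 0 2) hvs
    have f4 := S.perp_of_neg h2 b2 (by simp [H.ef]) hvs
    have f5 := S.perp_of_neg h2 hhx (hxe 0) hvs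
    have f6 := S.perp_of_neg h2 hhy (hye 0) hvs
    set w := v + (-polar S.Q (H.f 0) v) • H.e 0
    have hw : w = 0 := by
      refine S.eq_zero_of_dual b c hd.symm hdual fun i => ?_
      fin_cases i <;>
        simp [b, w, polar_add_right, polar_smul_right, hv, f1, f2, f3, f4, f5, f6, H.ee, H.fe, H.ef,
          hex, hey]
    refine Submodule.mem_span_pair.2 ⟨polar S.Q (H.f 0) v, 0, ?_⟩
    linear_combination (norm := module) -hw
  · obtain ⟨k, hk⟩ := Submodule.mem_span_singleton.1 hst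
    have e1 := congrArg (fun v => polar S.Q (H.f 2) v) hk
    have e2 := congrArg (fun v => polar S.Q (H.e 2) v) hk
    simp [polar_add_right, polar_smul_right, H.fe, H.ef, H.ee, H.ff] at e1 e2
    exact ⟨e1.symm, e2.symm⟩
  · have hua : polar S.Q (H.e 1) (s • H.e 2 + t • H.f 2) = 0 := by
      simp [polar_add_right, polar_smul_right, H.ee, H.ef]
    refine S.el_comm (H.Qe 1) hua (u' := -H.e 1) (a' := -(s • H.e 2 + t • H.f 2)) a1
      (by rw [map_add, map_smul, map_smul, a2, b2]; module) ?_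
    rw [← neg_one_smul F (H.e 1), S.el_smul_left (H.Qe 1) (by rw [polar_neg_right, hua, neg_zero]),
      neg_one_smul, neg_neg]

end Space

end CfsgLib.MinIndexOrth
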