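import Cfsg.Agent.Lib.MinIndexOrth.Special
import Cfsg.Agent.Lib.MinIndexOrth.Seven
import Cfsg.Agent.Lib.MinIndexOrth.FormsSmall

/-!
The minimal index over three elements in dimension seven and for minus type in dimension eight.
-/

set_option autoImplicit false
set_option linter.unusedSectionVars false

namespace CfsgLib.MinIndexOrth

open Matrix QuadraticMap CfsgLib.Orth CfsgLib.ClassicalGroups

universe u

variable {F : Type u} [Field F] [Fintype F]

theorem three_eq_zero (hF : Fintype.card F = 3) : (3 : F) = 0 := by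
  have h := FiniteField.cast_card_eq_zero (K := F)
  rw [hF] at h
  exact_mod_cast h

theorem elt_three (hF : Fintype.card F = 3) (x : F) : x = 0 ∨ x = 1 ∨ x = -1 := by
  by_cases h : x = 0
  · exact Or.inl h
  · right
    have h1 := FiniteField.pow_card_sub_one_eq_one x h
    rw [hF, show 3 - 1 = 2 from rfl] at h1
    exact sq_eq_one_iff.1 h1

/-- over three elements an anisotropic binary form has discriminant `-1` -/
theorem anisotropic_three (hF : Fintype.card F = 3) {a b : F}
    (hab : ∀ z₁ z₂ : F, z₁ ^ 2 + a * z₁ * z₂ + b * z₂ ^ 2 = 0 → z₁ = 0 ∧ z₂ = 0) : b - a ^ 2 = 1 := by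
  have h3 := three_eq_zero hF
  rcases elt_three hF (b - a ^ 2) with h | h | h
  · exact absurd (hab a 1 (by linear_combination h + a ^ 2 * h3)).2 one_ne_zero
  · exact h
  · exact absurd (hab (a + 1) 1 (by linear_combination h + (a ^ 2 + a) * h3)).2 one_ne_zero

theorem odd_seven_hall (hF : Fintype.card F = 3) (h2 : (2 : F) ≠ 0) (X : Type u)
    [MulAction (oddSpace F h2 3 le_rfl).G X] [Fintype X] [Nonempty X]
    (huniq : ∀ (ω ω' : X) p, (oddSpace F h2 3 le_rfl).Q p = 0 → p ≠ 0 → ω' ∈ (oddSpace F h2 3 le_rfl).orb ω p)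
    (hall : ∀ (ω : X) p, (oddSpace F h2 3 le_rfl).Q p = 0 → p ≠ 0 → (oddSpace F h2 3 le_rfl).Reg ω p) :
    False := by
  classical
  let S := oddSpace F h2 3 le_rfl
  have hQ : ∀ v, S.Q v = Cfsg.quadFormOdd 3 F v := fun v => by
    simp only [S, oddSpace, CfsgLib.POmega.oddQ_coe]
  have hB : ∀ v w, polar S.Q v w = 2 * v (.inl ()) * w (.inl ()) +
      ∑ i, (v (.inr (.inl i)) * w (.inr (.inr i)) + v (.inr (.inr i)) * w (.inr (.inl i))) := fun v w => by
    simp only [S, oddSpace]
    exact CfsgLib.POmega.polar_oddQ 3 v w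
  let H : S.Hyp3 :=
    { e := fun i => Pi.single (Sum.inr (Sum.inl i)) 1
      f := fun i => Pi.single (Sum.inr (Sum.inr i)) 1
      Qe := fun i => by simp [hQ, Cfsg.quadFormOdd, Pi.single_apply]
      Qf := fun i => by simp [hQ, Cfsg.quadFormOdd, Pi.single_apply]
      ee := fun i j => by simp [hB, Pi.single_apply]
      ff := fun i j => by simp [hB, Pi.single_apply]
      ef := fun i j => by simp [hB, Pi.single_apply, eq_comm] }
  exact S.hall_odd_seven hF (by simp) H (z := Pi.single (Sum.inl ()) 1)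
    (by simp [hQ, Cfsg.quadFormOdd, Pi.single_apply]) (fun i => by simp [H, hB, Pi.single_apply])
    (fun i => by simp [H, hB, Pi.single_apply]) huniq hall

theorem minus_eight_hall (hF : Fintype.card F = 3) {a b : F}
    (hab : ∀ z₁ z₂ : F, z₁ ^ 2 + a * z₁ * z₂ + b * z₂ ^ 2 = 0 → z₁ = 0 ∧ z₂ = 0) (X : Type u)
    [MulAction (minusSpace F 3 le_rfl hab).G X] [Fintype X] [Nonempty X]
    (huniq : ∀ (ω ω' : X) p, (minusSpace F 3 le_rfl hab).Q p = 0 → p ≠ 0 →
      ω' ∈ (minusSpace F 3 le_rfl hab).orb ω p)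
    (hall : ∀ (ω : X) p, (minusSpace F 3 le_rfl hab).Q p = 0 → p ≠ 0 →
      (minusSpace F 3 le_rfl hab).Reg ω p) : False := by
  classical
  have h3 := three_eq_zero hF
  have hd := anisotropic_three hF hab
  let S := minusSpace F 3 le_rfl hab
  have hQ : ∀ v, S.Q v = Cfsg.quadFormMinus 3 F a b v := fun v => by
    simp only [S, minusSpace, minusQ_coe]
  have hB : ∀ v w, polar S.Q v w =
      (∑ i, (v (.inl (.inl i)) * w (.inl (.inr i)) + v (.inl (.inr i)) * w (.inl (.inl i)))) +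
      (2 * v (.inr 0) * w (.inr 0) + a * (v (.inr 0) * w (.inr 1) + v (.inr 1) * w (.inr 0))
        + 2 * b * v (.inr 1) * w (.inr 1)) := fun v w => by
    simp only [S, minusSpace]
    exact polar_minusQ 3 a b v w
  let H : S.Hyp3 :=
    { e := fun i => Pi.single (Sum.inl (Sum.inl i)) 1
      f := fun i => Pi.single (Sum.inl (Sum.inr i)) 1
      Qe := fun i => by simp [hQ, Cfsg.quadFormMinus, Pi.single_apply]
      Qf := fun i => by simp [hQ, Cfsg.quadFormMinus, Pi.single_apply]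
      ee := fun i j => by simp [hB, Pi.single_apply]
      ff := fun i j => by simp [hB, Pi.single_apply]
      ef := fun i j => by simp [hB, Pi.single_apply, eq_comm] }
  exact S.hall_minus_three hF (by simp) H (x := Pi.single (Sum.inr 0) 1)
    (y := a • Pi.single (Sum.inr 0) 1 + Pi.single (Sum.inr 1) 1)
    (by simp [hQ, Cfsg.quadFormMinus, Pi.single_apply])
    (by
      simp [hQ, Cfsg.quadFormMinus, Pi.single_apply]
      linear_combination hd + a ^ 2 * h3)
    (by
      simp [hB, Pi.single_apply]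
      linear_combination a * h3)
    (fun i => by simp [H, hB, Pi.single_apply]) (fun i => by simp [H, hB, Pi.single_apply])
    (fun i => by simp [H, hB, Pi.single_apply]) (fun i => by simp [H, hB, Pi.single_apply]) huniq hall

/-- dimension seven over three elements -/
theorem odd_three_seven_min_index (hF : Fintype.card F = 3) :
    (∀ H : Subgroup (Cfsg.POmega F (Cfsg.quadFormOdd 3 F)), H ≠ ⊤ → 351 ≤ H.index) ∧
      ∃ H : Subgroup (Cfsg.POmega F (Cfsg.quadFormOdd 3 F)), H.index = 351 := by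
  have h2 : (2 : F) ≠ 0 := CfsgLib.POmega.two_ne_zero_of_odd (by rw [hF]; decide)
  obtain ⟨hB, hz, -, hcnt⟩ := odd_three_data hF 1 le_rfl le_rfl (N := 351) (by norm_num)
  set S := oddSpace F h2 3 le_rfl
  change S.Bounds 351 3 at hB
  change S.zc (-1) = 2 * 351 at hz
  have hz0 : S.zc 0 = 729 := by
    simp only [Space.zc, S, oddSpace, CfsgLib.POmega.oddQ_coe]
    rw [card_zero_odd, hF]
    rfl
  have hy0 : S.y0 = 243 := by
    simp [Space.y0, hz0, hF]
  have hy2 : S.y2 = 81 := by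
    simp [Space.y2, hy0, hF]
  have hs := card_sqrt_three hF
  have key : (∀ H : Subgroup (Cfsg.POmega F ⇑S.Q), H ≠ ⊤ → 351 ≤ H.index) ∧
      ∃ H : Subgroup (Cfsg.POmega F ⇑S.Q), H.index = 351 := by
    refine ⟨S.index_ge_seven_three hB hF h2 hs (by simp) hy0 hy2 (fun p c hp hp0 hc => ?_)
      (fun X _ _ _ => odd_seven_hall hF h2 X),
      S.exists_index_ns (neg_ne_zero.2 one_ne_zero) (by norm_num) (by rw [hz, hs])⟩
    have := (hcnt p c hp hp0 hc).1
    norm_num at this
    show 216 ≤ S.cnt p c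
    change _ ≤ S.cnt p c + _ at this
    omega
  have e : (⇑S.Q : (Unit ⊕ (Fin 3 ⊕ Fin 3) → F) → F) = Cfsg.quadFormOdd 3 F := CfsgLib.POmega.oddQ_coe 3
  rw [e] at key
  exact key

/-- minus type in dimension eight over three elements -/
theorem minus_three_eight_min_index (hF : Fintype.card F = 3) {a b : F}
    (hab : ∀ z₁ z₂ : F, z₁ ^ 2 + a * z₁ * z₂ + b * z₂ ^ 2 = 0 → z₁ = 0 ∧ z₂ = 0) {N : ℕ}
    (hN : N = (3 ^ 4 + 1) * (3 ^ 3 - 1) / (3 - 1)) :
    (∀ H : Subgroup (Cfsg.POmega F (Cfsg.quadFormMinus 3 F a b)), H ≠ ⊤ → N ≤ H.index) ∧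
      ∃ H : Subgroup (Cfsg.POmega F (Cfsg.quadFormMinus 3 F a b)), H.index = N := by
  have h2 : (2 : F) ≠ 0 := CfsgLib.POmega.two_ne_zero_of_odd (by rw [hF]; decide)
  obtain ⟨hB, hz, hfive, hex⟩ := minus_small_data (Or.inr hF) 1 le_rfl le_rfl hab (N := N)
    (by rw [hF]; exact hN)
  set S := minusSpace F 3 le_rfl hab
  have key : (∀ H : Subgroup (Cfsg.POmega F ⇑S.Q), H ≠ ⊤ → N ≤ H.index) ∧
      ∃ H : Subgroup (Cfsg.POmega F ⇑S.Q), H.index = N := by
    refine ⟨S.index_ge_prime hB (by rw [hF]; exact Nat.prime_three) (Or.inr ⟨by simp, h2⟩) hfive hex ?_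
      (fun X _ _ _ _ => minus_eight_hall hF hab X), S.exists_index_eq hz⟩
    intro h
    exfalso
    simp at h
  have e : (⇑S.Q : ((Fin 3 ⊕ Fin 3) ⊕ Fin 2 → F) → F) = Cfsg.quadFormMinus 3 F a b := minusQ_coe 3 a b
  rw [e] at key
  exact key

end CfsgLib.MinIndexOrth
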