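import Cfsg.Agent.Lib.MinIndexOrth.Small

/-!
Counting translates of a dual through the vectors of a given value of derived subspaces, and actions
with all orbits regular against an element of coprime order.
-/

set_option autoImplicit false
set_option linter.unusedSectionVars false

namespace CfsgLib.MinIndexOrth

open Matrix QuadraticMap CfsgLib.Orth

variable {ι : Type} [Fintype ι] [DecidableEq ι] {F : Type*} [Field F] [Fintype F]

namespace Space

variable (S : Space ι F) {X : Type*} [MulAction S.G X]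

open scoped Classical in
/-- the vectors of value `c` orthogonal to `p` outside its span -/
noncomputable def cls (p : ι → F) (c : F) : Finset (ι → F) :=
  Finset.univ.filter fun v => (polar S.Q p v = 0 ∧ S.Q v = c) ∧ v ∉ Submodule.span F {p}

open scoped Classical in
/-- the translates of a subspace under the fixer of `p` -/
noncomputable def trn (p : ι → F) (L : Submodule F (ι → F)) : Finset (Submodule F (ι → F)) :=
  haveI := Fintype.ofFinite S.G
  (Finset.univ.filter fun g : S.G => S.ap g p = p).image fun g => S.mapW g L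

open scoped Classical in
/-- the number of vectors of value `c` of a subspace, outside the span of `p` -/
noncomputable def clsIn (p : ι → F) (c : F) (K : Submodule F (ι → F)) : ℕ :=
  ((S.cls p c).filter fun v => v ∈ K).card

theorem mem_trn {p : ι → F} {L W : Submodule F (ι → F)} :
    W ∈ S.trn p L ↔ ∃ g : S.G, S.ap g p = p ∧ S.mapW g L = W := by
  classical
  simp [trn]

theorem self_mem_trn (p : ι → F) (L : Submodule F (ι → F)) : L ∈ S.trn p L :=
  S.mem_trn.2 ⟨1, S.ap_one p, mapW_one L⟩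

theorem mem_cls {p v : ι → F} {c : F} :
    v ∈ S.cls p c ↔ (polar S.Q p v = 0 ∧ S.Q v = c) ∧ v ∉ Submodule.span F {p} := by
  classical
  simp [cls]

theorem card_cls_zero {p : ι → F} (hp : S.Q p = 0) (hp0 : p ≠ 0) :
    (S.cls p 0).card = S.y0 - Fintype.card F := by
  classical
  rw [← S.card_singP hp hp0]
  congr 1

theorem card_cls {p : ι → F} (hp : S.Q p = 0) {c : F} (hc : c ≠ 0) : (S.cls p c).card = S.cnt p c := by
  classical
  rw [cnt, Nat.card_eq_fintype_card, Fintype.card_subtype]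
  congr 1
  ext v
  simp only [mem_cls, Finset.mem_filter, Finset.mem_univ, true_and, and_iff_left_iff_imp]
  rintro ⟨-, hv⟩ hs
  obtain ⟨t, rfl⟩ := Submodule.mem_span_singleton.1 hs
  rw [QuadraticMap.map_smul, hp, smul_zero] at hv
  exact hc hv.symm

theorem cls_ap {p v : ι → F} {c : F} {g : S.G} (hg : S.ap g p = p) (hv : v ∈ S.cls p c) :
    S.ap g v ∈ S.cls p c := by
  obtain ⟨⟨h1, h2⟩, h3⟩ := S.mem_cls.1 hv
  refine S.mem_cls.2 ⟨⟨by rw [← hg, S.polar_ap, h1], by rw [S.Q_ap, h2]⟩, fun h => h3 ?_⟩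
  obtain ⟨t, ht⟩ := Submodule.mem_span_singleton.1 h
  exact Submodule.mem_span_singleton.2 ⟨t, S.ap_injective g (by rw [map_smul, hg, ht])⟩

theorem fix_inv {p : ι → F} {g : S.G} (hg : S.ap g p = p) : S.ap g⁻¹ p = p := by
  conv_lhs => rw [← hg, S.ap_inv_ap]

/-- counting translates through the vectors of one value -/
theorem cover_trn {p : ι → F} (hp : S.Q p = 0) (hp0 : p ≠ 0) (L : Submodule F (ι → F))
    (Φ : Submodule F (ι → F) → Submodule F (ι → F))
    (hΦ : ∀ (g : S.G) (W : Submodule F (ι → F)) (v : ι → F), v ∈ Φ W → S.ap g v ∈ Φ (S.mapW g W))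
    {c : F} {v₀ : ι → F} (hv₀ : v₀ ∈ S.cls p c) (A : Finset (Submodule F (ι → F))) (hA : A ⊆ S.trn p L)
    (hAv : ∀ W ∈ A, v₀ ∈ Φ W) :
    A.card * (S.cls p c).card ≤ (S.trn p L).card * S.clsIn p c (Φ L) := by
  classical
  have hΦi : ∀ (g : S.G) (W : Submodule F (ι → F)) (v : ι → F), S.ap g v ∈ Φ (S.mapW g W) → v ∈ Φ W := by
    intro g W v hv
    have := hΦ g⁻¹ _ _ hv
    rwa [S.ap_inv_ap, ← mapW_mul, inv_mul_cancel, mapW_one] at this
  have h1 : ∀ v ∈ S.cls p c, A.card ≤ ((S.trn p L).filter fun W => v ∈ Φ W).card := by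
    intro v hv
    obtain ⟨⟨hpv, hQv⟩, hvs⟩ := S.mem_cls.1 hv
    obtain ⟨⟨hpv₀, hQv₀⟩, hv₀s⟩ := S.mem_cls.1 hv₀
    obtain ⟨g, hg⟩ := S.exists_map ![p, v₀] ![p, v] (AutPOmega.independent_pair hp0 hv₀s)
      (AutPOmega.independent_pair hp0 hvs) (by have := S.seven; omega)
      (fun i => by fin_cases i <;> simp [hQv, hQv₀])
      (fun i j => by
        fin_cases i <;> fin_cases j <;>
          simp [hpv, hpv₀, polar_comm (f := ⇑S.Q) v p, polar_comm (f := ⇑S.Q) v₀ p, polar_self', hQv,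
            hQv₀, hp])
    have e0 : S.ap g p = p := hg 0
    have e1 : S.ap g v₀ = v := hg 1
    refine Finset.card_le_card_of_injOn (S.mapW g) (fun W hW => ?_) ?_
    · obtain ⟨g', hg', rfl⟩ := S.mem_trn.1 (hA hW)
      refine Finset.mem_filter.2 ⟨S.mem_trn.2 ⟨g * g', by rw [ap_mul, hg', e0], mapW_mul g g' L⟩, ?_⟩
      rw [← e1]
      exact hΦ g _ _ (hAv _ hW)
    · intro W _ W' _ h
      have := congrArg (S.mapW g⁻¹) h
      rwa [← mapW_mul, ← mapW_mul, inv_mul_cancel, mapW_one, mapW_one] at this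
  have h2 : ∀ W ∈ S.trn p L, ((S.cls p c).filter fun v => v ∈ Φ W).card ≤ S.clsIn p c (Φ L) := by
    intro W hW
    obtain ⟨g, hg, rfl⟩ := S.mem_trn.1 hW
    refine Finset.card_le_card_of_injOn (S.ap g⁻¹) (fun v hv => ?_)
      fun _ _ _ _ h => S.ap_injective g⁻¹ h
    obtain ⟨hvc, hvW⟩ := Finset.mem_filter.1 hv
    refine Finset.mem_filter.2 ⟨S.cls_ap (S.fix_inv hg) hvc, hΦi g L _ ?_⟩
    rwa [S.ap_ap_inv]
  calc A.card * (S.cls p c).card = ∑ _v ∈ S.cls p c, A.card := by rw [Finset.sum_const, smul_eq_mul, mul_comm]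
    _ ≤ ∑ v ∈ S.cls p c, ((S.trn p L).filter fun W => v ∈ Φ W).card := Finset.sum_le_sum h1
    _ = ∑ W ∈ S.trn p L, ((S.cls p c).filter fun v => v ∈ Φ W).card := by
        simp only [Finset.card_filter]; exact Finset.sum_comm
    _ ≤ ∑ _W ∈ S.trn p L, S.clsIn p c (Φ L) := Finset.sum_le_sum h2
    _ = _ := by rw [Finset.sum_const, smul_eq_mul]

/-- translates of a totally singular derived subspace -/
theorem cover_trn_ts {p : ι → F} (hp : S.Q p = 0) (hp0 : p ≠ 0) (L : Submodule F (ι → F))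
    (Φ : Submodule F (ι → F) → Submodule F (ι → F))
    (hΦ : ∀ (g : S.G) (W : Submodule F (ι → F)), Φ (S.mapW g W) = S.mapW g (Φ W))
    {k : ℕ} (hk : Module.finrank F (Φ L) = k) (hk3 : 3 ≤ k) (hts : S.TS (Φ L)) (hpL : p ∈ Φ L) :
    (S.y0 - Fintype.card F) * (S.y2 - Fintype.card F ^ 2) ≤
      (S.trn p L).card * ((Fintype.card F ^ k - Fintype.card F) * (Fintype.card F ^ k - Fintype.card F ^ 2)) := by
  classical
  obtain ⟨-, h⟩ := S.point_family_count hp hp0 ((S.trn p L).image Φ) (k := k) (fun W hW => by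
      obtain ⟨W', hW', rfl⟩ := Finset.mem_image.1 hW
      obtain ⟨g, hg, rfl⟩ := S.mem_trn.1 hW'
      rw [hΦ]
      exact ⟨by rw [finrank_mapW, hk], hts.map g, p, hpL, hg⟩)
    (fun g hg W hW => by
      obtain ⟨W', hW', rfl⟩ := Finset.mem_image.1 hW
      obtain ⟨g', hg', rfl⟩ := S.mem_trn.1 hW'
      refine Finset.mem_image.2 ⟨S.mapW (g * g') L,
        S.mem_trn.2 ⟨g * g', by rw [ap_mul, hg', hg], rfl⟩, ?_⟩
      rw [mapW_mul, hΦ])
    ⟨Φ L, Finset.mem_image.2 ⟨L, S.self_mem_trn p L, rfl⟩⟩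
  refine (h hk3).trans ?_
  rw [mul_assoc]
  exact Nat.mul_le_mul_right _ Finset.card_image_le

/-- the points forced by the translates of a dual -/
theorem trn_le [Fintype X] (hq : (Fintype.card F).Prime) {ω : X} {p : ι → F} (hp : S.Q p = 0) (hp0 : p ≠ 0)
    (hnr : ¬ S.Reg ω p) :
    (S.trn p (S.lsp ω p)).card * Fintype.card F ^ Module.finrank F (S.lsp ω p) ≤
      Fintype.card F * S.nonReg X p :=
  S.translates_le hq hp hp0 hnr _ fun W hW => by
    obtain ⟨g, hg, rfl⟩ := S.mem_trn.1 hW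
    exact ⟨g, hg, rfl⟩

theorem orth_mapW (g : S.G) (W : Submodule F (ι → F)) : S.orth (S.mapW g W) = S.mapW g (S.orth W) := by
  ext v
  rw [S.mem_orth]
  constructor
  · intro h
    refine ⟨S.ap g⁻¹ v, S.mem_orth.2 fun w hw => ?_, S.ap_ap_inv g v⟩
    rw [← S.polar_ap g, S.ap_ap_inv]
    exact h _ ⟨w, hw, rfl⟩
  · rintro ⟨x, hx, rfl⟩ _ ⟨w, hw, rfl⟩
    rw [S.polar_ap]
    exact S.mem_orth.1 hx w hw

/-- the numbers of vectors of all values in a subspace -/
theorem clsIn_total {p : ι → F} (hp0 : p ≠ 0) {K : Submodule F (ι → F)} (hK : K ≤ S.pp p) (hpK : p ∈ K) :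
    ∑ c : F, S.clsIn p c K + Fintype.card F = Fintype.card F ^ Module.finrank F K := by
  classical
  rw [← card_sub, Nat.card_eq_fintype_card, Fintype.card_subtype]
  have hsp : (Finset.univ.filter fun v : ι → F => v ∈ Submodule.span F {p}).card = Fintype.card F := by
    rw [← Fintype.card_subtype, ← Nat.card_eq_fintype_card, card_sub, finrank_span_singleton hp0, pow_one]
  have hsub : (Finset.univ.filter fun v => v ∈ Submodule.span F {p}) ⊆ Finset.univ.filter fun v => v ∈ K :=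
    Finset.monotone_filter_right _ fun v _ h => (Submodule.span_singleton_le_iff_mem _ _).2 hpK h
  have hle := Finset.card_le_card hsub
  have h := Finset.card_sdiff_of_subset hsub
  rw [hsp] at h hle
  suffices ∑ c : F, S.clsIn p c K =
      ((Finset.univ.filter fun v => v ∈ K) \ Finset.univ.filter fun v => v ∈ Submodule.span F {p}).card by
    omega
  rw [Finset.card_eq_sum_card_fiberwise (f := fun v => S.Q v) (t := Finset.univ) fun _ _ => Finset.mem_univ _]
  refine Finset.sum_congr rfl fun c _ => ?_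
  rw [clsIn]
  congr 1
  ext v
  simp only [mem_cls, Finset.mem_filter, Finset.mem_sdiff, Finset.mem_univ, true_and]
  constructor
  · rintro ⟨⟨⟨-, h2⟩, h3⟩, h4⟩; exact ⟨⟨h4, h3⟩, h2⟩
  · rintro ⟨⟨h4, h3⟩, h2⟩; exact ⟨⟨⟨S.mem_pp.1 (hK h4), h2⟩, h3⟩, h4⟩

/-- an element of prime order fixes a point, and fixed points differ by its fixed vectors -/
theorem exists_fixed_elt [Fintype X] [Nonempty X]
    (huniq : ∀ (ω ω' : X) p, S.Q p = 0 → p ≠ 0 → ω' ∈ S.orb ω p)
    (hall : ∀ (ω : X) p, S.Q p = 0 → p ≠ 0 → S.Reg ω p)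
    {l : ℕ} (hl : l.Prime) (hlq : ¬ l ∣ Fintype.card F) {h : S.G} (hord : h ^ l = 1)
    {p : ι → F} (hp : S.Q p = 0) (hp0 : p ≠ 0) (hhp : S.ap h p = p) {R : Submodule F (ι → F)}
    (hfix : ∀ v, polar S.Q p v = 0 → S.ap h v - v ∈ Submodule.span F {p} → v ∈ R) :
    ∃ ω₁ : X, h • ω₁ = ω₁ ∧
      ∀ ω₂ : X, h • ω₂ = ω₂ → ∃ v ∈ R, polar S.Q p v = 0 ∧ ω₂ = S.el p v • ω₁ := by
  classical
  obtain ⟨ω⟩ := ‹Nonempty X›
  have hn := S.seven
  have hcard : Fintype.card X = Fintype.card F ^ (Fintype.card ι - 2) := by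
    rw [← S.orb_card_reg hp hp0 (hall ω p hp hp0), ← Nat.card_eq_fintype_card,
      show S.orb ω p = Set.univ from Set.eq_univ_of_forall fun x => huniq ω x p hp hp0, Set.ncard_univ]
  have : Fact l.Prime := ⟨hl⟩
  obtain ⟨ω₁, hω₁⟩ := Equiv.Perm.exists_fixed_point_of_prime (p := l) (n := 1)
    (σ := MulAction.toPerm h) (by
      rw [hcard]
      exact fun hd => hlq (hl.dvd_of_dvd_pow hd)) (by
      rw [pow_one, show (MulAction.toPerm h : Equiv.Perm X) = MulAction.toPermHom S.G X h from rfl,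
        ← map_pow, hord, map_one])
  change h • ω₁ = ω₁ at hω₁
  refine ⟨ω₁, hω₁, fun ω₂ h2 => ?_⟩
  obtain ⟨v, hv, rfl⟩ := huniq ω₁ ω₂ p hp hp0
  have hhv : polar S.Q p (S.ap h v) = 0 := by rw [← hhp, S.polar_ap, hv]
  have e1 : S.el p (S.ap h v) * h = h * S.el p v := by
    have e := S.el_conj hp hv h
    rw [hhp] at e
    rw [← e, inv_mul_cancel_right]
  rw [← mul_smul, ← e1, mul_smul, hω₁] at h2
  have hnv : polar S.Q p (-v) = 0 := by rw [polar_neg_right, hv, neg_zero]
  have h3 : S.el p (-v + S.ap h v) • ω₁ = ω₁ := by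
    rw [← S.el_add hp hnv hhv, mul_smul, h2, ← mul_smul, S.el_add hp hnv hv, neg_add_cancel, S.el_zero hp,
      one_smul]
  exact ⟨v, hfix v hv (by
    rw [sub_eq_neg_add]
    exact hall ω₁ p hp hp0 _ (by rw [polar_add_right, hnv, hhv, add_zero]) h3), hv, rfl⟩

/-- all orbits regular: an element of prime order with at most a line of fixed vectors -/
theorem no_all_regular_elt [Fintype X] [Nonempty X]
    (huniq : ∀ (ω ω' : X) p, S.Q p = 0 → p ≠ 0 → ω' ∈ S.orb ω p)
    (hall : ∀ (ω : X) p, S.Q p = 0 → p ≠ 0 → S.Reg ω p)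
    {l : ℕ} (hl : l.Prime) (hlq : ¬ l ∣ Fintype.card F) {h : S.G} (hord : h ^ l = 1)
    {p z u a b : ι → F} (hp : S.Q p = 0) (hp0 : p ≠ 0) (hhp : S.ap h p = p)
    (hfix : ∀ v, polar S.Q p v = 0 → S.ap h v - v ∈ Submodule.span F {p} → v ∈ Submodule.span F {p, z})
    (hpz : polar S.Q p z = 0) (hu : S.Q u = 0) (hu0 : u ≠ 0) (hua : polar S.Q u a = 0)
    (hub : polar S.Q u b = 0) (hind : ∀ s t : F, s • a + t • b ∈ Submodule.span F {u} → s = 0 ∧ t = 0)
    (hca : ∀ s t : F, h * S.el u (s • a + t • b) = S.el u (s • a + t • b) * h)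
    (hpu : polar S.Q p u = 0) (hzu : polar S.Q z u = 0) (hza : polar S.Q z a = 0)
    (hzb : polar S.Q z b = 0) (hpa : polar S.Q p a = 0) (hpb : polar S.Q p b = 0)
    (hq : (Fintype.card F).Prime) : False := by
  classical
  obtain ⟨ω₁, hω₁, hfixed'⟩ := S.exists_fixed_elt huniq hall hl hlq hord hp hp0 hhp hfix
  -- fixed points are translates along `z`
  have hfixed : ∀ ω₂ : X, h • ω₂ = ω₂ → ∃ t : F, ω₂ = S.el p (t • z) • ω₁ := by
    intro ω₂ h2
    obtain ⟨v, hvR, -, rfl⟩ := hfixed' ω₂ h2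
    obtain ⟨α, β, rfl⟩ := Submodule.mem_span_pair.1 hvR
    refine ⟨β, ?_⟩
    rw [← S.el_add hp (by rw [polar_smul_right, S.polar_self_zero hp, smul_zero])
      (by rw [polar_smul_right, hpz, smul_zero]), S.el_smul_self hp, one_mul]
  let T : (ι → F) → F → Prop := fun x s => S.el u x • ω₁ = S.el p (s • z) • ω₁
  have hT : ∀ s t : F, ∃ r, T (s • a + t • b) r := fun s t => by
    refine hfixed _ ?_
    rw [← mul_smul, hca, mul_smul, hω₁]
  obtain ⟨ra, hra⟩ := hT 1 0
  obtain ⟨rb, hrb⟩ := hT 0 1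
  simp only [T, one_smul, zero_smul, add_zero, zero_add] at hra hrb
  -- additivity
  have hperp : ∀ {x : ι → F}, polar S.Q z x = 0 → polar S.Q p x = 0 → polar S.Q u x = 0 → ∀ r : F,
      S.el u x * S.el p (r • z) = S.el p (r • z) * S.el u x := by
    intro x hzx hpx hux r
    have e := S.el_conj hp (show polar S.Q p (r • z) = 0 by rw [polar_smul_right, hpz, smul_zero]) (S.el u x)
    rw [S.ap_el_of_perp hu hux hpu hpx, map_smul, S.ap_el_of_perp hu hux hzu hzx] at e
    exact mul_inv_eq_iff_eq_mul.1 e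
  have hadd : ∀ {x x' : ι → F} {r r' : F}, polar S.Q z x = 0 → polar S.Q p x = 0 → polar S.Q u x = 0 →
      polar S.Q u x' = 0 → T x r → T x' r' → T (x + x') (r' + r) := by
    intro x x' r r' hzx hpx hux hux' h1 h2
    show S.el u (x + x') • ω₁ = _
    rw [← S.el_add hu hux hux', mul_smul, h2, ← mul_smul, hperp hzx hpx hux, mul_smul, h1, ← mul_smul,
      S.el_add hp (by rw [polar_smul_right, hpz, smul_zero]) (by rw [polar_smul_right, hpz, smul_zero]),
      ← add_smul]
  have hnat : ∀ {x : ι → F} {r : F}, polar S.Q z x = 0 → polar S.Q p x = 0 → polar S.Q u x = 0 → T x r →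
      ∀ n : ℕ, T ((n : F) • x) ((n : F) * r) := by
    intro x r hzx hpx hux h n
    induction n with
    | zero => simp only [T, Nat.cast_zero, zero_smul, zero_mul, S.el_zero hu, S.el_zero hp]
    | succ n ih =>
      rw [Nat.cast_succ, add_smul, one_smul, add_mul, one_mul, add_comm _ r]
      exact hadd (by rw [polar_smul_right, hzx, smul_zero]) (by rw [polar_smul_right, hpx, smul_zero])
        (by rw [polar_smul_right, hux, smul_zero]) hux ih h
  have hreg : ∀ {x : ι → F}, polar S.Q u x = 0 → x ∉ Submodule.span F {u} → ¬ T x 0 := fun hux hxs h0 =>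
    hxs (hall ω₁ u hu hu0 _ hux (by
      have : S.el u _ • ω₁ = S.el p ((0 : F) • z) • ω₁ := h0
      rwa [zero_smul, S.el_zero hp, one_smul] at this))
  by_cases hra0 : ra = 0
  · subst hra0
    exact hreg hua (fun h => one_ne_zero (hind 1 0 (by simpa using h)).1) hra
  · have : Fact (Fintype.card F).Prime := ⟨hq⟩
    have h1 : AddSubmonoid.multiples (1 : F) = ⊤ := by
      rw [AddSubmonoid.eq_top_iff']
      intro x
      have hz : AddSubgroup.zmultiples (1 : F) = ⊤ :=
        zmultiples_eq_top_of_prime_card (p := Fintype.card F) (Nat.card_eq_fintype_card) one_ne_zero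
      rw [(isOfFinAddOrder_of_finite (1 : F)).mem_multiples_iff_mem_zmultiples, hz]
      exact AddSubgroup.mem_top x
    obtain ⟨n, hn⟩ := (AddSubmonoid.mem_multiples_iff _ _).1
      (show -(rb / ra) ∈ AddSubmonoid.multiples (1 : F) by rw [h1]; exact AddSubmonoid.mem_top _)
    simp only [nsmul_eq_mul, mul_one] at hn
    have h2 := hadd (x' := b) (by rw [polar_smul_right, hza, smul_zero]) (by rw [polar_smul_right, hpa, smul_zero])
      (by rw [polar_smul_right, hua, smul_zero]) hub (hnat hza hpa hua hra n) hrb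
    rw [hn, show rb + -(rb / ra) * ra = 0 by field_simp; ring] at h2
    exact hreg (by rw [polar_add_right, polar_smul_right, hua, hub]; simp)
      (fun h => one_ne_zero (hind (-(rb / ra)) 1 (by simpa using h)).2) h2

end Space

end CfsgLib.MinIndexOrth
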