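import Cfsg.Agent.Lib.MinIndexOrth.Orbit

/-!
Counting the dual subgroups of the radical orbits, their invariance, the three orbit types and the
commutator inequality between two orthogonal singular points.
-/

set_option autoImplicit false
set_option linter.unusedSectionVars false

namespace CfsgLib.MinIndexOrth

open Matrix QuadraticMap CfsgLib.Orth CfsgLib.KnownSimple.ModulePerm
open scoped Pointwise

variable {ι : Type} [Fintype ι] [DecidableEq ι] {F : Type*} [Field F] [Fintype F]

namespace Space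

variable (S : Space ι F) {X : Type*} [MulAction S.G X]

/-- number of vectors of value `c` orthogonal to `p` -/
noncomputable def cnt (p : ι → F) (c : F) : ℕ := Nat.card {y : ι → F // polar S.Q p y = 0 ∧ S.Q y = c}

/-- the radical of `p` fixes `ω` -/
def Fixed (ω : X) (p : ι → F) : Prop := ∀ v, polar S.Q p v = 0 → S.el p v • ω = ω

/-- the radical of `p` is regular on the orbit of `ω` -/
def Reg (ω : X) (p : ι → F) : Prop :=
  ∀ v, polar S.Q p v = 0 → S.el p v • ω = ω → v ∈ Submodule.span F {p}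

/-- the span of the dual subgroup -/
noncomputable def lsp (ω : X) (p : ι → F) : Submodule F (ι → F) :=
  Submodule.span F (S.dl ω p : Set (ι → F))

/-- the orbits of the radical -/
noncomputable def orbs [Fintype X] (p : ι → F) : Finset (Set X) := by
  classical exact Finset.univ.image fun ω => S.orb ω p

/-- the orbits whose dual contains `y` -/
noncomputable def orbsAt [Fintype X] (p y : ι → F) : Finset (Set X) := by
  classical exact (S.orbs (X := X) p).filter fun o => ∃ ω ∈ o, y ∈ S.dl ω p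

theorem mem_orbs [Fintype X] {p : ι → F} {o : Set X} :
    o ∈ S.orbs (X := X) p ↔ ∃ ω, S.orb ω p = o := by
  classical
  simp [orbs]

theorem mem_orbsAt [Fintype X] {p y : ι → F} {o : Set X} :
    o ∈ S.orbsAt (X := X) p y ↔ o ∈ S.orbs p ∧ ∃ ω ∈ o, y ∈ S.dl ω p := by
  classical
  simp [orbsAt]

theorem orb_mem_orbsAt [Fintype X] {p y : ι → F} {ω : X} (hp : S.Q p = 0) (hy : y ∈ S.dl ω p) :
    S.orb ω p ∈ S.orbsAt p y :=
  S.mem_orbsAt.2 ⟨S.mem_orbs.2 ⟨ω, rfl⟩, ω, S.self_mem_orb ω hp, hy⟩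

theorem mem_dl_of_mem_orbsAt [Fintype X] {p y : ι → F} {ω : X} (hp : S.Q p = 0)
    (h : S.orb ω p ∈ S.orbsAt p y) : y ∈ S.dl ω p := by
  obtain ⟨-, ω', hω', hy⟩ := S.mem_orbsAt.1 h
  rwa [S.dl_of_mem_orb hp hω'] at hy

theorem sum_orbs [Fintype X] {p : ι → F} (hp : S.Q p = 0) :
    ∑ o ∈ S.orbs (X := X) p, o.ncard = Fintype.card X := by
  classical
  rw [← Finset.card_univ]
  refine ((Finset.card_eq_sum_card_image (fun ω => S.orb ω p) Finset.univ).trans ?_).symm
  rw [show S.orbs (X := X) p = Finset.univ.image (fun ω => S.orb ω p) by simp [orbs]]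
  refine Finset.sum_congr rfl fun o ho => ?_
  obtain ⟨ω, -, rfl⟩ := Finset.mem_image.1 ho
  rw [Set.ncard_eq_toFinset_card']
  congr 1
  ext x
  simp only [Finset.mem_filter, Finset.mem_univ, true_and, Set.mem_toFinset]
  exact ⟨fun h => h ▸ S.self_mem_orb x hp, S.orb_eq hp⟩

theorem card_orbsAt_ap [Fintype X] (g : S.G) {p y : ι → F} (hp : S.Q p = 0) :
    (S.orbsAt (X := X) (S.ap g p) (S.ap g y)).card = (S.orbsAt (X := X) p y).card := by
  classical
  have key : ∀ (g : S.G) (p y : ι → F), S.Q p = 0 →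
      (S.orbsAt (X := X) p y).card ≤ (S.orbsAt (X := X) (S.ap g p) (S.ap g y)).card := by
    intro g p y hp
    refine Finset.card_le_card_of_injOn (fun o => (fun x => g • x) '' o) ?_ ?_
    · intro o ho
      obtain ⟨hm, ω, hω, hy⟩ := S.mem_orbsAt.1 ho
      obtain ⟨ω', rfl⟩ := S.mem_orbs.1 hm
      refine S.mem_orbsAt.2 ⟨S.mem_orbs.2 ⟨g • ω', S.orb_ap g hp⟩, g • ω, ⟨ω, hω, rfl⟩, ?_⟩
      exact (S.mem_dl_ap g hp).2 hy
    · exact fun o _ o' _ h => (MulAction.injective g).image_injective h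
  refine le_antisymm ?_ (key g p y hp)
  have := key g⁻¹ (S.ap g p) (S.ap g y) (by rw [S.Q_ap, hp])
  rwa [S.ap_inv_ap, S.ap_inv_ap] at this

/-- the number of orbits with a given dual vector, times the number of such vectors -/
theorem orbsAt_mul_le [Fintype X] {p : ι → F} (hp : S.Q p = 0) (hp0 : p ≠ 0) (Y : Finset (ι → F))
    (hY : ∀ y ∈ Y, y ∉ Submodule.span F {p}) (k : ℕ)
    (hk : ∀ y ∈ Y, k ≤ (S.orbsAt (X := X) p y).card) :
    k * Y.card + Fintype.card F * (S.orbs (X := X) p).card ≤ Fintype.card F * Fintype.card X := by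
  classical
  set q := Fintype.card F
  have h1 : ∀ o ∈ S.orbs (X := X) p,
      (Y.filter fun y => o ∈ S.orbsAt (X := X) p y).card + q ≤ q * o.ncard := by
    intro o ho
    obtain ⟨ω, rfl⟩ := S.mem_orbs.1 ho
    rw [← S.card_dl ω hp hp0]
    have hspan : (Finset.univ.image fun t : F => t • p).card = q := by
      rw [Finset.card_image_of_injective _ (smul_left_injective F hp0), Finset.card_univ]
    rw [← hspan, ← Finset.card_union_of_disjoint]
    · rw [Nat.card_eq_fintype_card, Fintype.card_subtype]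
      refine Finset.card_le_card fun y hy => ?_
      simp only [Finset.mem_filter, Finset.mem_univ, true_and]
      rcases Finset.mem_union.1 hy with h | h
      · exact S.mem_dl_of_mem_orbsAt hp (Finset.mem_filter.1 h).2
      · obtain ⟨t, -, rfl⟩ := Finset.mem_image.1 h
        exact S.smul_self_mem_dl ω p t
    · rw [Finset.disjoint_right]
      intro y hy hy'
      obtain ⟨t, -, rfl⟩ := Finset.mem_image.1 hy
      exact hY _ (Finset.mem_filter.1 hy').1 (Submodule.mem_span_singleton.2 ⟨t, rfl⟩)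
  have h2 := Finset.sum_le_sum h1
  rw [Finset.sum_add_distrib, Finset.sum_const, smul_eq_mul, ← Finset.mul_sum, S.sum_orbs hp] at h2
  have h3 : k * Y.card ≤ ∑ o ∈ S.orbs (X := X) p, (Y.filter fun y => o ∈ S.orbsAt (X := X) p y).card := by
    simp only [Finset.card_filter]
    rw [Finset.sum_comm, mul_comm, ← smul_eq_mul, ← Finset.sum_const]
    refine Finset.sum_le_sum fun y hy => (hk y hy).trans ?_
    rw [← Finset.card_filter]
    exact Finset.card_le_card fun o ho => Finset.mem_filter.2 ⟨(S.mem_orbsAt.1 ho).1, ho⟩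
  rw [mul_comm q (S.orbs (X := X) p).card]
  omega

theorem orbsAt_smul [Fintype X] {p y : ι → F} (hp : S.Q p = 0) {e : F} (he : e ≠ 0) :
    S.orbsAt (X := X) (e • p) y = S.orbsAt p (e⁻¹ • y) := by
  classical
  ext o
  rw [S.mem_orbsAt, S.mem_orbsAt, S.mem_orbs, S.mem_orbs]
  simp only [S.orb_smul hp he, S.mem_dl_smul hp he]

variable (X) in
/-- Eichler transformations centralising `p` and `y` fix the orbits whose dual contains `y` -/
def Inv : Prop :=
  ∀ (ω : X) (p y u a : ι → F), S.Q p = 0 → p ≠ 0 → S.Q y ≠ 0 → y ∈ S.dl ω p → S.Q u = 0 →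
    polar S.Q u a = 0 → polar S.Q p u = 0 → polar S.Q y u = 0 → polar S.Q p a = 0 →
    polar S.Q y a = 0 → S.el u a • ω ∈ S.orb ω p

/-- a bound on the number of orbits whose dual contains a given non-singular vector -/
theorem orbsAt_lt [Fintype X] (b : ℕ)
    (hc : ∀ p c, S.Q p = 0 → p ≠ 0 → c ≠ 0 → Nat.card {t : F // t * t = 1} * (Fintype.card F * Fintype.card X) ≤
      b * ((Fintype.card F - 1) * S.cnt p c)) {ω : X} {p y : ι → F} (hp : S.Q p = 0) (hp0 : p ≠ 0)
    (hy : S.Q y ≠ 0) (hyd : y ∈ S.dl ω p) : (S.orbsAt (X := X) p y).card < b := by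
  classical
  set c := S.Q y with hcdef
  have hpy : polar S.Q p y = 0 := S.mem_pp.1 (S.dl_le ω hp hyd)
  set Yc := Finset.univ.filter (fun z : ι → F => polar S.Q p z = 0 ∧ S.Q z = c) with hYcdef
  set E := (Finset.univ.filter fun e : F => e ≠ 0) ×ˢ Yc
  set Y := E.image fun ez => ez.1 • ez.2 with hYdef
  have hcnt : S.cnt p c = Yc.card := by
    rw [cnt, Nat.card_eq_fintype_card, Fintype.card_subtype]
  have hE : ∀ ez ∈ E, ez.1 ≠ 0 ∧ polar S.Q p ez.2 = 0 ∧ S.Q ez.2 = c := fun ez hez => by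
    simpa [E, Yc] using hez
  have hsize : (Fintype.card F - 1) * S.cnt p c ≤ Nat.card {t : F // t * t = 1} * Y.card := by
    rw [hcnt, show (Fintype.card F - 1) * Yc.card = E.card by
      rw [Finset.card_product, Finset.filter_ne', Finset.card_erase_of_mem (Finset.mem_univ _),
        Finset.card_univ]]
    refine Finset.card_le_mul_card_image E _ fun z hz => ?_
    obtain ⟨ez₀, hez₀, rfl⟩ := Finset.mem_image.1 hz
    rw [Nat.card_eq_fintype_card, Fintype.card_subtype]
    refine Finset.card_le_card_of_injOn (fun ez => ez.1 / ez₀.1) ?_ ?_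
    · intro ez hez
      simp only [Finset.mem_coe, Finset.mem_filter] at hez
      obtain ⟨he, -, hQ⟩ := hE ez hez.1
      obtain ⟨he₀, -, hQ₀⟩ := hE ez₀ hez₀
      have h1 := congrArg S.Q hez.2
      rw [QuadraticMap.map_smul, QuadraticMap.map_smul, hQ, hQ₀, smul_eq_mul, smul_eq_mul] at h1
      simp only [Finset.coe_filter, Finset.mem_univ, true_and, Set.mem_setOf_eq]
      field_simp
      have h2 := mul_right_cancel₀ hy h1
      linear_combination h2
    · intro ez hez ez' hez' h
      simp only [Finset.mem_coe, Finset.mem_filter] at hez hez'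
      obtain ⟨he₀, -, -⟩ := hE ez₀ hez₀
      have h1 : ez.1 = ez'.1 := by simpa [div_left_inj' he₀] using h
      refine Prod.ext h1 ?_
      have h2 := hez.2.trans hez'.2.symm
      rw [h1] at h2
      exact smul_right_injective _ (hE ez' hez'.1).1 h2
  have hYs : ∀ z ∈ Y, z ∉ Submodule.span F {p} := by
    intro z hz hzs
    obtain ⟨ez, hez, rfl⟩ := Finset.mem_image.1 hz
    obtain ⟨t, ht⟩ := Submodule.mem_span_singleton.1 hzs
    obtain ⟨he, -, hQ⟩ := hE ez hez
    have h1 := congrArg S.Q ht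
    rw [QuadraticMap.map_smul, QuadraticMap.map_smul, hp, hQ, smul_zero, smul_eq_mul] at h1
    exact mul_ne_zero (mul_ne_zero he he) hy h1.symm
  have hind : ∀ (e : F) (z : ι → F), e ≠ 0 → S.Q z ≠ 0 → LinearIndependent F ![e • p, z] := fun e z he hz =>
    LinearIndependent.pair_iff' (smul_ne_zero he hp0) |>.2 fun t ht => hz (by
      rw [← ht, QuadraticMap.map_smul, QuadraticMap.map_smul, hp, smul_zero, smul_zero])
  have hconst : ∀ z ∈ Y, (S.orbsAt (X := X) p z).card = (S.orbsAt (X := X) p y).card := by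
    intro z hz
    obtain ⟨⟨e, z⟩, hez, rfl⟩ := Finset.mem_image.1 hz
    obtain ⟨he, hpz, hQz⟩ := hE _ hez
    simp only at he hpz hQz ⊢
    obtain ⟨g, hg⟩ := S.exists_map ![p, y] ![e⁻¹ • p, z]
      (by simpa using hind 1 y one_ne_zero hy) (hind _ z (inv_ne_zero he) (hQz.symm ▸ hy))
      (by have := S.seven; omega) (fun i => by fin_cases i <;> simp [hQz, c, QuadraticMap.map_smul, hp])
      (fun i j => by
        fin_cases i <;> fin_cases j <;>
          simp [hpz, hpy, polar_comm (f := ⇑S.Q) z p, polar_comm (f := ⇑S.Q) y p, polar_self', hQz, c,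
            hp, polar_smul_left, polar_smul_right, QuadraticMap.map_smul])
    have h1 : S.ap g p = e⁻¹ • p := hg 0
    have h2 : S.ap g y = z := hg 1
    have h3 := S.card_orbsAt_ap (X := X) g (y := y) hp
    rwa [h1, h2, S.orbsAt_smul hp (inv_ne_zero he), inv_inv] at h3
  have hle := S.orbsAt_mul_le hp hp0 Y hYs _ fun z hz => (hconst z hz).ge
  have hne : 0 < (S.orbs (X := X) p).card := Finset.card_pos.2 ⟨_, S.mem_orbs.2 ⟨ω, rfl⟩⟩
  by_contra hge
  push Not at hge
  have h1 := (hc p c hp hp0 hy).trans (Nat.mul_le_mul_left b hsize)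
  have h2 := Nat.mul_le_mul_right Y.card hge
  have h3 : 0 < Fintype.card F * (S.orbs (X := X) p).card := Nat.mul_pos Fintype.card_pos hne
  have h4 : 0 < Nat.card {t : F // t * t = 1} := by
    have : Nonempty {t : F // t * t = 1} := ⟨⟨1, one_mul 1⟩⟩
    exact Nat.card_pos
  rw [Nat.mul_left_comm b] at h1
  have h5 := Nat.le_of_mul_le_mul_left h1 h4
  omega

/-- invariance from a count: fewer orbits than the characteristic -/
theorem inv_of_count [Fintype X] (ch : ℕ) [CharP F ch] (hch : ch.Prime)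
    (hc : ∀ p c, S.Q p = 0 → p ≠ 0 → c ≠ 0 → Nat.card {t : F // t * t = 1} * (Fintype.card F * Fintype.card X) ≤
      ch * ((Fintype.card F - 1) * S.cnt p c)) :
    S.Inv X := by
  classical
  intro ω p y u a hp hp0 hy hyd hu hua hpu hyu hpa hya
  have hpy : polar S.Q p y = 0 := S.mem_pp.1 (S.dl_le ω hp hyd)
  have hlt := S.orbsAt_lt ch hc hp hp0 hy hyd
  set g := S.el u a with hg
  have hgp : S.ap g p = p := S.ap_el_of_perp hu hua hpu hpa
  have hgy : S.ap g y = y := S.ap_el_of_perp hu hua hyu hya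
  have hmem : ∀ i : ℕ, S.orb (g ^ i • ω) p ∈ S.orbsAt (X := X) p y := by
    intro i
    refine S.orb_mem_orbsAt hp ?_
    induction i with
    | zero => simpa using hyd
    | succ i ih =>
      have := (S.mem_dl_ap g hp).2 ih
      rwa [hgp, hgy, ← mul_smul, ← pow_succ'] at this
  have hpow : g ^ ch = 1 := by
    rw [hg, S.el_pow hu hua, CharP.cast_eq_zero, zero_smul, S.el_zero hu]
  have hshift : ∀ {ω₁ ω₂ : X}, S.orb ω₁ p = S.orb ω₂ p → ∀ k : ℕ,
      S.orb (g ^ k • ω₁) p = S.orb (g ^ k • ω₂) p := by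
    intro ω₁ ω₂ h k
    have hgk : S.ap (g ^ k) p = p := by
      induction k with
      | zero => simp
      | succ k ih => rw [pow_succ, ap_mul, hgp, ih]
    have h1 := S.orb_ap (g ^ k) (ω := ω₁) hp
    have h2 := S.orb_ap (g ^ k) (ω := ω₂) hp
    rw [hgk] at h1 h2
    rw [h1, h2, h]
  by_contra hne2
  have hinj : Set.InjOn (fun i : ℕ => S.orb (g ^ i • ω) p) (Finset.range ch) := by
    intro i hi j hj hij
    simp only [Finset.coe_range, Set.mem_Iio] at hi hj
    by_contra hne3
    obtain ⟨i, j, hlt', hj', hij'⟩ : ∃ i j, i < j ∧ j < ch ∧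
        S.orb (g ^ i • ω) p = S.orb (g ^ j • ω) p := by
      rcases lt_or_gt_of_ne hne3 with h | h
      · exact ⟨i, j, h, hj, hij⟩
      · exact ⟨j, i, h, hi, hij.symm⟩
    -- the period `j - i` generates modulo `ch`
    have hper : S.orb (g ^ (j - i) • ω) p = S.orb ω p := by
      have := hshift hij'.symm (ch - i)
      rw [← mul_smul, ← mul_smul, ← pow_add, ← pow_add, show ch - i + i = ch by omega,
        show ch - i + j = (j - i) + ch by omega, pow_add g (j - i), hpow, mul_one, one_smul] at this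
      exact this
    have hall : ∀ k : ℕ, S.orb (g ^ (k * (j - i)) • ω) p = S.orb ω p := by
      intro k
      induction k with
      | zero => simp
      | succ k ih =>
        have := hshift hper (k * (j - i))
        rw [ih, ← mul_smul, ← pow_add] at this
        rwa [Nat.succ_mul]
    have hcop : (j - i).Coprime ch := (hch.coprime_iff_not_dvd.2 fun hd => by
      have := Nat.le_of_dvd (show 0 < j - i by omega) hd
      omega).symm
    obtain ⟨k, -, hk⟩ := Nat.exists_mul_mod_eq_one_of_coprime hcop hch.one_lt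
    have h1 := hall k
    rw [mul_comm, ← Nat.div_add_mod ((j - i) * k) ch, hk, pow_add, pow_mul, hpow, one_pow, one_mul,
      pow_one] at h1
    exact hne2 (h1 ▸ S.self_mem_orb _ hp)
  have h1 := Finset.card_le_card_of_injOn _ (fun i _ => hmem i) hinj
  rw [Finset.card_range] at h1
  omega

/-! ### The three types -/

theorem pp_le_of_pair {p y : ι → F} (hp : S.Q p = 0) (hp0 : p ≠ 0) (hy : S.Q y ≠ 0)
    (hpy : polar S.Q p y = 0) :
    ∃ W : Submodule F (ι → F), (∀ v, v ∈ W ↔ polar S.Q p v = 0 ∧ polar S.Q y v = 0) ∧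
      ∃ s ∈ W, ∃ w ∈ W, S.Q s = 0 ∧ polar S.Q s w = 1 ∧ S.Q w = 0 := by
  refine ⟨S.orth (Submodule.span F {p, y}), fun v => by simp [S.mem_orth_span], ?_⟩
  obtain ⟨p', hpp', hp'⟩ := S.exists_partner hp hp0
  obtain ⟨s, hs, hs0, hQs⟩ := S.exists_sing ![p, p', y] (by have := S.seven; omega)
  have h1 : polar S.Q p s = 0 := hs 0
  have h2 : polar S.Q p' s = 0 := hs 1
  have h3 : polar S.Q y s = 0 := hs 2
  obtain ⟨w, hw, hsw, hQw⟩ := POmega.exists_pair S.nondeg ![p, y] hQs
    (fun i => by fin_cases i <;> assumption) (by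
      rw [Matrix.range_cons, Matrix.range_cons, Matrix.range_empty, Set.union_empty,
        Set.singleton_union, Submodule.mem_span_pair]
      rintro ⟨α, β, rfl⟩
      rw [polar_add_right, polar_smul_right, polar_smul_right, polar_comm (f := ⇑S.Q) p' p, hpp',
        smul_eq_mul, smul_eq_mul, mul_one] at h2
      simp only [QuadraticMap.map_add ⇑S.Q, QuadraticMap.map_smul, polar_smul_left, polar_smul_right,
        hp, hpy, smul_eq_mul, mul_zero, add_zero, zero_add] at hQs
      have hβ : β = 0 := mul_self_eq_zero.1 ((mul_eq_zero.1 hQs).resolve_right hy)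
      rw [hβ, zero_mul, add_zero] at h2
      exact hs0 (by rw [h2, hβ, zero_smul, zero_smul, add_zero]))
  exact ⟨s, by simp [S.mem_orth_span, h1, h3], w,
    S.mem_orth_span.2 (by
      intro z hz
      simp only [Set.mem_insert_iff, Set.mem_singleton_iff] at hz
      rcases hz with rfl | rfl
      · exact hw 0
      · exact hw 1), hQs, hsw, hQw⟩

/-- an invariant dual with a non-singular vector is small or everything -/
theorem dl_big (hinv : S.Inv X) {ω : X} {p y x : ι → F} (hp : S.Q p = 0) (hp0 : p ≠ 0)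
    (hy : S.Q y ≠ 0) (hyd : y ∈ S.dl ω p) (hxd : x ∈ S.dl ω p)
    (hx : x ∉ Submodule.span F {p, y}) : ∀ v, polar S.Q p v = 0 → v ∈ S.dl ω p := by
  have hn := S.seven
  have key : ∀ (y x : ι → F), S.Q y ≠ 0 → y ∈ S.dl ω p → x ∈ S.dl ω p →
      x ∉ Submodule.span F {p, y} →
      ∀ v, polar S.Q p v = 0 → polar S.Q y v = 0 → v ∈ S.dl ω p := by
    intro y x hy hyd hxd hx
    have hpy : polar S.Q p y = 0 := S.mem_pp.1 (S.dl_le ω hp hyd)
    obtain ⟨W, hW, s, hs, w, hw, hQs, hsw, hQw⟩ := S.pp_le_of_pair hp hp0 hy hpy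
    have hsw0 : polar S.Q s w ≠ 0 := by rw [hsw]; exact one_ne_zero
    have step : ∀ z ∈ S.dl ω p, ∀ u ∈ W, S.Q u = 0 → polar S.Q z u ≠ 0 →
        ∀ t : F, t • u ∈ S.dl ω p := by
      intro z hz u hu hQu hzu t
      obtain ⟨hpu, hyu⟩ := (hW u).1 hu
      -- two non-orthogonal admissible directions
      obtain ⟨a₁, a₂, h₁, h₂, ha⟩ : ∃ a₁ a₂, (polar S.Q p a₁ = 0 ∧ polar S.Q y a₁ = 0 ∧
          polar S.Q u a₁ = 0) ∧ (polar S.Q p a₂ = 0 ∧ polar S.Q y a₂ = 0 ∧ polar S.Q u a₂ = 0) ∧
          polar S.Q a₁ a₂ ≠ 0 := by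
        by_contra hc
        push Not at hc
        let P := Submodule.span F (Set.range ![p, y, u])
        have hmem : ∀ v, v ∈ S.orth P → polar S.Q p v = 0 ∧ polar S.Q y v = 0 ∧ polar S.Q u v = 0 :=
          fun v hv => ⟨S.mem_orth_span.1 hv p ⟨0, rfl⟩, S.mem_orth_span.1 hv y ⟨1, rfl⟩,
            S.mem_orth_span.1 hv u ⟨2, rfl⟩⟩
        have hle : S.orth P ≤ S.orth (S.orth P) := fun a hA => S.mem_orth.2 fun b hb =>
          hc b a (hmem b hb) (hmem a hA)
        rw [S.orth_orth] at hle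
        have h1 := Submodule.finrank_mono hle
        have h2 := finrank_range_le_card (R := F) ![p, y, u]
        rw [Set.finrank, Fintype.card_fin] at h2
        have h3 : Fintype.card ι - 3 ≤ Module.finrank F (S.orth P) := S.le_finrank_orth _
        change Module.finrank F P ≤ 3 at h2
        omega
      have hmove : ∀ a, polar S.Q p a = 0 ∧ polar S.Q y a = 0 ∧ polar S.Q u a = 0 →
          S.ap (S.el u a) z - z ∈ S.dl ω p := by
        rintro a ⟨hpa, hya, hua⟩
        have horb := hinv ω p y u a hp hp0 hy hyd hQu hua hpu hyu hpa hya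
        have h := (S.mem_dl_ap (S.el u a) hp).2 hz
        rw [S.ap_el_of_perp hQu hua hpu hpa, S.dl_of_mem_orb hp horb] at h
        exact sub_mem h hz
      set b := -(t / (polar S.Q a₁ a₂ * polar S.Q z u))
      have hb₁ : polar S.Q p (b • a₁) = 0 ∧ polar S.Q y (b • a₁) = 0 ∧ polar S.Q u (b • a₁) = 0 := by
        simp [polar_smul_right, h₁.1, h₁.2.1, h₁.2.2]
      have hb₃ : polar S.Q p (b • a₁ + a₂) = 0 ∧ polar S.Q y (b • a₁ + a₂) = 0 ∧
          polar S.Q u (b • a₁ + a₂) = 0 := by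
        simp [polar_add_right, hb₁.1, hb₁.2.1, hb₁.2.2, h₂.1, h₂.2.1, h₂.2.2]
      have hfin := sub_mem (sub_mem (hmove _ hb₃) (hmove _ hb₁)) (hmove _ h₂)
      rw [S.ap_el hQu hb₃.2.2, S.ap_el hQu hb₁.2.2, S.ap_el hQu h₂.2.2] at hfin
      convert hfin using 1
      rw [QuadraticMap.map_add ⇑S.Q (b • a₁) a₂, polar_add_right, polar_smul_left, smul_eq_mul]
      simp only [b]
      match_scalars <;> field_simp <;> ring
    -- a first singular vector with all its multiples
    obtain ⟨v₀, hv₀, hxv₀⟩ : ∃ v ∈ W, polar S.Q x v ≠ 0 := by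
      by_contra hc
      push Not at hc
      apply hx
      rw [← S.orth_orth (Submodule.span F {p, y})]
      refine S.mem_orth.2 fun v hv => ?_
      rw [polar_comm]
      exact hc v ((hW v).2 ⟨S.mem_orth_span.1 hv p (by simp), S.mem_orth_span.1 hv y (by simp)⟩)
    obtain ⟨u₀, hu₀, hQu₀, hxu₀⟩ := S.exists_sing_pairing hs hQs hw hsw0 hv₀ hxv₀
    have hu₀d : ∀ t : F, t • u₀ ∈ S.dl ω p := step x hxd u₀ hu₀ hQu₀ hxu₀
    have hall : ∀ u ∈ W, S.Q u = 0 → ∀ t : F, t • u ∈ S.dl ω p := by
      intro u hu hQu t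
      by_cases h1 : polar S.Q x u = 0
      swap
      · exact step x hxd u hu hQu h1 t
      by_cases h2 : polar S.Q u₀ u = 0
      swap
      · exact step u₀ (by simpa using hu₀d 1) u hu hQu h2 t
      have h3 := step x hxd (u + u₀) (add_mem hu hu₀) (by
        rw [QuadraticMap.map_add ⇑S.Q, hQu, hQu₀, polar_comm (f := ⇑S.Q) u u₀, h2]; simp)
        (by rwa [polar_add_right, h1, zero_add]) t
      rw [smul_add] at h3
      exact (AddSubgroup.add_mem_cancel_right _ (hu₀d t)).1 h3
    let P : Submodule F (ι → F) :=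
      { carrier := {v | ∀ t : F, t • v ∈ S.dl ω p}
        zero_mem' := fun t => by rw [smul_zero]; exact zero_mem _
        add_mem' := fun {a b} ha hb t => by rw [smul_add]; exact add_mem (ha t) (hb t)
        smul_mem' := fun c v hv t => by rw [smul_smul]; exact hv _ }
    intro v hpv hyv
    have := S.le_of_sing (P := P) hs hQs hw hsw0 hall ((hW v).2 ⟨hpv, hyv⟩) 1
    rwa [one_smul] at this
  have hpy : polar S.Q p y = 0 := S.mem_pp.1 (S.dl_le ω hp hyd)
  have h1 := key y x hy hyd hxd hx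
  obtain ⟨W, hW, s, hs, w, hw, hQs, hsw, hQw⟩ := S.pp_le_of_pair hp hp0 hy hpy
  obtain ⟨hps, hys⟩ := (hW s).1 hs
  obtain ⟨hpw, hyw⟩ := (hW w).1 hw
  set y' := s + w
  have hQy' : S.Q y' ≠ 0 := by
    rw [QuadraticMap.map_add ⇑S.Q, hQs, hQw, hsw]; simp
  have hy'1 : polar S.Q p y' = 0 := by simp [y', polar_add_right, hps, hpw]
  have hy'2 : polar S.Q y y' = 0 := by simp [y', polar_add_right, hys, hyw]
  have hsy' : polar S.Q s y' = 1 := by simp [y', polar_add_right, S.polar_self_zero hQs, hsw]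
  have hy'span : y' ∉ Submodule.span F {p, y} := by
    rw [Submodule.mem_span_pair]
    rintro ⟨α, β, h⟩
    rw [← h, polar_add_right, polar_smul_right, polar_smul_right, polar_comm (f := ⇑S.Q) s p, hps,
      polar_comm (f := ⇑S.Q) s y, hys] at hsy'
    simp at hsy'
  have hsspan : s ∉ Submodule.span F {p, y'} := by
    rw [Submodule.mem_span_pair]
    rintro ⟨α, β, h⟩
    have e2 := congrArg (fun v => polar S.Q v s) h
    simp only [polar_add_left, polar_smul_left, hps, S.polar_self_zero hQs,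
      polar_comm (f := ⇑S.Q) y' s, hsy'] at e2
    simp at e2
    have e1 := congrArg (fun v => polar S.Q v w) h
    simp only [e2, polar_add_left, polar_smul_left, hpw, hsw] at e1
    simp at e1
  have h2 := key y' s hQy' (h1 y' hy'1 hy'2) (h1 s hps hys) hsspan
  intro v hpv
  -- decompose along the two complements
  obtain ⟨z, hz1, hz2, hz3⟩ : ∃ z, polar S.Q p z = 0 ∧ polar S.Q y z = 0 ∧
      polar S.Q y' z = polar S.Q y' v :=
    ⟨polar S.Q y' v • s, by simp [polar_smul_right, hps], by simp [polar_smul_right, hys],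
      by rw [polar_smul_right, polar_comm (f := ⇑S.Q) y' s, hsy', smul_eq_mul, mul_one]⟩
  rw [← sub_add_cancel v z]
  exact add_mem (h2 _ (by rw [polar_sub_right, hpv, hz1, sub_zero])
    (by rw [polar_sub_right, hz3, sub_self])) (h1 z hz1 hz2)

theorem reg_iff {ω : X} {p : ι → F} (hp : S.Q p = 0) :
    S.Reg ω p ↔ S.stab ω p = (Submodule.span F {p}).toAddSubgroup := by
  constructor
  · intro h
    refine le_antisymm (fun v hv => h v hv.1 (hv.2 hp)) fun v hv => ?_
    obtain ⟨t, rfl⟩ := Submodule.mem_span_singleton.1 hv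
    exact S.span_le_stab ω hp t
  · intro h v hv hfix
    have : v ∈ S.stab ω p := (S.mem_stab hp).2 ⟨hv, hfix⟩
    rwa [h] at this

theorem reg_of_dl {ω : X} {p : ι → F} (hp : S.Q p = 0)
    (h : ∀ v, polar S.Q p v = 0 → v ∈ S.dl ω p) : S.Reg ω p := by
  rw [S.reg_iff hp, S.stab_eq_cperp_dl,
    le_antisymm (S.dl_le ω hp) fun v hv => h v (S.mem_pp.1 hv), S.cperp_sub, pp, S.orth_orth]

theorem dl_of_reg {ω : X} {p : ι → F} (hp : S.Q p = 0) (h : S.Reg ω p) :
    S.dl ω p = (S.pp p).toAddSubgroup := by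
  rw [dl, (S.reg_iff hp).1 h, S.cperp_sub, pp]

theorem fixed_iff {ω : X} {p : ι → F} (hp : S.Q p = 0) :
    S.Fixed ω p ↔ S.stab ω p = (S.pp p).toAddSubgroup := by
  constructor
  · intro h
    exact le_antisymm (S.stab_le ω p) fun v hv => (S.mem_stab hp).2 ⟨S.mem_pp.1 hv, h v (S.mem_pp.1 hv)⟩
  · intro h v hv
    have : v ∈ S.stab ω p := by rw [h]; exact S.mem_pp.2 hv
    exact this.2 hp

theorem orb_card_reg [Finite X] {ω : X} {p : ι → F} (hp : S.Q p = 0) (hp0 : p ≠ 0) (h : S.Reg ω p) :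
    (S.orb ω p).ncard = Fintype.card F ^ (Fintype.card ι - 2) := by
  have h1 := S.card_dl ω hp hp0
  rw [S.dl_of_reg hp h] at h1
  change Nat.card (S.pp p) = _ at h1
  rw [card_sub, S.finrank_pp hp0,
    show Fintype.card ι - 1 = (Fintype.card ι - 2) + 1 by have := S.seven; omega, pow_succ'] at h1
  exact (Nat.eq_of_mul_eq_mul_left Fintype.card_pos h1).symm

theorem self_mem_lsp (ω : X) (p : ι → F) : p ∈ S.lsp ω p :=
  Submodule.subset_span (by simpa using S.smul_self_mem_dl ω p 1)

theorem lsp_le_pp (ω : X) {p : ι → F} (hp : S.Q p = 0) : S.lsp ω p ≤ S.pp p :=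
  Submodule.span_le.2 fun _ hy => S.dl_le ω hp hy

/-- the stabiliser contains the complement of the span of the dual -/
theorem orth_lsp_le (ω : X) (p : ι → F) : (S.orth (S.lsp ω p)).toAddSubgroup ≤ S.stab ω p := by
  rw [S.stab_eq_cperp_dl, ← S.cperp_sub]
  exact S.cperp_anti fun y hy => Submodule.subset_span hy

theorem perp_lsp_of_smul_mem {ω : X} {p r : ι → F} (h : ∀ t : F, t • r ∈ S.stab ω p) :
    r ∈ S.orth (S.lsp ω p) := by
  rw [lsp, S.mem_orth_span]
  intro y hy
  refine chi_zero_iff.1 fun t => ?_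
  have := hy _ (h t)
  rwa [polar_smul_left, polar_comm, smul_eq_mul] at this

theorem lsp_ne_span {ω : X} {p : ι → F} (hp : S.Q p = 0) (hf : ¬ S.Fixed ω p) :
    S.lsp ω p ≠ Submodule.span F {p} := by
  intro h
  apply hf
  rw [S.fixed_iff hp]
  refine le_antisymm (S.stab_le ω p) ?_
  have := S.orth_lsp_le ω p
  rwa [h] at this

/-- the two small types -/
theorem lsp_cases (hinv : S.Inv X) {ω : X} {p : ι → F} (hp : S.Q p = 0) (hp0 : p ≠ 0)
    (hr : ¬ S.Reg ω p) :
    (∃ y, S.Q y ≠ 0 ∧ y ∈ S.dl ω p ∧ S.lsp ω p = Submodule.span F {p, y}) ∨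
      (∀ v ∈ S.lsp ω p, S.Q v = 0) := by
  by_cases h : ∃ y, y ∈ S.dl ω p ∧ S.Q y ≠ 0
  · obtain ⟨y, hyd, hy⟩ := h
    refine Or.inl ⟨y, hy, hyd, le_antisymm (Submodule.span_le.2 fun x hx => ?_) (Submodule.span_le.2 ?_)⟩
    · by_contra hc
      exact hr (S.reg_of_dl hp (S.dl_big hinv hp hp0 hy hyd hx hc))
    · intro z hz
      simp only [Set.mem_insert_iff, Set.mem_singleton_iff] at hz
      rcases hz with rfl | rfl
      · exact S.self_mem_lsp ω _
      · exact Submodule.subset_span hyd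
  · push Not at h
    refine Or.inr fun v hv => ?_
    suffices S.Q v = 0 ∧ ∀ w ∈ S.dl ω p, polar S.Q v w = 0 from this.1
    induction hv using Submodule.span_induction with
    | mem x hx =>
      refine ⟨h x hx, fun w hw => ?_⟩
      have := h (x + w) (add_mem hx hw)
      rwa [QuadraticMap.map_add ⇑S.Q, h x hx, h w hw, zero_add, zero_add] at this
    | zero => exact ⟨QuadraticMap.map_zero _, fun w _ => polar_zero_left _ _⟩
    | add x z hx hz hx' hz' =>
      have hxz : polar S.Q x z = 0 := by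
        have : S.lsp ω p ≤ LinearMap.ker (S.Q.polarBilin x) :=
          Submodule.span_le.2 fun w hw => hx'.2 w hw
        exact this hz
      refine ⟨by rw [QuadraticMap.map_add ⇑S.Q, hx'.1, hz'.1, hxz]; simp, fun w hw => ?_⟩
      rw [polar_add_left, hx'.2 w hw, hz'.2 w hw, add_zero]
    | smul t x _ hx' =>
      exact ⟨by rw [QuadraticMap.map_smul, hx'.1, smul_zero], fun w hw => by
        rw [polar_smul_left, hx'.2 w hw, smul_zero]⟩

/-- the commutator inequality -/
theorem pair_bound {ω : X} {p r : ι → F} (hp : S.Q p = 0) (hp0 : p ≠ 0) (hr : S.Q r = 0)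
    (hpr : polar S.Q p r = 0) (hrl : r ∉ S.orth (S.lsp ω p)) :
    p ∉ S.orth (S.lsp ω r) ∧
      Fintype.card ι ≤ Module.finrank F (S.lsp ω p) + Module.finrank F (S.lsp ω r) := by
  classical
  have hrp : polar S.Q r p = 0 := by rw [polar_comm, hpr]
  have h1 : p ∉ S.orth (S.lsp ω r) := by
    intro hc
    apply hrl
    refine S.perp_lsp_of_smul_mem fun t => ?_
    have h2 : (-t) • p ∈ S.stab ω r := S.orth_lsp_le ω r ((S.orth (S.lsp ω r)).smul_mem (-t) hc)
    refine (S.mem_stab hp).2 ⟨by rw [polar_smul_right, hpr, smul_zero], ?_⟩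
    have h3 := h2.2 hr
    rw [← S.el_smul_left hr hrp (-t)] at h3
    rw [show S.el p (t • r) = S.el ((-t) • r) p from ?_]
    · exact h3
    · rw [neg_smul, S.el_swap (u := p) (a := -(t • r)) hp
        (by rw [QuadraticMap.map_neg, QuadraticMap.map_smul, hr, smul_zero])
        (by rw [polar_neg_right, polar_smul_right, hpr, smul_zero, neg_zero]), neg_neg]
  refine ⟨h1, ?_⟩
  have hLp := S.lsp_le_pp ω hp
  have hLr := S.lsp_le_pp ω hr
  set A := S.orth (S.lsp ω p ⊔ Submodule.span F {r})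
  set B := S.orth (S.lsp ω r ⊔ Submodule.span F {p})
  have hA : ∀ a ∈ A, a ∈ S.orth (S.lsp ω p) ∧ polar S.Q r a = 0 := fun a ha =>
    ⟨S.mem_orth.2 fun w hw => S.mem_orth.1 ha w (Submodule.mem_sup_left hw),
      S.mem_orth.1 ha r (Submodule.mem_sup_right (Submodule.mem_span_singleton_self r))⟩
  have hB : ∀ b ∈ B, b ∈ S.orth (S.lsp ω r) ∧ polar S.Q p b = 0 := fun b hb =>
    ⟨S.mem_orth.2 fun w hw => S.mem_orth.1 hb w (Submodule.mem_sup_left hw),
      S.mem_orth.1 hb p (Submodule.mem_sup_right (Submodule.mem_span_singleton_self p))⟩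
  have hperp : ∀ a ∈ A, ∀ b ∈ B, polar S.Q a b = 0 := by
    intro a ha b hb
    obtain ⟨hap, har⟩ := hA a ha
    obtain ⟨hbr, hbp⟩ := hB b hb
    by_contra hne
    refine h1 (S.perp_lsp_of_smul_mem fun t => ?_)
    -- commutate the two stabilisers
    have ha' : (t / polar S.Q a b) • a ∈ S.stab ω p :=
      S.orth_lsp_le ω p ((S.orth _).smul_mem _ hap)
    have hb' : b ∈ S.stab ω r := S.orth_lsp_le ω r hbr
    have hpa : polar S.Q p a = 0 := S.mem_orth.1 hap p (S.self_mem_lsp ω p)
    set a' := (t / polar S.Q a b) • a with ha'def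
    have hpa' : polar S.Q p a' = 0 := by rw [polar_smul_right, hpa, smul_zero]
    have hra' : polar S.Q r a' = 0 := by rw [polar_smul_right, har, smul_zero]
    set g := S.el p a'
    have hgr : S.ap g r = r := S.ap_el_of_perp hp hpa' hrp hra'
    have hgb : S.ap g b = b + (-t) • p := by
      rw [S.ap_el hp hpa', polar_comm (f := ⇑S.Q) b p, hbp, zero_smul, add_zero, mul_zero, sub_zero]
      rw [ha'def, polar_smul_right, polar_comm (f := ⇑S.Q) b a, smul_eq_mul, div_mul_cancel₀ _ hne]
    have h4 := (S.mem_stab_ap g (ω := ω) hr).2 hb'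
    rw [ha'.2 hp, hgr, hgb] at h4
    have h5 := sub_mem hb' h4
    simpa using h5
  have hpA : p ∉ B := fun h => h1 (hB p h).1
  have hle : B ⊔ Submodule.span F {p} ≤ (S.lsp ω p ⊔ Submodule.span F {r}) ⊓ S.pp r := by
    refine sup_le (le_inf ?_ ?_) ((Submodule.span_singleton_le_iff_mem _ _).2
      ⟨Submodule.mem_sup_left (S.self_mem_lsp ω p), S.mem_pp.2 hrp⟩)
    · conv_rhs => rw [← S.orth_orth (S.lsp ω p ⊔ Submodule.span F {r})]
      exact fun b hb => S.mem_orth.2 fun a ha => hperp a ha b hb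
    · exact fun b hb => S.mem_pp.2 (S.mem_orth.1 (hB b hb).1 r (S.self_mem_lsp ω r))
  have hlt : (S.lsp ω p ⊔ Submodule.span F {r}) ⊓ S.pp r < S.lsp ω p ⊔ Submodule.span F {r} := by
    refine lt_of_le_of_ne inf_le_left fun h => hrl ?_
    refine S.mem_orth.2 fun w hw => ?_
    have hw' : w ∈ S.lsp ω p ⊔ Submodule.span F {r} := Submodule.mem_sup_left hw
    rw [← h] at hw'
    rw [polar_comm]
    exact S.mem_pp.1 hw'.2
  have hlt2 : B < B ⊔ Submodule.span F {p} := left_lt_sup.2 fun h =>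
    hpA (h (Submodule.mem_span_singleton_self p))
  have e1 := Submodule.finrank_mono hle
  have e2 := Submodule.finrank_lt_finrank_of_lt hlt
  have e3 := Submodule.finrank_lt_finrank_of_lt hlt2
  have e4 := Submodule.finrank_add_le_finrank_add_finrank (S.lsp ω p) (Submodule.span F {r})
  have e5 := Submodule.finrank_add_le_finrank_add_finrank (S.lsp ω r) (Submodule.span F {p})
  have e6 := S.finrank_orth (S.lsp ω r ⊔ Submodule.span F {p})
  have e7 : Module.finrank F (Submodule.span F {p}) = 1 := finrank_span_singleton hp0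
  have e8 : Module.finrank F (Submodule.span F {r}) ≤ 1 := by
    have := finrank_span_le_card (R := F) ({r} : Set (ι → F))
    simpa using this
  have e9 := finrank_le_n (S.lsp ω r ⊔ Submodule.span F {p})
  change Module.finrank F B = _ at e6
  omega

end Space

end CfsgLib.MinIndexOrth
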